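import Cfsg.Agent.R2.PX.W.Cl_m3
import Cfsg.Agent.R2.T1.Inf.Dia
import Cfsg.Agent.ChevFast.E7
import Mathlib
import Cfsg.Agent.Lib.ListFast
import Cfsg.Agent.Prune
set_option linter.all false

section
prune_inst 0x7fffb9ffffffffffdfff7fffa7feeffdfbbb1fffe6dff9cbffe06bff3bff379ecbc5ffaf0ff0b0fe1edfe11450b87853fb7eefffe86fdc7ffffdfff41ffbee5ff5f73508519c9cb40fbc0fff03f07f8a7f3fffffffffffffffffffffffffffbeffbfffffffff

-- part: R2/PX/TabA1_mg
section
set_option linter.all false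
open scoped Cfsg.Agent.FastGrp

-- part: R2/PX/TabA1
section
/-! # Pattern X: kernel check of the commutators, part 1 (helper3, generated) -/

set_option autoImplicit false
set_option maxRecDepth 100000

namespace Cfsg.Agent.R2.PX

private noncomputable def pt (r : ℕ) : ℕ := PT.getD r 0

private noncomputable def kk (s t : ℕ) : ℕ := lk (pt s) t

private noncomputable def tg (s t : ℕ) : ℕ := Nat.mul 16 (Nat.sub (Nat.div (kk s t) 2) 120)

private noncomputable def k2 (r s t : ℕ) : ℕ := Nat.land (Nat.shiftRight (pt r) (tg s t)) 65535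

private noncomputable def cF (r s t : ℕ) : ℕ :=
  @Bool.rec (fun _ => ℕ) (@Bool.rec (fun _ => ℕ) (Nat.xor (k2 r s t) (Nat.land (kk s t) 1)) 0 (Nat.beq (k2 r s t) 0)) 0
    (Nat.beq (kk s t) 0)

private theorem xor_low (a k : ℕ) : a ^^^ (k &&& 1) = 2 * (a / 2) + (k + a) % 2 := by
  rw [Nat.and_one_is_mod]
  rcases Nat.mod_two_eq_zero_or_one k with h | h
  · rw [h, Nat.xor_zero]
    omega
  · rw [h]
    rcases Nat.even_or_odd a with h1 | h1
    · rw [Nat.xor_one_of_even h1]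
      have := Nat.even_iff.1 h1
      omega
    · rw [Nat.xor_one_of_odd h1]
      have := Nat.odd_iff.1 h1
      omega

private theorem cF_eq (r s t : ℕ) : cF r s t = cc (pt r) (lk (pt s) t) := by
  show @Bool.rec (fun _ => ℕ) (@Bool.rec (fun _ => ℕ) (k2 r s t ^^^ (kk s t &&& 1)) 0 (Nat.beq (k2 r s t) 0)) 0
    (Nat.beq (kk s t) 0) = bif Nat.beq (kk s t) 0 then 0 else
      bif Nat.beq (k2 r s t) 0 then 0 else 2 * (k2 r s t / 2) + (kk s t + k2 r s t) % 2
  rw [xor_low]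
  cases Nat.beq (kk s t) 0 <;> cases Nat.beq (k2 r s t) 0 <;> rfl

private noncomputable def sup (r n : ℕ) : List ℕ :=
  @Nat.rec (fun _ => List ℕ) [] (fun t ih => @Bool.rec (fun _ => List ℕ) (t :: ih) ih (Nat.beq (kk r t) 0)) n

private theorem mem_sup {r t : ℕ} (h : Nat.beq (kk r t) 0 = false) : ∀ n, t < n → t ∈ sup r n
  | 0, hn => absurd hn (Nat.not_lt_zero t)
  | n + 1, hn => by
    show t ∈ @Bool.rec (fun _ => List ℕ) (n :: sup r n) (sup r n) (Nat.beq (kk r n) 0)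
    rcases Nat.lt_succ_iff_lt_or_eq.1 hn with h1 | rfl
    · cases Nat.beq (kk r n) 0
      · exact List.mem_cons_of_mem _ (mem_sup h n h1)
      · exact mem_sup h n h1
    · rw [h]
      exact List.mem_cons_self

private noncomputable def allL (p : ℕ → Bool) (l : List ℕ) : Bool :=
  @List.rec ℕ (fun _ => Bool) true (fun t _ ih => @Bool.rec (fun _ => Bool) false ih (p t)) l

private theorem brec {a b : Bool} (h : @Bool.rec (fun _ => Bool) false b a = true) : a = true ∧ b = true := by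
  cases a
  · exact Bool.noConfusion h
  · exact ⟨rfl, h⟩

private theorem allL_spec {p : ℕ → Bool} : ∀ {l : List ℕ}, allL p l = true → ∀ t ∈ l, p t = true
  | [], _, _, ht => absurd ht List.not_mem_nil
  | a :: l, h, t, ht => by
    obtain ⟨h1, h2⟩ := brec (a := p a) (b := allL p l) h
    rcases List.mem_cons.1 ht with rfl | ht
    · exact h1
    · exact allL_spec h2 t ht

private noncomputable def half (r s : ℕ) (f : ℕ → Bool) : Bool :=
  allL (fun t => @Bool.rec (fun _ => Bool) (f t) true (Nat.beq (k2 r s t) 0)) (sup s 120)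

private theorem half_spec {r s : ℕ} {f : ℕ → Bool} (h : half r s f = true) {t : ℕ} (ht : t < 120) :
    f t = true ∨ cF r s t = 0 := by
  unfold cF
  cases h1 : Nat.beq (kk s t) 0
  · have h2 := allL_spec h t (mem_sup h1 120 ht)
    revert h2
    cases Nat.beq (k2 r s t) 0
    · exact fun h2 => Or.inl h2
    · exact fun _ => Or.inr rfl
  · exact Or.inr rfl

private noncomputable def both (r s : ℕ) (m : ℕ → ℕ) : Bool :=
  @Bool.rec (fun _ => Bool) false (half s r fun t => cm (cF r s t) (cF s r t) (m t))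
    (half r s fun t => cm (cF r s t) (cF s r t) (m t))

private theorem both_spec {r s : ℕ} {m : ℕ → ℕ} (h : both r s m = true) {t : ℕ} (ht : t < 120) (hm : m t = 0) :
    cm (cF r s t) (cF s r t) (m t) = true := by
  obtain ⟨h1, h2⟩ := brec h
  rcases half_spec h1 ht with h3 | h3
  · exact h3
  rcases half_spec h2 ht with h4 | h4
  · exact h4
  rw [h3, h4, hm]
  rfl

private noncomputable def frc (n : ℕ) (k : ℕ → Bool) : Bool :=
  @Nat.rec (fun _ => Bool) (k 0) (fun m _ => k m) (Nat.succ n)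

private noncomputable def pair (r s e : ℕ) : Bool :=
  @Bool.rec (fun _ => Bool) (frc (Nat.div (Nat.sub e 2) 2) fun u => @Bool.rec (fun _ => Bool) false
    (allL (fun t => cm (cF r s t) (cF s r t) (sg e (kk u t))) (sup u 120)) (both r s fun t => sg e (kk u t)))
    (both r s fun _ => 0) (Nat.beq e 0)

private theorem pair_spec {r s e : ℕ} (h : pair r s e = true) : chkRS (pt r) (pt s) e = true := by
  have hW : ∀ b ∈ W56, b - 120 < 120 := fun b hb => by have := (W56_spec b hb).1; omega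
  show (bif Nat.beq e 0 then W56.all fun b => cm (cc (pt r) (lk (pt s) (b - 120))) (cc (pt s) (lk (pt r) (b - 120))) 0
    else W56.all fun b => cm (cc (pt r) (lk (pt s) (b - 120))) (cc (pt s) (lk (pt r) (b - 120)))
      (sg e (kk ((e - 2) / 2) (b - 120)))) = true
  unfold pair at h
  revert h
  cases Nat.beq e 0
  · intro h
    obtain ⟨h1, h2⟩ := brec (a := both r s fun t => sg e (kk ((e - 2) / 2) t)) h
    refine List.all_eq_true.2 fun b hb => ?_
    rw [← cF_eq, ← cF_eq]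
    cases h3 : Nat.beq (kk ((e - 2) / 2) (b - 120)) 0
    · exact allL_spec h2 _ (mem_sup h3 120 (hW b hb))
    · refine both_spec h1 (hW b hb) ?_
      show (bif Nat.beq (kk ((e - 2) / 2) (b - 120)) 0 then 0 else _) = 0
      rw [h3]
      rfl
  · intro h
    refine List.all_eq_true.2 fun b hb => ?_
    rw [← cF_eq, ← cF_eq]
    exact both_spec (m := fun _ => 0) h (hW b hb) rfl

private noncomputable def allN (p : ℕ → Bool) (n : ℕ) : Bool :=
  @Nat.rec (fun _ => Bool) true (fun t ih => @Bool.rec (fun _ => Bool) false ih (p t)) n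

private theorem allN_spec {p : ℕ → Bool} : ∀ {n : ℕ}, allN p n = true → ∀ t < n, p t = true
  | 0, _, t, ht => absurd ht (Nat.not_lt_zero t)
  | n + 1, h, t, ht => by
    obtain ⟨h1, h2⟩ := brec (a := p n) (b := allN p n) h
    rcases Nat.lt_succ_iff_lt_or_eq.1 ht with h3 | rfl
    · exact allN_spec h2 t h3
    · exact h1

private noncomputable def pc (r : ℕ) : ℕ := PC.getD r 0

private noncomputable def row (r : ℕ) : Bool :=
  allN (fun s => @Bool.rec (fun _ => Bool) (frc (lk (pc r) s) (pair r s)) true (Nat.beq s (Nat.sub 125 r))) r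

private theorem row_spec {r : ℕ} (h : row r = true) : chkA r = true := by
  show ((List.range r).all fun s => Nat.beq s (125 - r) || chkRS (pt r) (pt s) (lk (pc r) s)) = true
  refine List.all_eq_true.2 fun s hs => ?_
  have h1 : @Bool.rec (fun _ => Bool) (pair r s (lk (pc r) s)) true (Nat.beq s (125 - r)) = true :=
    allN_spec h s (List.mem_range.1 hs)
  revert h1
  cases Nat.beq s (125 - r)
  · exact fun h1 => pair_spec h1
  · exact fun _ => rfl

private noncomputable def _root_.Cfsg.Agent.KO44aa715.k0 : (by first | exact type_of% @Cfsg.Agent.R2.PX.frc | exact Unit : Sort _) := by first | (refine @Subtype.val _ (fun g => @Cfsg.Agent.R2.PX.frc = @g) (@Subtype.mk _ _ (@(fun x0 x1 => @x1 @x0)) ?_); rfl') | exact @Cfsg.Agent.R2.PX.frc | exact ()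
private theorem _root_.Cfsg.Agent.KO44aa715.e0 : (by first | exact @Cfsg.Agent.R2.PX.frc = @_root_.Cfsg.Agent.KO44aa715.k0 | exact True : Prop) := by first | (delta _root_.Cfsg.Agent.KO44aa715.k0; exact @Subtype.property _ (fun g => @Cfsg.Agent.R2.PX.frc = @g) _) | rfl | trivial
private noncomputable def _root_.Cfsg.Agent.KO44aa715.k1 : (by first | exact type_of% @Cfsg.Agent.R2.PX.lk | exact Unit : Sort _) := by first | (refine @Subtype.val _ (fun g => @Cfsg.Agent.R2.PX.lk = @g) (@Subtype.mk _ _ (@(fun x0 x1 => @Nat.land (@Nat.shiftRight @x0 (@Nat.mul (nat_lit 16) @x1)) (nat_lit 65535))) ?_); rfl') | exact @Cfsg.Agent.R2.PX.lk | exact ()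
private theorem _root_.Cfsg.Agent.KO44aa715.e1 : (by first | exact @Cfsg.Agent.R2.PX.lk = @_root_.Cfsg.Agent.KO44aa715.k1 | exact True : Prop) := by first | (delta _root_.Cfsg.Agent.KO44aa715.k1; exact @Subtype.property _ (fun g => @Cfsg.Agent.R2.PX.lk = @g) _) | rfl | trivial
private theorem _root_.Cfsg.Agent.KO44aa715.e2.{ku, kv} {α : Type kv} {M : List α → Sort ku} (φ : ∀ l, M l) {z : M List.nil} {s : ∀ a l, M l → M (List.cons a l)} (h0 : φ List.nil = z) (hs : ∀ a l, φ (List.cons a l) = s a l (φ l)) (l : List α) : φ l = @List.rec α M z s l := List.rec h0 (fun a l ih => (hs a l).trans (congrArg (s a l) ih)) l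
private noncomputable def _root_.Cfsg.Agent.KO44aa715.k4.{ku0} : type_of% @List.get?Internal.{ku0} := @(fun x0 x1 x2 => @List.rec.{(ku0+1), ku0} @x0 @(fun x3 => ℕ → @Option.{ku0} @x0) @(fun x3 => @Option.none.{ku0} _) @(fun x3 x4 x5 x6 => @Nat.rec.{(ku0+1)} @(fun x7 => @Option.{ku0} @x0) (@Option.some.{ku0} _ @x3) @(fun x7 x8 => @x5 @x7) @x6) @x1 @x2)
private theorem _root_.Cfsg.Agent.KO44aa715.e4.{ku0} : @List.get?Internal.{ku0} = @_root_.Cfsg.Agent.KO44aa715.k4.{ku0} := by delta _root_.Cfsg.Agent.KO44aa715.k4; funext a0 a1 a2; refine (congrFun (_root_.Cfsg.Agent.KO44aa715.e2 (fun a1 a2 => @List.get?Internal.{ku0} a0 a1 a2) ?_ (fun c0 c1 => ?_) a1) a2 :) <;> [(funext b0; (rfl')); (funext b0; (cases b0 with | @zero  => (rfl') | @succ b0_0 => (rfl')))]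
private noncomputable def _root_.Cfsg.Agent.KO44aa715.k5 : (by first | exact type_of% @Cfsg.Agent.R2.PX.cm | exact Unit : Sort _) := by first | (refine @Subtype.val _ (fun g => @Cfsg.Agent.R2.PX.cm = @g) (@Subtype.mk _ _ (@(fun x0 x1 x2 => @Bool.rec.{1} @(fun x3 => @Bool) (@Bool.rec.{1} @(fun x3 => @Bool) (@Bool.rec.{1} @(fun x3 => @Bool) @Bool.false (@Nat.beq @x1 (@Nat.add (@Nat.mul (nat_lit 2) (@Nat.div @x2 (nat_lit 2))) (@Nat.mod (@Nat.add @x2 (nat_lit 1)) (nat_lit 2)))) (@Nat.beq @x0 (nat_lit 0))) @Bool.true (@Bool.rec.{1} @(fun x3 => @Bool) @Bool.false (@Nat.beq @x1 (nat_lit 0)) (@Nat.beq @x0 @x2))) (@Nat.beq @x0 @x1) (@Nat.beq @x2 (nat_lit 0)))) ?_); rfl') | exact @Cfsg.Agent.R2.PX.cm | exact ()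
private theorem _root_.Cfsg.Agent.KO44aa715.e5 : (by first | exact @Cfsg.Agent.R2.PX.cm = @_root_.Cfsg.Agent.KO44aa715.k5 | exact True : Prop) := by first | (delta _root_.Cfsg.Agent.KO44aa715.k5; exact @Subtype.property _ (fun g => @Cfsg.Agent.R2.PX.cm = @g) _) | rfl | trivial
private noncomputable def _root_.Cfsg.Agent.KO44aa715.k6 : (by first | exact type_of% @Cfsg.Agent.R2.PX.tg | exact Unit : Sort _) := by first | (refine @Subtype.val _ (fun g => @Cfsg.Agent.R2.PX.tg = @g) (@Subtype.mk _ _ (@(fun x0 x1 => @Nat.mul (nat_lit 16) (@Nat.sub (@Nat.div (@Cfsg.Agent.KO44aa715.k1 (@Option.rec.{1, 0} ℕ @(fun x2 => ℕ) (nat_lit 0) @(fun x2 => @x2) (@Cfsg.Agent.KO44aa715.k4.{0} _ @Cfsg.Agent.R2.PX.PT @x0)) @x1) (nat_lit 2)) (nat_lit 120)))) ?_); rewrite [← Cfsg.Agent.KO44aa715.e4.{0}, ← Cfsg.Agent.KO44aa715.e1]; (try delta Cfsg.Agent.R2.PX.tg Cfsg.Agent.R2.PX.kk Cfsg.Agent.R2.PX.pt); (try generalize @Cfsg.Agent.R2.PX.lk = g0); (try generalize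 @Cfsg.Agent.R2.PX.PT = g1); rfl') | exact @Cfsg.Agent.R2.PX.tg | exact ()
private theorem _root_.Cfsg.Agent.KO44aa715.e6 : (by first | exact @Cfsg.Agent.R2.PX.tg = @_root_.Cfsg.Agent.KO44aa715.k6 | exact True : Prop) := by first | (delta _root_.Cfsg.Agent.KO44aa715.k6; exact @Subtype.property _ (fun g => @Cfsg.Agent.R2.PX.tg = @g) _) | rfl | trivial
private noncomputable def _root_.Cfsg.Agent.KO44aa715.k7 : (by first | exact type_of% @Cfsg.Agent.R2.PX.cF | exact Unit : Sort _) := by first | (refine @Subtype.val _ (fun g => @Cfsg.Agent.R2.PX.cF = @g) (@Subtype.mk _ _ (@(fun x0 x1 x2 => @Bool.rec.{1} @(fun x3 => ℕ) (@Bool.rec.{1} @(fun x3 => ℕ) (@Nat.xor (@Nat.land (@Nat.shiftRight (@Option.rec.{1, 0} ℕ @(fun x3 => ℕ) (nat_lit 0) @(fun x3 => @x3) (@Cfsg.Agent.KO44aa715.k4.{0} _ @Cfsg.Agent.R2.PX.PT @x0)) (@Cfsg.Agent.KO44aa715.k6 @x1 @x2)) (nat_lit 65535)) (@Nat.land (@Cfsg.Agent.KO44aa715.k1 (@Option.rec.{1, 0} ℕ @(fun x3 => ℕ) (nat_lit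 0) @(fun x3 => @x3) (@Cfsg.Agent.KO44aa715.k4.{0} _ @Cfsg.Agent.R2.PX.PT @x1)) @x2) (nat_lit 1))) (nat_lit 0) (@Nat.beq (@Nat.land (@Nat.shiftRight (@Option.rec.{1, 0} ℕ @(fun x3 => ℕ) (nat_lit 0) @(fun x3 => @x3) (@Cfsg.Agent.KO44aa715.k4.{0} _ @Cfsg.Agent.R2.PX.PT @x0)) (@Cfsg.Agent.KO44aa715.k6 @x1 @x2)) (nat_lit 65535)) (nat_lit 0))) (nat_lit 0) (@Nat.beq (@Cfsg.Agent.KO44aa715.k1 (@Option.rec.{1, 0} ℕ @(fun x3 => ℕ) (nat_lit 0) @(fun x3 => @x3) (@Cfsg.Agent.KO44aa715.k4.{0} _ @Cfsg.Agent.R2.PX.PT @x1)) @x2) (nat_lit 0)))) ?_); rewrite [← Cfsg.Agent.KO44aa715.e1, ← Cfsg.Agent.KO44aa715.e6, ← Cfsg.Agent.KO44aa715.e4.{0}]; (try delta Cfsg.Agent.R2.PX.cF Cfsg.Agent.R2.PX.kk Cfsg.Agent.R2.PX.pt Cfsg.Agent.R2.PX.k2); (try generalize @Cfsg.Agent.R2.PX.PT = g0); (try generalize @Cfsg.Agent.R2.PX.tg = g1); (try generalize @Cfsg.Agent.R2.PX.lk = g2); rfl') | exact @Cfsg.Agent.R2.PX.cF | exact ()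
private theorem _root_.Cfsg.Agent.KO44aa715.e7 : (by first | exact @Cfsg.Agent.R2.PX.cF = @_root_.Cfsg.Agent.KO44aa715.k7 | exact True : Prop) := by first | (delta _root_.Cfsg.Agent.KO44aa715.k7; exact @Subtype.property _ (fun g => @Cfsg.Agent.R2.PX.cF = @g) _) | rfl | trivial
private noncomputable def _root_.Cfsg.Agent.KO44aa715.k8 : (by first | exact type_of% @Cfsg.Agent.R2.PX.sg | exact Unit : Sort _) := by first | (refine @Subtype.val _ (fun g => @Cfsg.Agent.R2.PX.sg = @g) (@Subtype.mk _ _ (@(fun x0 x1 => @Bool.rec.{1} @(fun x2 => ℕ) (@Nat.add (@Nat.mul (nat_lit 2) (@Nat.div @x1 (nat_lit 2))) (@Nat.mod (@Nat.add @x0 @x1) (nat_lit 2))) (nat_lit 0) (@Nat.beq @x1 (nat_lit 0)))) ?_); rfl') | exact @Cfsg.Agent.R2.PX.sg | exact ()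
private theorem _root_.Cfsg.Agent.KO44aa715.e8 : (by first | exact @Cfsg.Agent.R2.PX.sg = @_root_.Cfsg.Agent.KO44aa715.k8 | exact True : Prop) := by first | (delta _root_.Cfsg.Agent.KO44aa715.k8; exact @Subtype.property _ (fun g => @Cfsg.Agent.R2.PX.sg = @g) _) | rfl | trivial
private noncomputable def _root_.Cfsg.Agent.KO44aa715.k9 : (by first | exact type_of% @Cfsg.Agent.R2.PX.sup | exact Unit : Sort _) := by first | (refine @Subtype.val _ (fun g => @Cfsg.Agent.R2.PX.sup = @g) (@Subtype.mk _ _ (@(fun x0 x1 => @Nat.rec.{1} @(fun x2 => @List.{0} ℕ) [] @(fun x2 x3 => @Bool.rec.{1} @(fun x4 => @List.{0} ℕ) (@x2 :: @x3) @x3 (@Nat.beq (@Cfsg.Agent.KO44aa715.k1 (@Option.rec.{1, 0} ℕ @(fun x4 => ℕ) (nat_lit 0) @(fun x4 => @x4) (@Cfsg.Agent.KO44aa715.k4.{0} _ @Cfsg.Agent.R2.PX.PT @x0)) @x2) (nat_lit 0))) @x1)) ?_); rewrite [← Cfsg.Agent.KO44aa715.e4.{0}, ← Cfsg.Agent.KO44aa715.e1]; (try delta Cfsg.Agent.R2.PX.sup Cfsg.Agent.R2.PX.kk Cfsg.Agent.R2.PX.pt);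 (try generalize @Cfsg.Agent.R2.PX.lk = g0); (try generalize @Cfsg.Agent.R2.PX.PT = g1); rfl') | exact @Cfsg.Agent.R2.PX.sup | exact ()
private theorem _root_.Cfsg.Agent.KO44aa715.e9 : (by first | exact @Cfsg.Agent.R2.PX.sup = @_root_.Cfsg.Agent.KO44aa715.k9 | exact True : Prop) := by first | (delta _root_.Cfsg.Agent.KO44aa715.k9; exact @Subtype.property _ (fun g => @Cfsg.Agent.R2.PX.sup = @g) _) | rfl | trivial
private noncomputable def _root_.Cfsg.Agent.KO44aa715.k10 : (by first | exact type_of% @Cfsg.Agent.R2.PX.half | exact Unit : Sort _) := by first | (refine @Subtype.val _ (fun g => @Cfsg.Agent.R2.PX.half = @g) (@Subtype.mk _ _ (@(fun x0 x1 x2 => @Cfsg.Agent.R2.PX.allL @(fun x3 => @Bool.rec.{1} @(fun x4 => @Bool) (@x2 @x3) @Bool.true (@Nat.beq (@Nat.land (@Nat.shiftRight (@Option.rec.{1, 0} ℕ @(fun x4 => ℕ) (nat_lit 0) @(fun x4 => @x4) (@Cfsg.Agent.KO44aa715.k4.{0} _ @Cfsg.Agent.R2.PX.PT @x0)) (@Cfsg.Agent.KO44aa715.k6 @x1 @x3))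 (nat_lit 65535)) (nat_lit 0))) (@Cfsg.Agent.KO44aa715.k9 @x1 (nat_lit 120)))) ?_); rewrite [← Cfsg.Agent.KO44aa715.e9, ← Cfsg.Agent.KO44aa715.e6, ← Cfsg.Agent.KO44aa715.e4.{0}]; (try delta Cfsg.Agent.R2.PX.half Cfsg.Agent.R2.PX.k2 Cfsg.Agent.R2.PX.pt); (try generalize @Cfsg.Agent.R2.PX.allL = g0); (try generalize @Cfsg.Agent.R2.PX.PT = g1); (try generalize @Cfsg.Agent.R2.PX.tg = g2); (try generalize @Cfsg.Agent.R2.PX.sup = g3); rfl') | exact @Cfsg.Agent.R2.PX.half | exact ()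
private theorem _root_.Cfsg.Agent.KO44aa715.e10 : (by first | exact @Cfsg.Agent.R2.PX.half = @_root_.Cfsg.Agent.KO44aa715.k10 | exact True : Prop) := by first | (delta _root_.Cfsg.Agent.KO44aa715.k10; exact @Subtype.property _ (fun g => @Cfsg.Agent.R2.PX.half = @g) _) | rfl | trivial
private noncomputable def _root_.Cfsg.Agent.KO44aa715.k11 : (by first | exact type_of% @Cfsg.Agent.R2.PX.both | exact Unit : Sort _) := by first | (refine @Subtype.val _ (fun g => @Cfsg.Agent.R2.PX.both = @g) (@Subtype.mk _ _ (@(fun x0 x1 x2 => @Bool.rec.{1} @(fun x3 => @Bool) @Bool.false (@Cfsg.Agent.KO44aa715.k10 @x1 @x0 @(fun x3 => @Cfsg.Agent.KO44aa715.k5 (@Cfsg.Agent.KO44aa715.k7 @x0 @x1 @x3) (@Cfsg.Agent.KO44aa715.k7 @x1 @x0 @x3) (@x2 @x3))) (@Cfsg.Agent.KO44aa715.k10 @x0 @x1 @(fun x3 => @Cfsg.Agent.KO44aa715.k5 (@Cfsg.Agent.KO44aa715.k7 @x0 @x1 @x3) (@Cfsg.Agent.KO44aa715.k7 @x1 @x0 @x3) (@x2 @x3))))) ?_); rewrite [← Cfsg.Agent.KO44aa715.e7, ←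 Cfsg.Agent.KO44aa715.e5, ← Cfsg.Agent.KO44aa715.e10]; (try delta Cfsg.Agent.R2.PX.both); (try generalize @Cfsg.Agent.R2.PX.half = g0); (try generalize @Cfsg.Agent.R2.PX.cm = g1); (try generalize @Cfsg.Agent.R2.PX.cF = g2); rfl') | exact @Cfsg.Agent.R2.PX.both | exact ()
private theorem _root_.Cfsg.Agent.KO44aa715.e11 : (by first | exact @Cfsg.Agent.R2.PX.both = @_root_.Cfsg.Agent.KO44aa715.k11 | exact True : Prop) := by first | (delta _root_.Cfsg.Agent.KO44aa715.k11; exact @Subtype.property _ (fun g => @Cfsg.Agent.R2.PX.both = @g) _) | rfl | trivial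
private noncomputable def _root_.Cfsg.Agent.KO44aa715.k12 : (by first | exact type_of% @Cfsg.Agent.R2.PX.pair | exact Unit : Sort _) := by first | (refine @Subtype.val _ (fun g => @Cfsg.Agent.R2.PX.pair = @g) (@Subtype.mk _ _ (@(fun x0 x1 x2 => @Bool.rec.{1} @(fun x3 => @Bool) (@Cfsg.Agent.KO44aa715.k0 (@Nat.div (@Nat.sub @x2 (nat_lit 2)) (nat_lit 2)) @(fun x3 => @Bool.rec.{1} @(fun x4 => @Bool) @Bool.false (@Cfsg.Agent.R2.PX.allL @(fun x4 => @Cfsg.Agent.KO44aa715.k5 (@Cfsg.Agent.KO44aa715.k7 @x0 @x1 @x4) (@Cfsg.Agent.KO44aa715.k7 @x1 @x0 @x4) (@Cfsg.Agent.KO44aa715.k8 @x2 (@Cfsg.Agent.KO44aa715.k1 (@Option.rec.{1, 0} ℕ @(fun x5 => ℕ) (nat_lit 0) @(fun x5 => @x5) (@Cfsg.Agent.KO44aa715.k4.{0} _ @Cfsg.Agent.R2.PX.PT @x3)) @x4))) (@Cfsg.Agent.KO44aa715.k9 @x3 (nat_lit 120))) (@Cfsg.Agent.KO44aa715.k11 @x0 @x1 @(fun x4 => @Cfsg.Agent.KO44aa715.k8 @x2 (@Cfsg.Agent.KO44aa715.k1 (@Option.rec.{1, 0} ℕ @(fun x5 => ℕ) (nat_lit 0) @(fun x5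 => @x5) (@Cfsg.Agent.KO44aa715.k4.{0} _ @Cfsg.Agent.R2.PX.PT @x3)) @x4))))) (@Cfsg.Agent.KO44aa715.k11 @x0 @x1 @(fun x3 => nat_lit 0)) (@Nat.beq @x2 (nat_lit 0)))) ?_); rewrite [← Cfsg.Agent.KO44aa715.e11, ← Cfsg.Agent.KO44aa715.e9, ← Cfsg.Agent.KO44aa715.e4.{0}, ← Cfsg.Agent.KO44aa715.e1, ← Cfsg.Agent.KO44aa715.e8, ← Cfsg.Agent.KO44aa715.e7, ← Cfsg.Agent.KO44aa715.e5, ← Cfsg.Agent.KO44aa715.e0]; (try delta Cfsg.Agent.R2.PX.pair Cfsg.Agent.R2.PX.kk Cfsg.Agent.R2.PX.pt); (try generalize @Cfsg.Agent.R2.PX.frc = g0); (try generalize @Cfsg.Agent.R2.PX.allL = g1); (try generalize @Cfsg.Agent.R2.PX.cm = g2); (try generalize @Cfsg.Agent.R2.PX.cF = g3); (try generalize @Cfsg.Agent.R2.PX.sg = g4); (try generalize @Cfsg.Agent.R2.PX.lk = g5); (try generalize @Cfsg.Agent.R2.PX.PT = g6); (try generalize @Cfsg.Agent.R2.PX.sup = g7); (try generalize @Cfsg.Agent.R2.PX.both = g8); rfl') | exact @Cfsg.Agent.R2.PX.pair | exact ()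
private theorem _root_.Cfsg.Agent.KO44aa715.e12 : (by first | exact @Cfsg.Agent.R2.PX.pair = @_root_.Cfsg.Agent.KO44aa715.k12 | exact True : Prop) := by first | (delta _root_.Cfsg.Agent.KO44aa715.k12; exact @Subtype.property _ (fun g => @Cfsg.Agent.R2.PX.pair = @g) _) | rfl | trivial
private noncomputable def _root_.Cfsg.Agent.KO44aa715.k13 : (by first | exact type_of% @Cfsg.Agent.R2.PX.row | exact Unit : Sort _) := by first | (refine @Subtype.val _ (fun g => @Cfsg.Agent.R2.PX.row = @g) (@Subtype.mk _ _ (@(fun x0 => @Nat.rec.{1} @(fun x1 => @Bool) @Bool.true @(fun x1 x2 => @Bool.rec.{1} @(fun x3 => @Bool) @Bool.false @x2 (@Bool.rec.{1} @(fun x3 => @Bool) (@Cfsg.Agent.KO44aa715.k0 (@Cfsg.Agent.KO44aa715.k1 (@Option.rec.{1, 0} ℕ @(fun x3 => ℕ) (nat_lit 0) @(fun x3 => @x3) (@Cfsg.Agent.KO44aa715.k4.{0} _ @Cfsg.Agent.R2.PX.PC @x0)) @x1) (@Cfsg.Agent.KO44aa715.k12 @x0 @x1)) @Bool.true (@Nat.beq @x1 (@Nat.sub (nat_lit 125) @x0)))) @x0))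 ?_); rewrite [← Cfsg.Agent.KO44aa715.e12, ← Cfsg.Agent.KO44aa715.e4.{0}, ← Cfsg.Agent.KO44aa715.e1, ← Cfsg.Agent.KO44aa715.e0]; (try delta Cfsg.Agent.R2.PX.row Cfsg.Agent.R2.PX.allN Cfsg.Agent.R2.PX.pc); (try generalize @Cfsg.Agent.R2.PX.frc = g0); (try generalize @Cfsg.Agent.R2.PX.lk = g1); (try generalize @Cfsg.Agent.R2.PX.PC = g2); (try generalize @Cfsg.Agent.R2.PX.pair = g3); rfl') | exact @Cfsg.Agent.R2.PX.row | exact ()
private theorem _root_.Cfsg.Agent.KO44aa715.e13 : (by first | exact @Cfsg.Agent.R2.PX.row = @_root_.Cfsg.Agent.KO44aa715.k13 | exact True : Prop) := by first | (delta _root_.Cfsg.Agent.KO44aa715.k13; exact @Subtype.property _ (fun g => @Cfsg.Agent.R2.PX.row = @g) _) | rfl | trivial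

private theorem rows0 : allN row 90 = true := by (first | (rewrite [Cfsg.Agent.KO44aa715.e13]; decide +kernel) | decide +kernel)

private theorem rows1 : allN (fun i => frc (Nat.add 90 i) row) 36 = true := by decide +kernel

/-- all rows -/
theorem chkA_rows (a n : ℕ) (h : a + n ≤ 126) : (List.range' a n).all chkA = true := by
  refine List.all_eq_true.2 fun r hr => row_spec ?_
  rw [List.mem_range'_1] at hr
  by_cases h1 : r < 90
  · exact allN_spec rows0 r h1
  · have h2 : row (90 + (r - 90)) = true := allN_spec rows1 (r - 90) (by omega)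
    rwa [Nat.add_sub_cancel' (by omega)] at h2

theorem chkA_1a : (List.range' 66 12).all chkA = true := chkA_rows _ _ (by decide)

theorem chkA_1b : (List.range' 78 12).all chkA = true := chkA_rows _ _ (by decide)

end Cfsg.Agent.R2.PX
end

-- part: R2/PX/TabA3
section
/-! # Pattern X: kernel check of the commutators, part 3 (helper3, generated) -/

set_option autoImplicit false
set_option maxRecDepth 100000

namespace Cfsg.Agent.R2.PX

theorem chkA_3a : (List.range' 109 8).all chkA = true := chkA_rows _ _ (by decide)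

theorem chkA_3b : (List.range' 117 9).all chkA = true := chkA_rows _ _ (by decide)

end Cfsg.Agent.R2.PX
end
end

-- part: R2/PX/Del
section
prune_inst 0x20000000080010000004000000000030000000000000002100000010600000018000008100000000000000000000000000000000000000000208000400002000104060009800000000000000000000000000000000000041004000000000
set_option linter.all false
open scoped Cfsg.Agent.FastGrp

-- part: R2/PX/TabA0
section
/-! # Pattern X: kernel check of the commutators, part 0 (helper3, generated) -/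

set_option autoImplicit false
set_option maxRecDepth 100000

namespace Cfsg.Agent.R2.PX

theorem chkA_0a : (List.range' 0 33).all chkA = true := chkA_rows _ _ (by decide)

theorem chkA_0b : (List.range' 33 33).all chkA = true := chkA_rows _ _ (by decide)

end Cfsg.Agent.R2.PX
end

-- part: R2/PX/TabA2
section
/-! # Pattern X: kernel check of the commutators, part 2 (helper3, generated) -/

set_option autoImplicit false
set_option maxRecDepth 100000

namespace Cfsg.Agent.R2.PX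

theorem chkA_2a : (List.range' 90 9).all chkA = true := chkA_rows _ _ (by decide)

theorem chkA_2b : (List.range' 99 10).all chkA = true := chkA_rows _ _ (by decide)

end Cfsg.Agent.R2.PX
end

-- part: R2/PX/Com
section
/-!
# Pattern X: the commutators of the root vectors on the 56-dimensional module (helper3)

* `cs r s` : `[e_r, e_s] = c e_u` for `cs r s = some (u, c)`;
* `NM_comm`, `NM_comm_neg` : the commutators of the matrices `NM F r`;
* `Hd F r` : the matrix of the coroot of `r`; `Hi F i` : of the `i`-th simple coroot.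
-/

set_option autoImplicit false
set_option maxRecDepth 100000

namespace Cfsg.Agent.R2.PX

open Cfsg Cfsg.Lie Matrix
open Cfsg.Agent.R2.T1
open Cfsg.Agent.ChevalleyStructure.Elts Cfsg.Agent.ChevalleyStructure.RootVec
  Cfsg.Agent.ChevalleyStructure.RootVecTab
open Cfsg.Agent.H943.E7V.Block (D1 rho)

universe u
variable (F : Type u) [Field F]

/-- the vector of a code -/
def vc (k : ℕ) : D1 → F := fun a => if k = 0 then 0 else if nn a = k / 2 then (if k % 2 = 0 then 1 else -1) else 0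

variable {F}

theorem vc_zero : vc F 0 = 0 := by funext a; simp [vc]

theorem bs_apply (a b : D1) : bs F a b = if nn b = nn a then 1 else 0 := by
  unfold bs
  by_cases h : b = a
  · rw [h]; simp
  · rw [Pi.single_eq_of_ne h, if_neg fun h' => h (nn_inj h')]

theorem NM_bs_none {r : ℕ} {b : D1} (h : mv r (nn b) = none) : NM F r *ᵥ bs F b = 0 := by
  funext x
  rw [bs, Matrix.mulVec_single_one, Matrix.col_apply]
  show ((nz r x b : ℤ) : F) = _
  rw [nz_none h]; simp

theorem NM_bs_some {r : ℕ} {a b : D1} {c : ℤ} (h : mv r (nn b) = some (nn a, c)) :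
    NM F r *ᵥ bs F b = (c : F) • bs F a := by
  funext x
  rw [bs, Matrix.mulVec_single_one, Matrix.col_apply]
  show ((nz r x b : ℤ) : F) = _
  rw [nz_some h, Pi.smul_apply, bs]
  by_cases hx : x = a
  · rw [if_pos hx, hx, Pi.single_eq_same, smul_eq_mul, mul_one]
  · rw [if_neg hx, Pi.single_eq_of_ne hx, smul_zero, Int.cast_zero]

theorem sq_cases {c : ℤ} (h : c * c = 1) : c = 1 ∨ c = -1 := by
  have h1 : (c - 1) * (c + 1) = 0 := by ring_nf; rw [pow_two, h]; rfl
  rcases mul_eq_zero.1 h1 with h | h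
  · left; linarith
  · right; linarith

theorem lk_PT {r : ℕ} (hr : r < 126) (b : D1) : lk (PT.getD r 0) (nn b - 120) = code (mv r (nn b)) := by
  have h := List.all_eq_true.1 (List.all_eq_true.1 chkPT r (List.mem_range.2 hr)) (nn b) (nn_mem b)
  exact Nat.eq_of_beq_eq_true h

/-- codes of signed weights -/
def VC (k : ℕ) : Prop := k = 0 ∨ ∃ b : D1, k / 2 = nn b

theorem two_le_nn (a : D1) : 2 ≤ nn a := by
  have h : ∀ s ∈ W56, 2 ≤ s := by decide +kernel
  exact h _ (nn_mem a)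

theorem VC_lk {r : ℕ} (hr : r < 126) (b : D1) : VC (lk (PT.getD r 0) (nn b - 120)) := by
  rw [lk_PT hr]
  rcases mv_spec hr b with h | ⟨a, c, h, h1, -, -⟩
  · left; rw [h]; rfl
  · right
    refine ⟨a, ?_⟩
    rw [h]
    rcases sq_cases h1 with rfl | rfl
    · show (2 * nn a + 0) / 2 = _
      omega
    · show (2 * nn a + 1) / 2 = _
      omega

theorem beq_zero_false {k : ℕ} (h : k ≠ 0) : Nat.beq k 0 = false := by
  cases k with
  | zero => exact absurd rfl h
  | succ n => rfl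

/-- the sign of a code -/
def se (F : Type u) [Field F] (k : ℕ) : F := if k % 2 = 0 then 1 else -1

theorem vc_ne {k : ℕ} {b : D1} (h0 : k ≠ 0) (h : k / 2 = nn b) : vc F k = se F k • bs F b := by
  funext x
  unfold vc se
  rw [Pi.smul_apply, bs_apply, if_neg h0, h, smul_eq_mul]
  split_ifs <;> simp

theorem se_one : se F 1 = -1 := by unfold se; simp

theorem NM_bs {r : ℕ} (hr : r < 126) (b : D1) : NM F r *ᵥ bs F b = vc F (lk (PT.getD r 0) (nn b - 120)) := by
  rw [lk_PT hr]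
  rcases mv_spec hr b with h | ⟨a, c, h, h1, -, -⟩
  · rw [NM_bs_none h, h]; exact vc_zero.symm
  · have h2a := two_le_nn a
    rw [NM_bs_some h, h]
    rcases sq_cases h1 with rfl | rfl
    · show _ = vc F (2 * nn a + 0)
      rw [vc_ne (b := a) (by omega) (by omega)]
      have : se F (2 * nn a + 0) = 1 := by unfold se; rw [if_pos (by omega)]
      rw [this]; simp
    · show _ = vc F (2 * nn a + 1)
      rw [vc_ne (b := a) (by omega) (by omega)]
      have : se F (2 * nn a + 1) = -1 := by unfold se; rw [if_neg (by omega)]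
      rw [this]; simp

theorem se_half (k j : ℕ) : se F (2 * (j / 2) + (k + j) % 2) = se F k * se F j := by
  unfold se
  rcases Nat.mod_two_eq_zero_or_one k with hi | hi <;> rcases Nat.mod_two_eq_zero_or_one j with hj | hj
  · rw [if_pos (by omega), if_pos hi, if_pos hj]; ring
  · rw [if_neg (by omega), if_pos hi, if_neg (by omega)]; ring
  · rw [if_neg (by omega), if_neg (by omega), if_pos hj]; ring
  · rw [if_pos (by (solve | lia | omega)), if_neg (by omega), if_neg (by omega)]; ring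

/-- a code of a signed weight is at least 4 -/
theorem VC.ne {k : ℕ} (h : VC k) (h0 : k ≠ 0) : ∃ b : D1, k / 2 = nn b ∧ 2 ≤ nn b := by
  rcases h with h | ⟨b, h⟩
  · exact absurd h h0
  · exact ⟨b, h, two_le_nn b⟩

theorem vc_sg (e : ℕ) {k : ℕ} (hk : VC k) : vc F (sg e k) = se F e • vc F k := by
  unfold sg
  by_cases h0 : k = 0
  · subst h0; simp [vc_zero]
  · obtain ⟨b, hb, hb2⟩ := hk.ne h0
    have h1 : Nat.beq k 0 = false := beq_zero_false h0
    rw [h1, cond_false, vc_ne (b := b) (by omega) (by omega), vc_ne h0 hb, se_half, smul_smul]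

theorem VC_sg (e : ℕ) {k : ℕ} (hk : VC k) : VC (sg e k) := by
  unfold sg
  by_cases h0 : k = 0
  · subst h0; left; rfl
  · obtain ⟨b, hb, hb2⟩ := hk.ne h0
    have h1 : Nat.beq k 0 = false := beq_zero_false h0
    rw [h1, cond_false]
    right
    exact ⟨b, by omega⟩

theorem NM_vc {r : ℕ} (hr : r < 126) {k : ℕ} (hk : VC k) : NM F r *ᵥ vc F k = vc F (cc (PT.getD r 0) k) := by
  unfold cc
  by_cases h0 : k = 0
  · subst h0; simp [vc_zero]
  · obtain ⟨b, hb, hb2⟩ := hk.ne h0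
    have h1 : Nat.beq k 0 = false := beq_zero_false h0
    rw [h1, cond_false, vc_ne h0 hb, Matrix.mulVec_smul, NM_bs hr, hb]
    dsimp only
    have hv := VC_lk hr b
    by_cases h2 : lk (PT.getD r 0) (nn b - 120) = 0
    · rw [h2]; simp [vc_zero]
    · obtain ⟨b', hb', hb2'⟩ := hv.ne h2
      have h3 : Nat.beq (lk (PT.getD r 0) (nn b - 120)) 0 = false := beq_zero_false h2
      rw [h3, cond_false, vc_ne h2 hb', vc_ne (b := b') (by omega) (by omega), se_half, smul_smul]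

theorem vc_cm {l1 l2 m : ℕ} (hm : VC m) (h : cm l1 l2 m = true) : vc F l1 - vc F l2 = vc F m := by
  unfold cm at h
  by_cases h0 : m = 0
  · subst h0
    have h1 : l1 = l2 := Nat.eq_of_beq_eq_true h
    rw [h1, vc_zero, sub_self]
  · obtain ⟨b, hb, hb2⟩ := hm.ne h0
    have h1 : Nat.beq m 0 = false := beq_zero_false h0
    rw [h1, cond_false, Bool.or_eq_true, Bool.and_eq_true, Bool.and_eq_true] at h
    rcases h with ⟨h2, h3⟩ | ⟨h2, h3⟩
    · rw [Nat.eq_of_beq_eq_true h2, Nat.eq_of_beq_eq_true h3, vc_zero, sub_zero]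
    · rw [Nat.eq_of_beq_eq_true h2, Nat.eq_of_beq_eq_true h3, vc_zero, vc_ne (b := b) (by omega) (by omega),
        vc_ne h0 hb]
      have h4 : se F (2 * (m / 2) + (m + 1) % 2) = - se F m := by
        rw [Nat.add_comm m 1, se_half, se_one, neg_one_mul]
      rw [h4, neg_smul]; simp

theorem mat_ext {A B : Matrix D1 D1 F} (h : ∀ b, A *ᵥ bs F b = B *ᵥ bs F b) : A = B := by
  ext a b
  have := congrFun (h b) a
  rwa [bs, Matrix.mulVec_single_one, Matrix.mulVec_single_one] at this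

/-- the structure constants -/
def cs (r s : ℕ) : Option (ℕ × ℤ) :=
  if lk (PC.getD r 0) s = 0 then none else
    some ((lk (PC.getD r 0) s - 2) / 2, if lk (PC.getD r 0) s % 2 = 0 then 1 else -1)

variable (F)

/-- the right hand side of the commutator relation -/
noncomputable def csM (r s : ℕ) : Matrix D1 D1 F :=
  match cs r s with
  | none => 0
  | some (u, c) => (c : F) • NM F u

variable {F}

theorem csM_zero {r s : ℕ} (h : lk (PC.getD r 0) s = 0) : csM F r s = 0 := by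
  unfold csM cs; rw [if_pos h]

theorem csM_ne {r s : ℕ} (h : lk (PC.getD r 0) s ≠ 0) :
    csM F r s = se F (lk (PC.getD r 0) s) • NM F ((lk (PC.getD r 0) s - 2) / 2) := by
  unfold csM cs; rw [if_neg h]
  dsimp only
  unfold se
  split_ifs <;> simp only [_root_.Int.cast_one, _root_.List.getD_eq_getElem?_getD, _root_.one_smul, _root_.Int.reduceNeg, _root_.Int.cast_neg, _root_.neg_smul]

theorem PC_spec {r s : ℕ} (hr : r < 126) (hs : s < 126) :
    (lk (PC.getD r 0) s = 0 ∧ lk (PC.getD s 0) r = 0) ∨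
    (lk (PC.getD r 0) s ≠ 0 ∧ lk (PC.getD s 0) r = 2 * (lk (PC.getD r 0) s / 2) + (lk (PC.getD r 0) s + 1) % 2 ∧
      (lk (PC.getD r 0) s - 2) / 2 < 126 ∧ s ≠ 125 - r ∧ s ≠ r) := by
  have h := List.all_eq_true.1 (List.all_eq_true.1 chkPC2 r (List.mem_range.2 hr)) s (List.mem_range.2 hs)
  simp only [Bool.or_eq_true, Bool.and_eq_true, Bool.not_eq_true'] at h
  rcases h with ⟨h1, h2⟩ | ⟨⟨⟨⟨h1, h2⟩, h3⟩, h4⟩, h5⟩
  · exact Or.inl ⟨Nat.eq_of_beq_eq_true h1, Nat.eq_of_beq_eq_true h2⟩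
  · refine Or.inr ⟨fun h => ?_, Nat.eq_of_beq_eq_true h2, ?_, fun h => ?_, fun h => ?_⟩
    · rw [h] at h1; simp at h1
    · rwa [Nat.blt_eq] at h3
    · rw [h] at h4; simp at h4
    · rw [h] at h5; simp at h5

theorem csM_swap {r s : ℕ} (hr : r < 126) (hs : s < 126) : csM F r s = - csM F s r := by
  rcases PC_spec hr hs with ⟨h1, h2⟩ | ⟨h1, h2, h3, -, -⟩
  · rw [csM_zero h1, csM_zero h2, neg_zero]
  · have h4 : lk (PC.getD s 0) r ≠ 0 := by
      intro h; rw [h] at h2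
      have : lk (PC.getD r 0) s = 1 := by (clear * - h2; solve | lia | omega)
      rw [this] at h2
      have h5 : ((List.range 126).all fun r => let Rr := PC.getD r 0
        (List.range 126).all fun s => !(Nat.beq (lk Rr s) 1)) = true := by decide +kernel
      have h6 := List.all_eq_true.1 (List.all_eq_true.1 h5 r (List.mem_range.2 hr)) s (List.mem_range.2 hs)
      rw [this] at h6
      simp at h6
    rw [csM_ne h1, csM_ne h4, h2]
    have h5 : se F (2 * (lk (PC.getD r 0) s / 2) + (lk (PC.getD r 0) s + 1) % 2) = - se F (lk (PC.getD r 0) s) := by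
      rw [Nat.add_comm (lk (PC.getD r 0) s) 1, se_half, se_one, neg_one_mul]
    rw [h5, neg_smul, _root_.neg_neg]
    congr 2
    (solve | lia | omega)

theorem comm_of_chk {r s : ℕ} (hr : r < 126) (hs : s < 126)
    (h : chkRS (PT.getD r 0) (PT.getD s 0) (lk (PC.getD r 0) s) = true) :
    NM F r * NM F s - NM F s * NM F r = csM F r s := by
  refine mat_ext fun b => ?_
  rw [Matrix.sub_mulVec, ← Matrix.mulVec_mulVec, ← Matrix.mulVec_mulVec, NM_bs hs, NM_bs hr, NM_vc hr (VC_lk hs b),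
    NM_vc hs (VC_lk hr b)]
  unfold chkRS at h
  by_cases h0 : lk (PC.getD r 0) s = 0
  · rw [h0] at h
    have h1 := List.all_eq_true.1 h (nn b) (nn_mem b)
    rw [vc_cm (Or.inl rfl) h1, csM_zero h0, vc_zero, Matrix.zero_mulVec]
  · have h2 : Nat.beq (lk (PC.getD r 0) s) 0 = false := beq_zero_false h0
    rw [h2, cond_false] at h
    dsimp only at h
    have h1 := List.all_eq_true.1 h (nn b) (nn_mem b)
    have h3 : (lk (PC.getD r 0) s - 2) / 2 < 126 := by
      rcases PC_spec hr hs with ⟨h5, -⟩ | ⟨-, -, h5, -, -⟩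
      · exact absurd h5 h0
      · exact h5
    have h4 := VC_lk h3 b
    rw [vc_cm (VC_sg _ h4) h1, vc_sg _ h4, csM_ne h0, Matrix.smul_mulVec, NM_bs h3]

theorem chkA_all {r : ℕ} (hr : r < 126) : chkA r = true := by
  have key : ∀ a n, (List.range' a n).all chkA = true → a ≤ r → r < a + n → chkA r = true := fun a n h h1 h2 =>
    List.all_eq_true.1 h r (List.mem_range'_1.2 ⟨h1, h2⟩)
  by_cases h1 : r < 33
  · exact key _ _ chkA_0a (by omega) (by omega)
  by_cases h2 : r < 66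
  · exact key _ _ chkA_0b (by omega) (by omega)
  by_cases h3 : r < 78
  · exact key _ _ chkA_1a (by omega) (by omega)
  by_cases h4 : r < 90
  · exact key _ _ chkA_1b (by omega) (by omega)
  by_cases h5 : r < 99
  · exact key _ _ chkA_2a (by omega) (by omega)
  by_cases h6 : r < 109
  · exact key _ _ chkA_2b (by omega) (by omega)
  by_cases h7 : r < 117
  · exact key _ _ chkA_3a (by omega) (by omega)
  · exact key _ _ chkA_3b (by omega) (by omega)

theorem comm_lt {r s : ℕ} (hr : r < 126) (hs : s < r) (hne : s ≠ 125 - r) :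
    NM F r * NM F s - NM F s * NM F r = csM F r s := by
  have h := List.all_eq_true.1 (chkA_all hr) s (List.mem_range.2 hs)
  rw [Bool.or_eq_true] at h
  rcases h with h | h
  · exact absurd (Nat.eq_of_beq_eq_true h) hne
  · exact comm_of_chk hr (by omega) h

/-- **the commutators** -/
theorem NM_comm {r s : ℕ} (hr : r < 126) (hs : s < 126) (hne : s ≠ 125 - r) :
    NM F r * NM F s - NM F s * NM F r = csM F r s := by
  rcases lt_trichotomy s r with h | h | h
  · exact comm_lt hr h hne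
  · subst h
    rw [sub_self]
    rcases PC_spec hs hs with ⟨h1, -⟩ | ⟨-, -, -, -, h1⟩
    · exact (csM_zero h1).symm
    · exact absurd rfl h1
  · have h1 := comm_lt (F := F) hs h (by omega)
    rw [csM_swap hr hs, ← h1]; abel

variable (F)

/-- the matrix of the coroot of the root `r` -/
noncomputable def Hd (r : ℕ) : Matrix D1 D1 F := Matrix.diagonal fun b => ((wr r (nn b) : ℤ) : F)

/-- the matrix of the `i`-th simple coroot -/
noncomputable def Hi (i : ℕ) : Matrix D1 D1 F := Matrix.diagonal fun b => ((chevE8.cartan i (nn b) : ℤ) : F)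

variable {F}

theorem wr_spec {r : ℕ} (hr : r < 126) (b : D1) :
    (wr r (nn b) = -1 ∧ mv r (nn b) ≠ none ∧ mv (125 - r) (nn b) = none) ∨
    (wr r (nn b) = 0 ∧ mv r (nn b) = none ∧ mv (125 - r) (nn b) = none) ∨
    (wr r (nn b) = 1 ∧ mv r (nn b) = none ∧ mv (125 - r) (nn b) ≠ none) := by
  have h := List.all_eq_true.1 (List.all_eq_true.1 chkWr r (List.mem_range.2 hr)) (nn b) (nn_mem b)
  have hr' : 125 - r < 126 := by omega
  rw [lk_PT hr, lk_PT hr'] at h
  have key : ∀ t, t < 126 → (Nat.beq (code (mv t (nn b))) 0 = true ↔ mv t (nn b) = none) := by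
    intro t ht
    constructor
    · intro h1
      rcases mv_spec ht b with h2 | ⟨a, c, h2, h3, -, -⟩
      · exact h2
      · rw [h2] at h1
        have h4 := Nat.eq_of_beq_eq_true h1
        have h5 := two_le_nn a
        unfold code at h4
        dsimp only at h4
        omega
    · intro h1; rw [h1]; rfl
  simp only [Bool.or_eq_true, Bool.and_eq_true, decide_eq_true_eq, Bool.not_eq_true'] at h
  have k1 := key r hr
  have k2 := key (125 - r) hr'
  rcases h with (⟨⟨h1, h2⟩, h3⟩ | ⟨⟨h1, h2⟩, h3⟩) | ⟨⟨h1, h2⟩, h3⟩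
  · refine Or.inl ⟨h1, fun h4 => ?_, k2.1 h3⟩
    rw [k1.2 h4] at h2; exact absurd h2 (by simp)
  · exact Or.inr (Or.inl ⟨h1, k1.1 h2, k2.1 h3⟩)
  · refine Or.inr (Or.inr ⟨h1, k1.1 h2, fun h4 => ?_⟩)
    rw [k2.2 h4] at h3; exact absurd h3 (by simp)

theorem diag_bs (d : D1 → F) (b : D1) : Matrix.diagonal d *ᵥ bs F b = d b • bs F b := by
  funext x
  rw [Matrix.mulVec_diagonal, Pi.smul_apply, smul_eq_mul, bs_apply]
  by_cases h : nn x = nn b
  · rw [nn_inj h]
  · rw [if_neg h, mul_zero, mul_zero]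

theorem cast_sq {c : ℤ} (h : c * c = 1) : (c : F) * (c : F) = 1 := by
  rw [← Int.cast_mul, h, Int.cast_one]

/-- `N_{-r} N_r` on the weight vectors -/
theorem NM_neg_NM {r : ℕ} (hr : r < 126) (b : D1) :
    NM F (125 - r) *ᵥ (NM F r *ᵥ bs F b) = (if mv r (nn b) = none then (0 : F) else 1) • bs F b := by
  rcases mv_spec hr b with h | ⟨a, c, h, h1, -, h3⟩
  · rw [NM_bs_none h, if_pos h, Matrix.mulVec_zero, zero_smul]
  · rw [NM_bs_some h, Matrix.mulVec_smul, NM_bs_some h3, smul_smul, cast_sq h1, if_neg (by rw [h]; simp), one_smul]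

theorem NM_comm_neg {r : ℕ} (hr : r < 126) : NM F r * NM F (125 - r) - NM F (125 - r) * NM F r = Hd F r := by
  have hr' : 125 - r < 126 := by omega
  refine mat_ext fun b => ?_
  rw [Matrix.sub_mulVec, ← Matrix.mulVec_mulVec, ← Matrix.mulVec_mulVec, NM_neg_NM hr]
  have h1 := NM_neg_NM (F := F) hr' b
  rw [sub_sub_r hr] at h1
  rw [h1, Hd, diag_bs, ← sub_smul]
  congr 1
  rcases wr_spec hr b with ⟨h2, h3, h4⟩ | ⟨h2, h3, h4⟩ | ⟨h2, h3, h4⟩
  · rw [h2, if_pos h4, if_neg h3]; simp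
  · rw [h2, if_pos h4, if_pos h3]; simp
  · rw [h2, if_neg h4, if_pos h3]; simp

theorem NM_neg_mul {r : ℕ} (hr : r < 126) : NM F r * NM F (125 - r) * NM F r = NM F r := by
  refine mat_ext fun b => ?_
  rw [← Matrix.mulVec_mulVec, ← Matrix.mulVec_mulVec, NM_neg_NM hr]
  by_cases h : mv r (nn b) = none
  · rw [if_pos h, zero_smul, Matrix.mulVec_zero, NM_bs_none h]
  · rw [if_neg h, one_smul]

end Cfsg.Agent.R2.PX
end

-- part: R2/PX/Del
section
/-!
# Pattern X: the Lie algebra in the endomorphisms of the 56-dimensional module (helper3)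

* `del : (chevE7.Idx → F) →ₗ Matrix D1 D1 F` : the action of the Lie algebra on the 56-dimensional module;
* `del_equi` : `rho g * del z = del (adM g z) * rho g`.
-/

set_option autoImplicit false
set_option maxRecDepth 100000

namespace Cfsg.Agent.R2.PX

open Cfsg Cfsg.Lie Matrix
open Cfsg.Agent.R2.T1
open Cfsg.Agent.ChevalleyStructure.Elts Cfsg.Agent.ChevalleyStructure.RootVec
  Cfsg.Agent.ChevalleyStructure.RootVecTab
open Cfsg.Agent.ChevalleyStructure.StTheta
open Cfsg.Agent.H943.E7V.Block (D1 rho)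

universe u
variable {F : Type u} [Field F]

theorem filter_range {α : Type*} (g : ℕ → Option (ℕ × α)) (hg : ∀ x y, g x = some y → y.1 = x) (s n : ℕ) :
    ((List.range n).filterMap g).filter (fun e => decide (e.1 = s)) = if s < n then (g s).toList else [] := by
  induction n with
  | zero => simp
  | succ n ih =>
    rw [List.range_succ, List.filterMap_append, List.filter_append, ih]
    by_cases h1 : s < n
    · rw [if_pos h1, if_pos (by omega)]
      have : (List.filterMap g [n]).filter (fun e => decide (e.1 = s)) = [] := by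
        rw [List.filter_eq_nil_iff]
        intro e he
        rw [List.mem_filterMap] at he
        obtain ⟨x, hx, hx'⟩ := he
        rw [List.mem_singleton] at hx
        have h2 := hg x e hx'
        simp only [decide_eq_true_eq]
        omega
      rw [this, List.append_nil]
    · rw [if_neg h1, List.nil_append]
      by_cases h2 : s = n
      · subst h2
        rw [if_pos (by omega)]
        rcases h3 : g s with _ | y
        · simp [h3]
        · have := hg s y h3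
          simp [h3, this]
      · rw [if_neg (by omega), List.filter_eq_nil_iff]
        intro e he
        rw [List.mem_filterMap] at he
        obtain ⟨x, hx, hx'⟩ := he
        rw [List.mem_singleton] at hx
        have h3 := hg x e hx'
        simp only [decide_eq_true_eq]
        omega

theorem flat_map_aux (s : ℕ) (f : List (ℕ × ℤ) → List (ℕ × ℤ)) : ∀ (A : List (ℕ × Array (ℕ × ℤ)))
    (B : List (ℕ × List (ℕ × ℤ))), (A.map fun e => (e.1, e.2.toList)) = B →
    ((A.filter fun e => decide (e.1 = s)).flatMap fun e => f e.2.toList) =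
      ((B.filter fun e => decide (e.1 = s)).flatMap fun e => f e.2) := by
  rintro A B rfl
  induction A with
  | nil => rfl
  | cons a A ih =>
    rw [List.map_cons]
    by_cases h : a.1 = s
    · rw [List.filter_cons_of_pos (by simpa using h), List.filter_cons_of_pos (by simpa using h), List.flatMap_cons,
        List.flatMap_cons, ih]
    · rw [List.filter_cons_of_neg (by simpa using h), List.filter_cons_of_neg (by simpa using h), ih]

theorem chain_aux (k u : ℕ) : ((([((k - 2) / 2, (bif Nat.beq (k % 2) 0 then (1 : ℤ) else -1))] : List (ℕ × ℤ)).zipIdx.filter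
    (fun q => decide (q.1.1 = u))).map fun q => (q.2 + 1, q.1.2)) =
    if (k - 2) / 2 = u then [(1, if k % 2 = 0 then 1 else -1)] else [] := by
  rcases Nat.mod_two_eq_zero_or_one k with h1 | h1
  · rw [h1]
    by_cases h2 : (k - 2) / 2 = u
    · simp [h2]
    · simp [h2]
  · rw [h1, show Nat.beq 1 0 = false from rfl, cond_false]
    by_cases h2 : (k - 2) / 2 = u
    · simp [h2]
    · simp [h2]

theorem chainCoeff_E7 {r s : ℕ} (hr : r < 126) (hs : s < 126) (u : ℕ) : chevE7.chainCoeff r s u =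
    match cs r s with
    | none => []
    | some (v, c) => if v = u then [(1, c)] else [] := by
  have h := List.all_eq_true.1 chkPC r (List.mem_range.2 hr)
  rw [beq_iff_eq] at h
  unfold ChevalleyDatum.chainCoeff
  rw [flat_map_aux s (fun L => ((L.zipIdx).filter (fun q => q.1.1 = u)).map fun q => (q.2 + 1, q.1.2)) _ _ h,
    filter_range, if_pos hs]
  · unfold cs
    by_cases h0 : lk (PC.getD r 0) s = 0
    · rw [if_pos h0, h0]; rfl
    · rw [if_neg h0]
      dsimp only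
      rw [beq_zero_false h0]
      simp only [cond_false, Option.toList_some, List.flatMap_cons, List.flatMap_nil, List.append_nil]
      exact chain_aux _ _
  · intro x y hxy
    dsimp only at hxy
    by_cases h0 : lk (PC.getD r 0) x = 0
    · rw [h0] at hxy; simp at hxy
    · rw [beq_zero_false h0] at hxy
      simp only [cond_false, Option.some.injEq] at hxy
      rw [← hxy]

variable (F)

/-- the action of the Lie algebra on the 56-dimensional module -/
noncomputable def del : (chevE7.Idx → F) →ₗ[F] Matrix D1 D1 F where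
  toFun z := (∑ i : Fin chevE7.rank, z (Sum.inl i) • Hi F i) + ∑ s : Fin chevE7.nroots, z (Sum.inr s) • NM F s
  map_add' z w := by
    simp only [Pi.add_apply, add_smul, Finset.sum_add_distrib]
    abel
  map_smul' c z := by
    simp only [Pi.smul_apply, smul_eq_mul, mul_smul, RingHom.id_apply, smul_add, Finset.smul_sum]

variable {F}

theorem del_apply (z : chevE7.Idx → F) : del F z =
    (∑ i : Fin chevE7.rank, z (Sum.inl i) • Hi F i) + ∑ s : Fin chevE7.nroots, z (Sum.inr s) • NM F s := rfl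

theorem del_inl (i : Fin chevE7.rank) : del F (Pi.single (Sum.inl i) 1) = Hi F i := by
  rw [del_apply, Finset.sum_eq_single i]
  · rw [Finset.sum_eq_zero, Pi.single_eq_same, one_smul, add_zero]
    intro s _
    rw [Pi.single_eq_of_ne (by simp), zero_smul]
  · intro j _ hj
    rw [Pi.single_eq_of_ne (by simpa using hj), zero_smul]
  · intro h; exact absurd (Finset.mem_univ _) h

theorem del_inr (s : Fin chevE7.nroots) : del F (Pi.single (Sum.inr s) 1) = NM F s := by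
  rw [del_apply, Finset.sum_eq_zero, zero_add, Finset.sum_eq_single s]
  · rw [Pi.single_eq_same, one_smul]
  · intro j _ hj
    rw [Pi.single_eq_of_ne (by simpa using hj), zero_smul]
  · intro h; exact absurd (Finset.mem_univ _) h
  · intro s _
    rw [Pi.single_eq_of_ne (by simp), zero_smul]

theorem Hd_eq (r : ℕ) : Hd F r = ∑ i : Fin chevE7.rank, (((chevE7.coroot.getD r #[]).getD i 0 : ℤ) : F) • Hi F i := by
  refine mat_ext fun b => ?_
  rw [Hd, diag_bs, Matrix.sum_mulVec]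
  simp only [Matrix.smul_mulVec, Hi, diag_bs, smul_smul]
  rw [← Finset.sum_smul]
  congr 1
  unfold wr
  have h : (List.map (fun i => (chevE7.coroot.getD r #[]).getD i 0 * chevE8.cartan i (nn b)) (List.range 7)).sum =
      ∑ i : Fin 7, (chevE7.coroot.getD r #[]).getD i 0 * chevE8.cartan i (nn b) := by
    rw [Finset.sum_fin_eq_sum_range]
    have : ∀ n, (List.map (fun i => (chevE7.coroot.getD r #[]).getD i 0 * chevE8.cartan i (nn b)) (List.range n)).sum =
        ∑ i ∈ Finset.range n, (chevE7.coroot.getD r #[]).getD i 0 * chevE8.cartan i (nn b) := by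
      intro n
      induction n with
      | zero => rfl
      | succ n ih => rw [List.range_succ, List.map_append, List.sum_append, ih, Finset.sum_range_succ]; simp only [_root_.Array.getD_eq_getD_getElem?, _root_.List.map_cons, _root_.List.map_nil, _root_.List.sum_cons, _root_.List.sum_nil, _root_.add_zero]
    rw [this]
    refine Finset.sum_congr rfl fun i hi => ?_
    rw [dif_pos (Finset.mem_range.1 hi)]
  rw [h, Int.cast_sum]
  refine Finset.sum_congr rfl fun i _ => ?_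
  rw [Int.cast_mul]

theorem neg_E7 : ∀ r < 126, chevE7.negIdx.getD r 0 = 125 - r := by (rewrite [Cfsg.Agent.ChevFast.E7.negA]; decide +kernel)

theorem NM_mul_self {r : ℕ} (hr : r < 126) : NM F r * NM F r = 0 := NM_sq hr

/-- the coroot of `r` acts as `1` on the image of the root vector of `r` -/
theorem Hd_NM {r : ℕ} (hr : r < 126) : Hd F r * NM F r = NM F r := by
  rw [← NM_comm_neg hr, Matrix.sub_mul, Matrix.mul_assoc (NM F (125 - r)), NM_mul_self hr, Matrix.mul_zero, sub_zero,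
    NM_neg_mul hr]

theorem Hi_comm {r i : ℕ} (hr : r < 126) (hi : i < 7) :
    Hi F i * NM F r - NM F r * Hi F i = ((chevE7.cartan i r : ℤ) : F) • NM F r := by
  refine mat_ext fun b => ?_
  rw [Matrix.sub_mulVec, ← Matrix.mulVec_mulVec, ← Matrix.mulVec_mulVec, Matrix.smul_mulVec, Hi, diag_bs,
    Matrix.mulVec_smul]
  rcases mv_spec hr b with h | ⟨a, c, h, h1, -, -⟩
  · rw [NM_bs_none h]; simp
  · rw [NM_bs_some h, Matrix.mulVec_smul, diag_bs, smul_smul, smul_smul, smul_smul, ← sub_smul]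
    congr 1
    rw [cart_add hr h hi]
    push_cast
    ring

/-- the second commutator vanishes -/
theorem chkPC3 : ((List.range 126).all fun r => let Rr := PC.getD r 0
    (List.range 126).all fun s => Nat.beq (lk Rr s) 0 || (Nat.beq (lk Rr ((lk Rr s - 2) / 2)) 0 &&
      !(Nat.beq ((lk Rr s - 2) / 2) (125 - r)))) = true := by
  decide +kernel

theorem csM_NM {r s : ℕ} (h2 : (2 : F) ≠ 0) (hr : r < 126) (hs : s < 126) (hne : s ≠ 125 - r) :
    csM F r s * NM F r = 0 := by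
  by_cases h0 : lk (PC.getD r 0) s = 0
  · rw [csM_zero h0, Matrix.zero_mul]
  · have h := List.all_eq_true.1 (List.all_eq_true.1 chkPC3 r (List.mem_range.2 hr)) s (List.mem_range.2 hs)
    rw [Bool.or_eq_true] at h
    rcases h with h | h
    · exact absurd (Nat.eq_of_beq_eq_true h) h0
    rw [Bool.and_eq_true, Bool.not_eq_true'] at h
    have hu : (lk (PC.getD r 0) s - 2) / 2 < 126 := by
      rcases PC_spec hr hs with ⟨h5, -⟩ | ⟨-, -, h5, -, -⟩
      · exact absurd h5 h0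
      · exact h5
    have h3 : NM F r * NM F ((lk (PC.getD r 0) s - 2) / 2) - NM F ((lk (PC.getD r 0) s - 2) / 2) * NM F r = 0 := by
      rw [NM_comm hr hu (fun h4 => by rw [← h4] at h; simp at h)]
      exact csM_zero (Nat.eq_of_beq_eq_true h.1)
    have h4 := NM_comm (F := F) hr hs hne
    have h5 : NM F r * csM F r s - csM F r s * NM F r = 0 := by
      rw [csM_ne h0, Matrix.mul_smul, Matrix.smul_mul, ← smul_sub, h3, smul_zero]
    -- `N_r N_s N_r = 0`
    have h6 : NM F r * (NM F s * NM F r) = 0 := by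
      rw [← h4] at h5
      have h7 : (2 : F) • (NM F r * (NM F s * NM F r)) = 0 := by
        have e1 : NM F r * (NM F r * NM F s - NM F s * NM F r) - (NM F r * NM F s - NM F s * NM F r) * NM F r =
            (NM F r * NM F r) * NM F s - (2 : F) • (NM F r * (NM F s * NM F r)) + NM F s * (NM F r * NM F r) := by
          rw [two_smul]; noncomm_ring
        rw [e1, NM_mul_self hr, Matrix.zero_mul, Matrix.mul_zero, add_zero, zero_sub, neg_eq_zero] at h5
        exact h5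
      exact (smul_eq_zero.1 h7).resolve_left h2
    rw [← h4, Matrix.sub_mul, Matrix.mul_assoc, h6, Matrix.mul_assoc, NM_mul_self hr, Matrix.mul_zero, sub_zero]

theorem del_x_inl {r : ℕ} (hr : r < 126) (t : F) (i : Fin chevE7.rank) :
    del F (chevE7.x F r t *ᵥ Pi.single (Sum.inl i) 1) = Hi F i - (((chevE7.cartan i r : ℤ) : F) * t) • NM F r := by
  have hr' : r < chevE7.nroots := hr
  rw [x_of_lt hr', Matrix.mulVec_single_one, del_apply]
  rw [Finset.sum_eq_single i, Finset.sum_eq_single ⟨r, hr⟩]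
  · show (if i = i then (1 : F) else 0) • Hi F i +
      (if (⟨r, hr⟩ : Fin chevE7.nroots) = ⟨r, hr'⟩ then _ else (0 : F)) • NM F r = _
    rw [if_pos rfl, if_pos rfl, one_smul, neg_mul, neg_smul, sub_eq_add_neg]
    rfl
  · intro s _ hs
    show (if s = ⟨r, hr'⟩ then _ else (0 : F)) • NM F s = 0
    rw [if_neg hs, zero_smul]
  · intro h; exact absurd (Finset.mem_univ _) h
  · intro j _ hj
    show (if j = i then (1 : F) else 0) • Hi F j = 0
    rw [if_neg hj, zero_smul]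
  · intro h; exact absurd (Finset.mem_univ _) h

theorem del_x_self {r : ℕ} (hr : r < 126) (t : F) :
    del F (chevE7.x F r t *ᵥ Pi.single (Sum.inr ⟨r, hr⟩) 1) = NM F r := by
  have hr' : r < chevE7.nroots := hr
  rw [x_of_lt hr', Matrix.mulVec_single_one, del_apply, Finset.sum_eq_zero, zero_add, Finset.sum_eq_single ⟨r, hr⟩]
  · simp only [ChevalleyDatum.xMat, Matrix.col_apply, _root_.Array.getD_eq_getD_getElem?, _root_.neg_mul, _root_.Matrix.of_apply, ↓ _root_.reduceIte, _root_.one_smul]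
  · intro s _ hs
    simp only [ChevalleyDatum.xMat, Matrix.col_apply, hs, _root_.Array.getD_eq_getD_getElem?, _root_.neg_mul, _root_.Matrix.of_apply, ↓ _root_.reduceIte, _root_.zero_smul]
  · intro h; exact absurd (Finset.mem_univ _) h
  · intro j _
    simp only [ChevalleyDatum.xMat, Matrix.col_apply, _root_.Array.getD_eq_getD_getElem?, _root_.neg_mul, _root_.Matrix.of_apply, ↓ _root_.reduceIte, _root_.zero_smul]

theorem del_x_neg {r : ℕ} (hr : r < 126) (t : F) :
    del F (chevE7.x F r t *ᵥ Pi.single (Sum.inr ⟨125 - r, by show _ < 126; omega⟩) 1) =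
      NM F (125 - r) + t • Hd F r - (t ^ 2) • NM F r := by
  have hr' : r < chevE7.nroots := hr
  have hne : (⟨125 - r, by show _ < 126; omega⟩ : Fin chevE7.nroots) ≠ ⟨r, hr'⟩ := by
    intro h
    have := congrArg Fin.val h
    simp only at this
    omega
  have hneg := neg_E7 r hr
  rw [x_of_lt hr', Matrix.mulVec_single_one, del_apply, Hd_eq, Finset.smul_sum]
  have e1 : ∀ i : Fin chevE7.rank, (chevE7.xMat F ⟨r, hr'⟩ t).col (Sum.inr ⟨125 - r, by show _ < 126; omega⟩) (Sum.inl i) =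
      (((chevE7.coroot.getD r #[]).getD i 0 : ℤ) : F) * t := by
    intro i
    rw [Matrix.col_apply]
    unfold ChevalleyDatum.xMat
    rw [Matrix.of_apply]
    dsimp only
    rw [if_neg hne, if_pos hneg.symm]
  have e2 : ∀ s : Fin chevE7.nroots, (chevE7.xMat F ⟨r, hr'⟩ t).col (Sum.inr ⟨125 - r, by show _ < 126; omega⟩) (Sum.inr s) =
      if s = ⟨125 - r, by show _ < 126; omega⟩ then 1 else if s = ⟨r, hr'⟩ then -(t ^ 2) else 0 := by
    intro s
    rw [Matrix.col_apply]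
    unfold ChevalleyDatum.xMat
    rw [Matrix.of_apply]
    dsimp only
    rw [if_neg hne, if_pos hneg.symm]
  simp only [e1, e2]
  have e3 : ∑ s : Fin chevE7.nroots, (if s = (⟨125 - r, by show _ < 126; omega⟩ : Fin chevE7.nroots) then (1 : F) else
      if s = ⟨r, hr'⟩ then -(t ^ 2) else 0) • NM F s = NM F (125 - r) - (t ^ 2) • NM F r := by
    rw [← Finset.sum_subset (Finset.subset_univ {(⟨125 - r, by show _ < 126; omega⟩ : Fin chevE7.nroots), ⟨r, hr'⟩}),
      Finset.sum_pair hne, if_pos rfl, if_neg (Ne.symm hne), if_pos rfl, one_smul, neg_smul, sub_eq_add_neg]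
    intro s _ hs
    rw [Finset.mem_insert, Finset.mem_singleton, not_or] at hs
    rw [if_neg hs.1, if_neg hs.2, zero_smul]
  rw [e3]
  have e4 : ∀ i : Fin chevE7.rank, ((((chevE7.coroot.getD r #[]).getD i 0 : ℤ) : F) * t) • Hi F (i : ℕ) =
      t • ((((chevE7.coroot.getD r #[]).getD i 0 : ℤ) : F) • Hi F (i : ℕ)) := by
    intro i
    rw [smul_smul, mul_comm]
  simp only [e4]
  abel

theorem del_x_inr {r s : ℕ} (hr : r < 126) (hs : s < 126) (hne : s ≠ 125 - r) (hne' : s ≠ r) (t : F) :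
    del F (chevE7.x F r t *ᵥ Pi.single (Sum.inr ⟨s, hs⟩) 1) = NM F s + t • csM F r s := by
  have hr' : r < chevE7.nroots := hr
  have hne2 : (⟨s, hs⟩ : Fin chevE7.nroots) ≠ ⟨r, hr'⟩ := fun h => hne' (congrArg Fin.val h)
  have hneg := neg_E7 r hr
  rw [x_of_lt hr', Matrix.mulVec_single_one, del_apply]
  have e1 : ∀ i : Fin chevE7.rank, (chevE7.xMat F ⟨r, hr'⟩ t).col (Sum.inr ⟨s, hs⟩) (Sum.inl i) = 0 := by
    intro i
    rw [Matrix.col_apply]
    unfold ChevalleyDatum.xMat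
    rw [Matrix.of_apply]
    dsimp only
    rw [if_neg hne2, if_neg (by rw [hneg]; exact hne)]
  have e2 : ∀ v : Fin chevE7.nroots, (chevE7.xMat F ⟨r, hr'⟩ t).col (Sum.inr ⟨s, hs⟩) (Sum.inr v) =
      (if v = ⟨s, hs⟩ then 1 else 0) + ((chevE7.chainCoeff r s v).map fun km => ((km.2 : ℤ) : F) * t ^ km.1).sum := by
    intro v
    rw [Matrix.col_apply]
    unfold ChevalleyDatum.xMat
    rw [Matrix.of_apply]
    dsimp only
    rw [if_neg hne2, if_neg (by rw [hneg]; exact hne)]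
  simp only [e1, e2, zero_smul, Finset.sum_const_zero, zero_add, add_smul, Finset.sum_add_distrib, ite_smul, one_smul,
    Finset.sum_ite_eq', Finset.mem_univ, if_true]
  congr 1
  rcases h : cs r s with _ | ⟨u, c⟩
  · unfold csM
    rw [h]
    dsimp only
    rw [smul_zero]
    refine Finset.sum_eq_zero fun v _ => ?_
    rw [chainCoeff_E7 hr hs, h]
    simp
  · have hu : u < 126 := by
      unfold cs at h
      by_cases h0 : lk (PC.getD r 0) s = 0
      · rw [if_pos h0] at h; exact absurd h (by simp)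
      rw [if_neg h0, Option.some.injEq, Prod.mk.injEq] at h
      rcases PC_spec hr hs with ⟨h5, -⟩ | ⟨-, -, h5, -, -⟩
      · exact absurd h5 h0
      · rw [← h.1]; exact h5
    unfold csM
    rw [h]
    dsimp only
    rw [Finset.sum_eq_single ⟨u, hu⟩]
    · rw [chainCoeff_E7 hr hs, h]
      dsimp only
      rw [if_pos rfl]
      simp [smul_smul, mul_comm]
    · intro v _ hv
      rw [chainCoeff_E7 hr hs, h]
      dsimp only
      rw [if_neg fun h' => hv (Fin.ext h'.symm)]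
      simp
    · intro h; exact absurd (Finset.mem_univ _) h

/-! ### equivariance -/

theorem one_add_mul (t : F) (A B : Matrix D1 D1 F) : (1 + t • A) * B = B + t • (A * B) := by
  rw [Matrix.add_mul, Matrix.one_mul, Matrix.smul_mul]

theorem mul_one_add (t : F) (A B : Matrix D1 D1 F) : B * (1 + t • A) = B + t • (B * A) := by
  rw [Matrix.mul_add, Matrix.mul_one, Matrix.mul_smul]

theorem del_x_basis (h2 : (2 : F) ≠ 0) {r : ℕ} (hr : r < 126) (t : F) (j : chevE7.Idx) :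
    (1 + t • NM F r) * del F (Pi.single j 1) = del F (chevE7.x F r t *ᵥ Pi.single j 1) * (1 + t • NM F r) := by
  have hsq := NM_mul_self (F := F) hr
  rcases j with i | ⟨s, hs⟩
  · rw [del_inl, del_x_inl hr, one_add_mul, mul_one_add, Matrix.sub_mul, Matrix.smul_mul, hsq, smul_zero, sub_zero]
    have h1 := Hi_comm (F := F) hr i.2
    have h3 : Hi F i * NM F r = NM F r * Hi F i + ((chevE7.cartan i r : ℤ) : F) • NM F r := by rw [← h1]; abel
    rw [h3, smul_add, smul_smul, mul_comm t]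
    abel
  · have hs' : s < 126 := hs
    rw [del_inr]
    show (1 + t • NM F r) * NM F s = _
    by_cases h3 : s = r
    · subst h3
      rw [del_x_self hr, one_add_mul, mul_one_add]
    by_cases h4 : s = 125 - r
    · subst h4
      rw [del_x_neg hr, one_add_mul, mul_one_add, Matrix.sub_mul, Matrix.add_mul, Matrix.smul_mul, Matrix.smul_mul, hsq,
        smul_zero, sub_zero, Hd_NM hr]
      have h5 : NM F r * NM F (125 - r) = NM F (125 - r) * NM F r + Hd F r := by rw [← NM_comm_neg hr]; abel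
      rw [h5, smul_add, smul_add, smul_smul, pow_two]
      abel
    · rw [del_x_inr hr hs' h4 h3, one_add_mul, mul_one_add, Matrix.add_mul, Matrix.smul_mul, csM_NM h2 hr hs' h4,
        smul_zero, add_zero, ← NM_comm hr hs' h4, smul_sub]
      abel

theorem del_x (h2 : (2 : F) ≠ 0) {r : ℕ} (hr : r < 126) (t : F) (z : chevE7.Idx → F) :
    (1 + t • NM F r) * del F z = del F (chevE7.x F r t *ᵥ z) * (1 + t • NM F r) := by
  have hz : z = ∑ j, z j • (Pi.single j (1 : F) : chevE7.Idx → F) := by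
    ext k
    simp only [Finset.sum_apply, Pi.single_apply, _root_.Pi.smul_apply, _root_.smul_eq_mul, _root_.mul_ite, _root_.mul_one, _root_.MulZeroClass.mul_zero, _root_.Finset.sum_ite_eq, _root_.Finset.mem_univ, ↓ _root_.reduceIte]
  have h1 : del F (chevE7.x F r t *ᵥ z) = ∑ j, z j • del F (chevE7.x F r t *ᵥ Pi.single j 1) := by
    conv_lhs => rw [hz]
    rw [Matrix.mulVec_sum, map_sum]
    refine Finset.sum_congr rfl fun j _ => ?_
    rw [Matrix.mulVec_smul, map_smul]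
  have h3 : del F z = ∑ j, z j • del F (Pi.single j 1) := by
    conv_lhs => rw [hz]
    rw [map_sum]
    exact Finset.sum_congr rfl fun j _ => map_smul _ _ _
  rw [h1, h3, Finset.mul_sum, Finset.sum_mul]
  refine Finset.sum_congr rfl fun j _ => ?_
  rw [Matrix.mul_smul, Matrix.smul_mul, del_x_basis h2 hr]

theorem adM_xs (r : ℕ) (t : F) : adM F (xs F r t) = chevE7.x F r t := by
  rw [adM_apply]
  exact theta_stGen Cfsg.Agent.H944.E7Two.e7T.inList r t

/-- **equivariance** -/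
theorem del_equi (h2 : (2 : F) ≠ 0) (g : Gh F) (z : chevE7.Idx → F) :
    rho F g * del F z = del F (adM F g *ᵥ z) * rho F g := by
  have h := mem_of_gens (F := F) (S :=
    { carrier := {g | ∀ z : chevE7.Idx → F, rho F g * del F z = del F (adM F g *ᵥ z) * rho F g}
      one_mem' := fun z => by rw [map_one, map_one, Matrix.one_mulVec, Matrix.one_mul, Matrix.mul_one]
      mul_mem' := by
        intro a b ha hb z
        rw [map_mul, map_mul, Matrix.mul_assoc, hb z, ← Matrix.mul_assoc, ha, ← Matrix.mulVec_mulVec, Matrix.mul_assoc]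
      inv_mem' := by
        intro a ha z
        have h1 := ha (adM F a⁻¹ *ᵥ z)
        rw [Matrix.mulVec_mulVec, ← map_mul, mul_inv_cancel, map_one, Matrix.one_mulVec] at h1
        have h3 : rho F a⁻¹ * rho F a = 1 := by rw [← map_mul, inv_mul_cancel, map_one]
        have h4 : rho F a * rho F a⁻¹ = 1 := by rw [← map_mul, mul_inv_cancel, map_one]
        calc rho F a⁻¹ * del F z = rho F a⁻¹ * (del F z * rho F a) * rho F a⁻¹ := by
              rw [Matrix.mul_assoc, Matrix.mul_assoc (del F z), h4, Matrix.mul_one]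
          _ = _ := by rw [← h1, ← Matrix.mul_assoc, h3, Matrix.one_mul] }) ?_ g
  · exact h z
  · intro r hr t z
    rw [rho_xs' hr, adM_xs]
    exact del_x h2 hr t z

end Cfsg.Agent.R2.PX
end

private theorem dce_46547500b764 : _root_.True := by
  try have : _root_.True := by simp only [_root_.Cfsg.Agent.R2.PX.Hi.eq_1]
  try have : _root_.True := by simp only [_root_.Cfsg.Agent.R2.PX.Hd.eq_1]
  try have : _root_.True := by simp only [_root_.Cfsg.Agent.R2.PX.vc.eq_1]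
  exact _root_.True.intro
end

-- part: R2/PX/Tr1
section
prune_inst 0x46000000000000000000580110020000a0000020040000048400c000c80004220010800a020141000aea0443830004811000170022000000000000001180080080012061000a100200000800000400000000000000000000000000000000004000000000
set_option linter.all false
open scoped Cfsg.Agent.FastGrp

/-- decoders of the packed data (elaboration time only) -/
private noncomputable def pk61d (b S i : Nat) : Nat := Nat.mod (Nat.shiftRight S (Nat.mul b i)) (Nat.shiftLeft (nat_lit 1) b)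
private noncomputable def pk61c {α : Type} (t : Nat) (a : α) (f : Nat → α) : α := Nat.rec a (fun k _ => f k) t
private noncomputable def pk61f {α : Type} (t : Nat) (f : Nat → α) : α := Nat.rec (f Nat.zero) (fun k _ => f (Nat.succ k)) t
private noncomputable def pk61l {α : Type} (f : Nat → α) (s e : Nat) (tl : List α) : List α :=
  pk61f e fun e => Nat.rec tl (fun k ih => List.cons (pk61f (Nat.sub e (Nat.succ k)) f) ih) (Nat.sub e s)
private noncomputable def pk61o {α : Type} (O : (n : Nat) → OfNat α n → α) (I : (n : Nat) → OfNat α n) (t : Nat) : α :=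
  pk61c t (O (nat_lit 0) (I (nat_lit 0))) fun k => O (Nat.succ k) (I (Nat.succ k))
private noncomputable def pk61y (O : (n : Nat) → OfNat Int n → Int) (I : (n : Nat) → OfNat Int n) (G : Int → Int) (t : Nat) : Int := pk61f t fun t =>
  pk61c (Nat.mod t (nat_lit 2)) (pk61o O I (Nat.div t (nat_lit 2))) fun _ => G (pk61o O I (Nat.succ (Nat.div t (nat_lit 2))))


-- part: R2/PX/Comb
section
/-!
# Pattern X (S5771): combinatorics of the 56 weights (helper5)

* `p2_comm`, `p2_eq_three`, `p2_eq_neg_three`, `p2_cases`, `p2_op`;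
* `exists_mv` : `p2 a b = 1` ⇒ some root maps `b` to `a`; `mv_unique` : the root is unique; `p2_of_mv` : the converse;
* `p2_add` : `p2 a m = p2 b m + 2 * pr r m` if the root `r` maps `b` to `a`.
-/

set_option autoImplicit false
set_option maxRecDepth 100000

namespace Cfsg.Agent.R2.PX

open Cfsg Cfsg.Lie Module Matrix
open Cfsg.Agent.ChevalleyStructure.RootVec
open Cfsg.Agent.ChevalleyStructure.StEmbed
open Cfsg.Agent.H943.E7V.Block (D1)
open Cfsg.Agent.R2.T1

universe u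

namespace Comb

/-- `(index, root coordinates, Cartan values, opposite, roots leading from the other weights to this one)` -/
def CT : List (ℕ × List ℤ × List ℤ × ℕ × List ℕ) :=
  let y0 : List (ℕ × List ℤ × List ℤ × ℕ × List ℕ) := (by
  refine (?fq9001 : (fun (On : (n : Nat) → OfNat Nat n → Nat) (In : (n : Nat) → OfNat Nat n) (Oz : (n : Nat) → OfNat Int n → Int) (Iz : (n : Nat) → OfNat Int n) (Gz : Int → Int) => (pk61l (fun i0 => (_root_.Prod.mk (pk61o On In (pk61d (nat_lit 8) 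
    (nat_lit 0xeeedecebea) i0)) (_root_.Prod.mk (pk61l (fun i1 => (pk61y Oz Iz Gz (pk61d (nat_lit 4) 
    (nat_lit 0x268ac864248ac864246ac8642468c8642468a864) i1))) (Nat.mul (nat_lit 8) i0) (Nat.mul (nat_lit 8) (Nat.succ i0)) List.nil) (_root_.Prod.mk (pk61l (fun i1 => (pk61y Oz Iz Gz (pk61d (nat_lit 2) 
    (nat_lit 0x60001800060001800068) i1))) (Nat.mul (nat_lit 8) i0) (Nat.mul (nat_lit 8) (Nat.succ i0)) List.nil) (_root_.Prod.mk (pk61o On In (pk61d (nat_lit 8) 
    (nat_lit 0x787a7d8186) i0)) (pk61l (fun i1 => (pk61o On In (pk61d (nat_lit 7) 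
    (nat_lit 0xfcfe0c49136956b36ee7ec59b4ebd9fb7f1e5fba75fddbf7ef1e7f7afdfbdfefdfbe7efdfbf7efbfbf7efdfbf7efdfbf7e7dfa0438f328d5b16bf5cc39746afdb3770fdcb9feebfbb7eeffbcfef5fbf7bfdfbf7cfdfbf7efdf7f7efdfbf7efdfbf7e78f7f428d2e854affad5bc1933fed5af6fee1c7f73e9fbf76fddfc7efdebf7ef7fbf7ef9fbf7efdfbefefdfbf7efdfbf7e72e9dfe8b2a7d3fd5ec59bf8ff67d1a7f6dddbff7efdcfa75fdfbf77f1e7f7efdeff7efdf3f7efdfbf7dfdfbf7efdfbf7e6ad9bb8fd2677ea752ad6bdfb1e4cb9bf7efdfb6eedfc38f2fdfbf7efdfbbf8f3ebf7efdfbe7efdfbf7efbfbf7efdfbf7e) i1))) (Nat.mul (nat_lit 56) i0) (Nat.mul (nat_lit 56) (Nat.succ i0)) List.nil)))))) (nat_lit 0) (nat_lit 5) List.nil : List (ℕ × List ℤ × List ℤ × ℕ × List ℕ)))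
    = ?xq9001 → (List (ℕ × List ℤ × List ℤ × ℕ × List ℕ))) ?hq9001; (case hq9001 => (set_option maxRecDepth 1000000 in conv => lhs; reduce)); intro _; exact ?xq9001 (@OfNat.ofNat Nat) instOfNatNat (@OfNat.ofNat Int) (@instOfNat) (@Neg.neg Int Int.instNegInt) : List (ℕ × List ℤ × List ℤ × ℕ × List ℕ))
  let y1 : List (ℕ × List ℤ × List ℤ × ℕ × List ℕ) := (by
  refine (?fq9002 : (fun (On : (n : Nat) → OfNat Nat n → Nat) (In : (n : Nat) → OfNat Nat n) (Oz : (n : Nat) → OfNat Int n → Int) (Iz : (n : Nat) → OfNat Int n) (Gz : Int → Int) (tl : List (ℕ × List ℤ × List ℤ × ℕ × List ℕ)) => (pk61l (fun i0 => (_root_.Prod.mk (pk61o On In (pk61d (nat_lit 8) 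
    (nat_lit 0xe9e8e7e6e5e4e3e1e0dfdedddcdad9d8d7) i0)) (_root_.Prod.mk (pk61l (fun i1 => (pk61y Oz Iz Gz (pk61d (nat_lit 4) 
    (nat_lit 0x2468a6642468a8442468a644246886442466864424468644224686442468a6622468a6422468864224668642244686422246864224688442246684422446844222468442) i1))) (Nat.mul (nat_lit 8) i0) (Nat.mul (nat_lit 8) (Nat.succ i0)) List.nil) (_root_.Prod.mk (pk61l (fun i1 => (pk61y Oz Iz Gz (pk61d (nat_lit 2) 
    (nat_lit 0x1a0024009602420902240290020009008502610921242190210210099024909090) i1))) (Nat.mul (nat_lit 8) i0) (Nat.mul (nat_lit 8) (Nat.succ i0)) List.nil) (_root_.Prod.mk (pk61o On In (pk61d (nat_lit 8) 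
    (nat_lit 0x8c92979b9ea0a1a8adb1b4b6b7bbbec0c1) i0)) (pk61l (fun i1 => (pk61o On In (pk61d (nat_lit 7) 
    (nat_lit 0x60c593369fbf4e9f428d2bbfbf7efdfb1e4cb9b3e8d3ab5ecfdfbf7efdfbf7efdfbbf8f3ebdfefdfbf7efdf7f7efdfbf7e56b16ae5ffbf49952e64dfd7afe0c38bf7efdfbf7efdfbf7edbbb7f0e3cb9f4ebdbf7efdfbf7cfdfbf7efdfbefefdfbf7e4ea14aafcbda7e8b1a3c8fd77f7efdfafe0c38bf7efdfbf7ecfa34ead7b3f7efdfb9f4ebdbf7bfdfbf7efdfbf7dfdfbf7e489537e54b99b8fd0a1c4fdfaefefdfaf7efdfb061c5fbf7ec99737efdfb56bd9fb871e5fbb7afdfbf7efdfbf7efbfbf7e448ff2652b593777fa041fdfbf5dfdfbf5efdfaffefd8717ec7fbf65cdfb469fdb376ffdcbaf9fdfbf7efdfbf7efdf7f7e43f91a550b18b674f7f3ffdfbf7ebbfbf7ebdfbf5ffd83f62fd8ff64fd9b3fed3af6fedfc7a78fdfbf7efdfbf7efdfbefefc851244ead83572f1f7efdfbf7efd77f7efd7bf7ebffb061fdfb1fec997f67d1abf6dddc39f7fdfbf7efdfbf7efdfbf7d3670e9e3e83f7efdfbf7efd3a7d0a34a9d4ab5abd8b36addcfdfbf7efdfbf7efdfbf7efdfbf7eefe3cfaf7f3f7efdfbf7e2e60c9afdf8fa0fdfbf7e5ffa2c68f2254b99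37f7efdfbf7eaf62cdab773f7efdfbf7efdfbf7ee7d3af6fdfbdfcfdfbf7e2854b7e35f8f7e41fbf7e5ce3f4287124fefdfa5cc9bfbf7ea956b7efdfad5bb9fbf7efdfbf7ee1c797eedfbd7ef9fbf7e244ff1633f8efefc83f7e5adddfe8107f49fdfa57efd326fea7fbf55adfac59fd73f7efdfbf7eddbff72ebfbcfefdf3f7e23f899531f8e7efdf907e58d9d3dfcfff7e93fbf4afd2ff4dfd4ff54fd5abfeb36ff7efdfbf7edbfb7f1e9fbc7efdfbe7efc449142ff8dfefdfbf2056d5cbc7dfbf7efd27f7e95fa5ccfdfa9fea957f57b16bf7efdfbf7efdb7770e7fbbfefdfbf7c1c3c87efc6bf1e3ffbf7e54cda7efdfbf42871234791fbf7ea14697efdfbf7efdfad5bb9fbf7ed5af67efddbf7af7fbf7e1837f10fc67f1dfc7ff7e52cbf34fdf9dfe81062fefd1e47e9ffbf51a5fbf7efdfac59fd73f7ed1a7f6cfdd7f79fdeff7e17f868ffc63f1cfdf8ffe50c7f7e69f9d3dfcfff45fd1bf48fd3ff50fd4bf7efdfabfeb36ff7ecffb4ebfdd3f78fdfbdfefc2c60efc5ff1bfdfbf1f4ec3f7efcd1cbc7dfbf7e8bfa347fdfa7fea147f7efdfbf57b16bf7efd9f46afdcff77fdfbf7b) i1))) (Nat.mul (nat_lit 56) i0) (Nat.mul (nat_lit 56) (Nat.succ i0)) List.nil)))))) (nat_lit 0) (nat_lit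 17) tl : List (ℕ × List ℤ × List ℤ × ℕ × List ℕ)))
    = ?xq9002 → (List (ℕ × List ℤ × List ℤ × ℕ × List ℕ))) ?hq9002; (case hq9002 => (set_option maxRecDepth 1000000 in conv => lhs; reduce)); intro _; exact ?xq9002 (@OfNat.ofNat Nat) instOfNatNat (@OfNat.ofNat Int) (@instOfNat) (@Neg.neg Int Int.instNegInt) y0 : List (ℕ × List ℤ × List ℤ × ℕ × List ℕ))
  let y2 : List (ℕ × List ℤ × List ℤ × ℕ × List ℕ) := (by
  refine (?fq9003 : (fun (On : (n : Nat) → OfNat Nat n → Nat) (In : (n : Nat) → OfNat Nat n) (Oz : (n : Nat) → OfNat Int n → Int) (Iz : (n : Nat) → OfNat Int n) (Gz : Int → Int) (tl : List (ℕ × List ℤ × List ℤ × ℕ × List ℕ)) => (pk61l (fun i0 => (_root_.Prod.mk (pk61o On In (pk61d (nat_lit 8) 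
    (nat_lit 0xd5d4d3d1d0cecbcac9c7c6c4c1c0bebbb7) i0)) (_root_.Prod.mk (pk61l (fun i1 => (pk61y Oz Iz Gz (pk61d (nat_lit 3) 
    (nat_lit 0x536d22526d224a6d22524d224a4d22494d22536d12526d124a6d12524d124a4d12494d125249124a4912494912492912524892) i1))) (Nat.mul (nat_lit 8) i0) (Nat.mul (nat_lit 8) (Nat.succ i0)) List.nil) (_root_.Prod.mk (pk61l (fun i1 => (pk61y Oz Iz Gz (pk61d (nat_lit 2) 
    (nat_lit 0x8482648924821089908840808042604920421849984848420609860866081202012) i1))) (Nat.mul (nat_lit 8) i0) (Nat.mul (nat_lit 8) (Nat.succ i0)) List.nil) (_root_.Prod.mk (pk61o On In (pk61d (nat_lit 8) 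
    (nat_lit 0xc4c6c7c9cacbced0d1d3d4d5d7d8d9dadc) i0)) (pk61l (fun i1 => (pk61o On In (pk61d (nat_lit 7) 
    (nat_lit 0x122bf7e205bf7e3a7bf7e4df9933fdf9bb8fdfbf40830e27e9dfbf7efdfa8d2fdfaad6fdfae7ecb9bf7ed9cbf7ef3ebf7e11f857e1e57f7e39f8f7e4bf98fe67f9b7e71f9efe7f0bf44fd3bf7efdfa87ea5faa7eadfadfec9fb37ed7c7f7ef1fbd7efc204fe1c53f7e37fbf1e49f987efccdafefce1e3efdfa143fdfa77efdfbf50a3fbf54abfad7efd932fed5c3f7eeffbf7a0ffbf0a1a4ff7efc70efe47fbf3165fbf366ff9d3bfdf9fc1fdfbf4efdfa7fefd4a9fefd5acfec7fbf66d3bff7efde3cfefc1ff09184bf7efc6ff1d45fbf30fccbf35fcddcfe76fbf40fdfbf7e9dfbf4ffd47f53fd56c7efd8ff65d1bbf7efddff79fdf83881647f7efdf8d9c43fbf7e60c7f7e6adbf3974f1efefdfbf7efd3bf7e9f43f7ea752bfefdfb1e4cfb7f7efdfbbf80a1bf7efdf8816326bf7efc994aafdf96aefdf97fefdfbf7efd020c389fa3c8fdfa64dfdfbf5cc38bf7efdfb672ebdbf7e09f837efdf879531f8d7efc9547e55f967e5dfbf2ffdfbf7e7bf9fc2fd1237e91fa5fe9bfbf5bc1fb17efdfb5f1e9fbb7efc102fefdf87142ffbf1afc913fefca95fefc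bbf7e5ffbf7e78fbf7e850ff468ffbf4b99fbf5afd830fefdfb570e7fbf7607fbf06fdf8693fc60cfefc8ff2853fbf2c5bfbf7efcbff7e74eff7e7f062fefd2257efd37f59bffbf62fdfb4effdd3afefc0ff05fdf8612fc5ff19fc8bf27fca7f2bfcb7f7efdf97fe73f9dbefd03f45fd1ff4afd33f58fd7ff61fdfb46efdcff75fdf8184fdf8591fdf8b98fc87f7e4ea3f7e56b3f7efdfbf2ffce5d3c7bfbf7e8b1bf7e952ff57fdfafe0fdfb3edfdfb9f405fbf7e0df857e2654b7efdf91a54dfbf7efdf962dfcbbf7e6cdff38fdfbf3f83124fefdfa6d6bdfbf7ec5fb37edfc797efc0bf7e0bf84fe2453f16fdf9124fc9bf7efdf95fe5bf977e6bf9bfe71f9f7e810ff49fdfa655fd7bf7ec3fb2feddc3f72fdf817e09f847e23f8a15fdf90fe4897f7efdfbf2b59fbf2efcd5b7efce1e3dfd0bf7e93fa5d4fdfaf7ec1fb27edbfb871fdfbf0207f83fefc44913fdfbf21448ff7efdfbf7efcad62dfdfbf356cddcba77fbf7efd26553fdfbf5ebffb1fefdb776f03fbf7efc1bf0a1a3c87efdfbf7efdf91a54df9429fcabf7e62cbf33fdf9a7efdfbf3f8312452bbfbf7efd8bf66d3af67e) i1))) (Nat.mul (nat_lit 56) i0) (Nat.mul (nat_lit 56) (Nat.succ i0)) List.nil)))))) (nat_lit 0) (nat_lit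 17) tl : List (ℕ × List ℤ × List ℤ × ℕ × List ℕ)))
    = ?xq9003 → (List (ℕ × List ℤ × List ℤ × ℕ × List ℕ))) ?hq9003; (case hq9003 => (set_option maxRecDepth 1000000 in conv => lhs; reduce)); intro _; exact ?xq9003 (@OfNat.ofNat Nat) instOfNatNat (@OfNat.ofNat Int) (@instOfNat) (@Neg.neg Int Int.instNegInt) y1 : List (ℕ × List ℤ × List ℤ × ℕ × List ℕ))
  (by
  refine (?fq9004 : (fun (On : (n : Nat) → OfNat Nat n → Nat) (In : (n : Nat) → OfNat Nat n) (Oz : (n : Nat) → OfNat Int n → Int) (Iz : (n : Nat) → OfNat Int n) (Gz : Int → Int) (tl : List (ℕ × List ℤ × List ℤ × ℕ × List ℕ)) => (pk61l (fun i0 => (_root_.Prod.mk (pk61o On In (pk61d (nat_lit 8) 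
    (nat_lit 0xb6b4b1ada8a1a09e9b97928c86817d7a78) i0)) (_root_.Prod.mk (pk61l (fun i1 => (pk61y Oz Iz Gz (pk61d (nat_lit 3) 
    (nat_lit 0x4a48924948924928924924924924825248904a4890494890492890492490492410492480492400492000490000480000400000) i1))) (Nat.mul (nat_lit 8) i0) (Nat.mul (nat_lit 8) (Nat.succ i0)) List.nil) (_root_.Prod.mk (pk61l (fun i1 => (pk61y Oz Iz Gz (pk61d (nat_lit 3) 
    (nat_lit 0x45004240a04240144240021240000a08000145000140a001401401400291400050400089400448402200411000488000840000) i1))) (Nat.mul (nat_lit 8) i0) (Nat.mul (nat_lit 8) (Nat.succ i0)) List.nil) (_root_.Prod.mk (pk61o On In (pk61d (nat_lit 8) 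
    (nat_lit 0xdddedfe0e1e3e4e5e6e7e8e9eaebecedee) i0)) (pk61l (fun i1 => (pk61o On In (pk61d (nat_lit 7) 
    (nat_lit 0xfc07f7efc17f09183bf10fdfbf7efdf9124fc993fe53f957e61f997e67fbf34fdf9f7e810e3d1fd77f7efd87f65d1abf6cfdf80fefc13f0817f870ffdfbf7efdf90fe4897f2751fbf2afcc18fefccff7e69f9e3dfd0a350fdfaefefd83f64cffb56bfdfbf01fc0ff07fc2c60dfdfbf7efdfbf21448ff7efc9d429fdfbf3062cbf7efcd1cba77fa2cffdfbf5dfd7ff63fd9f469fdfbf7e020bf7e0e2048afdfbf7efdfbf7efdf90a246912a6fdfbf7efdf983164cdab66ee3f4efdfbf7ebb7bf7ec7932e6fdfbf7efdf80820610286fdfbf7efdfbf7efdfbf7efdfbf7e42891a44a993a852a95ac5ab97fefdfbf7efdfaedebf830e201fbf7efdfbf7efdfbf7e0c2868f21f89952df8c19fc6bf7e3877f1efdf8ffefdf907efdfbf7efcfe0c49136956b36ee7efc03f7efdfbf7efdfbf7e0a2460efc40914fc58bfe33f8d7e37f8efe3dfbf1ffdfbf20fdfbf7e7dfa0438f328d5b16bf5cfdf807efdfbf7efdfbf7e08205fe1c3c8fe2857f1731fbf1afc6ce7efc7bf7e3ffbf7e41fbf7e78f7f428d2e854affad5bfdfbf00fdfbf7efdfbf7e061ff0b1837f1124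4ff7efc5cc19fdfbf1b3877f7efc7ff7efc83f7e72e9dfe8b2a7d3fd5ec59fdfbf7e01fbf7efdfbf7e05f8388122bf7efdf88922650a96fdfbf7efdf8d9c3a7bf7efdf907e6ad9bb8fd2677ea752ad6fdfbf7efc03f7efdfbf7e03fbf7efdf8388122858c1a38790fdfbf7efdfbf7efdf8d9c3a78ffe60c593369fbf4e9f428d2fdfbf7efdf807efdfbf7efc081840a1bf7efdfbf7efdfbf7e22489942a58b98326bf7efdfbf2056b16ae5ffbf49952e64dfdfbf7efdfbf00fdfbf7efc07f7efdf81840a1bf7efdfbf7e163068e1e43f7efdf8b98326bf1f4ea14aafcbda7e8b1a3c8fdfbf7efdfbf7e01fbf7efdf80fefdf817efdf82050dfbf7e102457efdf870f21f8a152df8d1e489537e54b99b8fd0a1c4fdfbf7efdfbf7efc03f7efdfbf01fdfbf02fdf81fefc1437e0ffbf0915f860dfc40913fc58c9d448ff2652b593777fa041fdfbf7efdfbf7efdf807efdfbf7e03fbf7e05fbf03fc13f06fc1ff08fc285fe1a3c8fe2654c1c43f91a550b18b674f7f3ffdfbf7efdfbf7efdfbf00fdfbf7efc07f7efc0bf7e07f8205fdf83fe1027f0b183bf112450b9bfc851244ead83572f1f7e) i1))) (Nat.mul (nat_lit 56) i0) (Nat.mul (nat_lit 56) (Nat.succ i0)) List.nil)))))) (nat_lit 0) (nat_lit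 17) tl : List (ℕ × List ℤ × List ℤ × ℕ × List ℕ)))
    = ?xq9004 → (List (ℕ × List ℤ × List ℤ × ℕ × List ℕ))) ?hq9004; (case hq9004 => (set_option maxRecDepth 1000000 in conv => lhs; reduce)); intro _; exact ?xq9004 (@OfNat.ofNat Nat) instOfNatNat (@OfNat.ofNat Int) (@instOfNat) (@Neg.neg Int Int.instNegInt) y2 : List (ℕ × List ℤ × List ℤ × ℕ × List ℕ))

/-- the coordinates of the roots of `E₇` -/
def RB : List (List ℤ) :=
  (by
  refine (?fq9005 : (fun (Oz : (n : Nat) → OfNat Int n → Int) (Iz : (n : Nat) → OfNat Int n) (Gz : Int → Int) => ((pk61l (fun i1 => (pk61l (fun i2 => (pk61y Oz Iz Gz (pk61d (nat_lit 4) 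
    (nat_lit 0x24686440246864202468442024664420244644202246442002464420246642202446422022464220024642202444422022444220024442202224422002244220002442202444222022442220024422202224222002242220002422202222222002222220002222200002222022222020022220200022202000022020000020200000002024442200224422000244220022242200022422000024220022222200022222000022220000022200222202000222020000220200000202000000020022222000022220000022200000022000000020002222000002220000002200000002000022200000022000000020000022000000020000002000000010000000010000001100000000100000011000001110000000010000001100000111000011110000000010000001100000111000011110001111100000000100000101000011010001110100111101000001110000111100011111001111110000131100011311001113110001331100113311001333110000000010000010100001101000111010011110101111101000011110001111100111111011111110001311100113111011131110013311101133111013331110001331100113311011133110013331101133311013333110013531101135311013353110135531100135331011353310133533101355331013573310135753101357533)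 i2))) (Nat.mul (nat_lit 8) i1) (Nat.mul (nat_lit 8) (Nat.succ i1)) List.nil)) (nat_lit 0) (nat_lit 126) List.nil) : List (List ℤ)))
    = ?xq9005 → (List (List ℤ))) ?hq9005; (case hq9005 => (set_option maxRecDepth 1000000 in conv => lhs; reduce)); intro _; exact ?xq9005 (@OfNat.ofNat Int) (@instOfNat) (@Neg.neg Int Int.instNegInt) : List (List ℤ))

/-- the product -/
def dot (l m : List ℤ) : ℤ := (List.zipWith (fun x y => x * y) l m).sum

/-- twice the inner product -/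
def vv (e f : ℕ × List ℤ × List ℤ × ℕ × List ℕ) : ℤ := 2 * dot e.2.1 f.2.2.1 - 1

/-- the entry of the table -/
def ent (s : ℕ) : ℕ × List ℤ × List ℤ × ℕ × List ℕ := (CT.find? fun e => Nat.beq e.1 s).getD (0, [], [], 0, [])

/-- the root coordinates -/
def pr (r : ℕ) (m : D1) : ℤ := ((List.range 8).map fun i => rt chevE8 (ι78 r) i * chevE8.cartan i (nn m)).sum

/-- the root coordinates from the table -/
noncomputable def chkA : Bool := CT.all fun e => ((List.range 8).map (fun i => rt chevE8 e.1 i) == e.2.1) &&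
  ((List.range 8).map (fun i => chevE8.cartan i e.1) == e.2.2.1) && Nat.beq (st e.1).1 e.2.2.2.1

theorem chkA_true : chkA = true := by decide +kernel

/-- completeness -/
noncomputable def chkB : Bool := (List.range 240).all fun s => !(decide (rt chevE8 s 7 = 1)) || CT.any (fun e => Nat.beq e.1 s)

theorem chkB_true : chkB = true := by decide +kernel

/-- the check of a pair -/
def chkP (e o f : ℕ × List ℤ × List ℤ × ℕ × List ℕ) (r : ℕ) : Bool :=
  (vv e f == vv f e) && ((vv e f == 3) == Nat.beq e.1 f.1) && ((vv e f == -3) == Nat.beq e.2.2.2.1 f.1) &&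
  (vv e f == 3 || vv e f == 1 || vv e f == -1 || vv e f == -3) && (vv o f == -(vv e f)) &&
  (!(vv e f == 1) || (Nat.blt r 126 && ((mv r f.1).map (fun x => x.1) == some e.1)))

/-- the check of a row -/
noncomputable def chkR (e : ℕ × List ℤ × List ℤ × ℕ × List ℕ) : Bool :=
  (List.zipWith (fun f r => chkP e (ent e.2.2.2.1) f r) CT e.2.2.2.2).all (fun b => b) && (e.2.2.2.2.length == 56)

private theorem _root_.Cfsg.Agent.KOc28a9c1.e0.{ku, kv} {α : Type kv} {M : List α → Sort ku} (φ : ∀ l, M l) {z : M List.nil} {s : ∀ a l, M l → M (List.cons a l)} (h0 : φ List.nil = z) (hs : ∀ a l, φ (List.cons a l) = s a l (φ l)) (l : List α) : φ l = @List.rec α M z s l := List.rec h0 (fun a l ih => (hs a l).trans (congrArg (s a l) ih)) l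
private noncomputable def _root_.Cfsg.Agent.KOc28a9c1.k1.{ku0} : type_of% @List.all.{ku0} := @(fun x0 x1 x2 => @List.rec.{(ku0+1), ku0} @x0 @(fun x3 => (@x0 → @Bool) → @Bool) @(fun x3 => @Bool.true) @(fun x3 x4 x5 x6 => @Bool.rec.{1} @(fun x7 => @Bool) @Bool.false (@x5 @x6) (@x6 @x3)) @x1 @x2)
private theorem _root_.Cfsg.Agent.KOc28a9c1.e1.{ku0} : @List.all.{ku0} = @_root_.Cfsg.Agent.KOc28a9c1.k1.{ku0} := by delta _root_.Cfsg.Agent.KOc28a9c1.k1; funext a0 a1 a2; refine (congrFun (_root_.Cfsg.Agent.KOc28a9c1.e0 (fun a1 a2 => @List.all.{ku0} a0 a1 a2) ?_ (fun c0 c1 => ?_) a1) a2 :) <;> (rfl')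
private theorem _root_.Cfsg.Agent.KOc28a9c1.e2.{ku} {M : Nat → Sort ku} (φ : ∀ n, M n) {z : M Nat.zero} {s : ∀ n, M n → M (Nat.succ n)} (h0 : φ Nat.zero = z) (hs : ∀ n, φ (Nat.succ n) = s n (φ n)) (n : Nat) : φ n = @Nat.rec M z s n := Nat.rec h0 (fun n ih => (hs n).trans (congrArg (s n) ih)) n
private noncomputable def _root_.Cfsg.Agent.KOc28a9c1.k11 : type_of% @Int.add := @(fun x0 x1 => @Int.rec.{1} @(fun x2 => ℤ) @(fun x2 => @Int.rec.{1} @(fun x3 => ℤ) @(fun x3 => @Int.ofNat (@Nat.add @x2 @x3)) @(fun x3 => @Nat.rec.{1} @(fun x4 => ℤ) (@Int.ofNat (@Nat.sub @x2 (@Nat.succ @x3))) @(fun x4 x5 => @Int.negSucc @x4) (@Nat.sub (@Nat.succ @x3) @x2)) @x1) @(fun x2 => @Int.rec.{1} @(fun x3 => ℤ) @(fun x3 => @Nat.rec.{1} @(fun x4 => ℤ) (@Int.ofNat (@Nat.sub @x3 (@Nat.succ @x2))) @(fun x4 x5 => @Int.negSucc @x4) (@Nat.sub (@Nat.succ @x2) @x3)) @(fun x3 => @Int.negSucc (@Nat.succ (@Nat.add @x2 @x3))) @x1) @x0)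
private theorem _root_.Cfsg.Agent.KOc28a9c1.e11 : @Int.add = @_root_.Cfsg.Agent.KOc28a9c1.k11 := by delta _root_.Cfsg.Agent.KOc28a9c1.k11; rfl'
private noncomputable def _root_.Cfsg.Agent.KOc28a9c1.oEq.{ku} (α : Sort ku) (a b : Nat) (f t : α) : α := @Decidable.rec (a = b) (fun _ => α) (fun _ => f) (fun _ => t) (Nat.decEq a b)
private noncomputable def _root_.Cfsg.Agent.KOc28a9c1.k13.{ku} (α : Sort ku) (a b : Nat) (f t : α) : α := @Bool.rec (fun _ => α) f t (Nat.beq a b)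
private theorem _root_.Cfsg.Agent.KOc28a9c1.e13.{ku} : @_root_.Cfsg.Agent.KOc28a9c1.oEq.{ku} = @_root_.Cfsg.Agent.KOc28a9c1.k13.{ku} := funext fun α => funext fun a => funext fun b => funext fun f => funext fun t => by delta _root_.Cfsg.Agent.KOc28a9c1.oEq _root_.Cfsg.Agent.KOc28a9c1.k13; cases h : Nat.beq a b <;> cases Nat.decEq a b <;> rename_i g <;> first | rfl | exact absurd g (Nat.ne_of_beq_eq_false h) | exact absurd (Nat.eq_of_beq_eq_true h) g
private noncomputable def _root_.Cfsg.Agent.KOc28a9c1.k17 : type_of% @Bool.decEq := @(fun x0 x1 => @Bool.rec.{1} @(fun x2 => @Decidable (@Eq.{1} _ @x2 @x1)) (@Bool.rec.{1} @(fun x2 => @Decidable (@Eq.{1} _ @Bool.false @x2)) (@Decidable.isTrue _ (@rfl.{1} _ _)) (@Decidable.isFalse _ @(fun x2 => @Bool.noConfusion.{0} _ _ _ @x2)) @x1) (@Bool.rec.{1} @(fun x2 => @Decidable (@Eq.{1} _ @Bool.true @x2)) (@Decidable.isFalse _ @(fun x2 => @Bool.noConfusion.{0} _ _ _ @x2)) (@Decidable.isTrue _ (@rfl.{1}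 _ _)) @x1) @x0)
private theorem _root_.Cfsg.Agent.KOc28a9c1.e17 : @Bool.decEq = @_root_.Cfsg.Agent.KOc28a9c1.k17 := by delta _root_.Cfsg.Agent.KOc28a9c1.k17; rfl'
private noncomputable def _root_.Cfsg.Agent.KOc28a9c1.k22.{ku0} : type_of% @List.take.{ku0} := @(fun x0 x1 x2 => @Nat.rec.{(ku0+1)} @(fun x3 => (@List.{ku0} @x0) → @List.{ku0} @x0) @(fun x3 => []) @(fun x3 x4 x5 => @List.rec.{(ku0+1), ku0} @x0 @(fun x6 => @List.{ku0} @x0) [] @(fun x6 x7 x8 => @x6 :: (@x4 @x7)) @x5) @x1 @x2)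
private theorem _root_.Cfsg.Agent.KOc28a9c1.e22.{ku0} : @List.take.{ku0} = @_root_.Cfsg.Agent.KOc28a9c1.k22.{ku0} := by delta _root_.Cfsg.Agent.KOc28a9c1.k22; funext a0 a1 a2; refine (congrFun (_root_.Cfsg.Agent.KOc28a9c1.e2 (fun a1 a2 => @List.take.{ku0} a0 a1 a2) ?_ (fun c0 => ?_) a1) a2 :) <;> [(funext b0; (rfl')); (funext b0; (cases b0 with | @nil  => (rfl') | @cons b0_0 b0_1 => (rfl')))]
private noncomputable def _root_.Cfsg.Agent.KOc28a9c1.k23.{ku0} : type_of% @List.length.{ku0} := @(fun x0 x1 => @List.rec.{1, ku0} @x0 @(fun x2 => ℕ) (nat_lit 0) @(fun x2 x3 x4 => @Nat.add @x4 (nat_lit 1)) @x1)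
private theorem _root_.Cfsg.Agent.KOc28a9c1.e23.{ku0} : @List.length.{ku0} = @_root_.Cfsg.Agent.KOc28a9c1.k23.{ku0} := by delta _root_.Cfsg.Agent.KOc28a9c1.k23; funext a0 a1; refine (_root_.Cfsg.Agent.KOc28a9c1.e0 (fun a1 => @List.length.{ku0} a0 a1) ?_ (fun c0 c1 => ?_) a1 :) <;> (rfl')
private noncomputable def _root_.Cfsg.Agent.KOc28a9c1.k25.{ku0, ku1, ku2} : type_of% @List.zipWith.{ku0, ku1, ku2} := @(fun x0 x1 x2 x3 x4 x5 => @List.rec.{(max (ku1+1) (ku2+1)), ku0} @x0 @(fun x6 => (@List.{ku1} @x1) → @List.{ku2} @x2) @(fun x6 => []) @(fun x6 x7 x8 x9 => @List.rec.{(ku2+1), ku1} @x1 @(fun x10 => @List.{ku2} @x2) [] @(fun x10 x11 x12 => (@x3 @x6 @x10) :: (@x8 @x11)) @x9) @x4 @x5)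
private theorem _root_.Cfsg.Agent.KOc28a9c1.e25.{ku0, ku1, ku2} : @List.zipWith.{ku0, ku1, ku2} = @_root_.Cfsg.Agent.KOc28a9c1.k25.{ku0, ku1, ku2} := by delta _root_.Cfsg.Agent.KOc28a9c1.k25; funext a0 a1 a2 a3 a4 a5; refine (congrFun (_root_.Cfsg.Agent.KOc28a9c1.e0 (fun a4 a5 => @List.zipWith.{ku0, ku1, ku2} a0 a1 a2 a3 a4 a5) ?_ (fun c0 c1 => ?_) a4) a5 :) <;> [(funext b0; (rfl')); (funext b0; (cases b0 with | @nil  => (rfl') | @cons b0_0 b0_1 => (rfl')))]
private noncomputable def _root_.Cfsg.Agent.KOc28a9c1.k26.{ku0, ku1} : type_of% @List.map.{ku0, ku1} := @(fun x0 x1 x2 x3 => @List.rec.{(ku1+1), ku0} @x0 @(fun x4 => @List.{ku1} @x1) [] @(fun x4 x5 x6 => (@x2 @x4) :: @x6) @x3)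
private theorem _root_.Cfsg.Agent.KOc28a9c1.e26.{ku0, ku1} : @List.map.{ku0, ku1} = @_root_.Cfsg.Agent.KOc28a9c1.k26.{ku0, ku1} := by delta _root_.Cfsg.Agent.KOc28a9c1.k26; funext a0 a1 a2 a3; refine (_root_.Cfsg.Agent.KOc28a9c1.e0 (fun a3 => @List.map.{ku0, ku1} a0 a1 a2 a3) ?_ (fun c0 c1 => ?_) a3 :) <;> (rfl')
private noncomputable def _root_.Cfsg.Agent.KOc28a9c1.k27.{ku0} : type_of% @List.filter.{ku0} := @(fun x0 x1 x2 => @List.rec.{(ku0+1), ku0} @x0 @(fun x3 => @List.{ku0} @x0) [] @(fun x3 x4 x5 => @Bool.rec.{(ku0+1)} @(fun x6 => @List.{ku0} @x0) @x5 (@x3 :: @x5) (@x1 @x3)) @x2)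
private theorem _root_.Cfsg.Agent.KOc28a9c1.e27.{ku0} : @List.filter.{ku0} = @_root_.Cfsg.Agent.KOc28a9c1.k27.{ku0} := by delta _root_.Cfsg.Agent.KOc28a9c1.k27; funext a0 a1 a2; refine (_root_.Cfsg.Agent.KOc28a9c1.e0 (fun a2 => @List.filter.{ku0} a0 a1 a2) ?_ (fun c0 c1 => ?_) a2 :) <;> (rfl')
private noncomputable def _root_.Cfsg.Agent.KOc28a9c1.k29.{ku0} : type_of% @List.get?Internal.{ku0} := @(fun x0 x1 x2 => @List.rec.{(ku0+1), ku0} @x0 @(fun x3 => ℕ → @Option.{ku0} @x0) @(fun x3 => @Option.none.{ku0} _) @(fun x3 x4 x5 x6 => @Nat.rec.{(ku0+1)} @(fun x7 => @Option.{ku0} @x0) (@Option.some.{ku0} _ @x3) @(fun x7 x8 => @x5 @x7) @x6) @x1 @x2)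
private theorem _root_.Cfsg.Agent.KOc28a9c1.e29.{ku0} : @List.get?Internal.{ku0} = @_root_.Cfsg.Agent.KOc28a9c1.k29.{ku0} := by delta _root_.Cfsg.Agent.KOc28a9c1.k29; funext a0 a1 a2; refine (congrFun (_root_.Cfsg.Agent.KOc28a9c1.e0 (fun a1 a2 => @List.get?Internal.{ku0} a0 a1 a2) ?_ (fun c0 c1 => ?_) a1) a2 :) <;> [(funext b0; (rfl')); (funext b0; (cases b0 with | @zero  => (rfl') | @succ b0_0 => (rfl')))]
private noncomputable def _root_.Cfsg.Agent.KOc28a9c1.k30 : (by first | exact type_of% @Cfsg.Agent.R2.T1.F56 | exact Unit : Sort _) := by first | (refine @Subtype.val _ (fun g => @Cfsg.Agent.R2.T1.F56 = @g) (@Subtype.mk _ _ (@(fun x0 x1 => @Cfsg.Agent.KOc28a9c1.k26.{0, 0} _ _ @(fun x2 => @Prod.snd.{0, 0} _ _ @x2) (@Cfsg.Agent.KOc28a9c1.k27.{0} _ @(fun x2 => @Nat.beq (@Prod.fst.{0, 0} _ _ @x2) @x1) (@Option.rec.{1, 0} (@List.{0} (ℕ × (ℕ × ℤ))) @(fun x2 => @List.{0} (ℕ × (ℕ × ℤ))) [] @(fun x2 => @x2) (@Cfsg.Agent.KOc28a9c1.k29.{0}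 _ @Cfsg.Agent.R2.T1.T56 @x0))))) ?_); rewrite [← Cfsg.Agent.KOc28a9c1.e29.{0}, ← Cfsg.Agent.KOc28a9c1.e27.{0}, ← Cfsg.Agent.KOc28a9c1.e26.{0, 0}]; (try delta Cfsg.Agent.R2.T1.F56); (try generalize @Cfsg.Agent.R2.T1.T56 = g0); rfl') | exact @Cfsg.Agent.R2.T1.F56 | exact ()
private theorem _root_.Cfsg.Agent.KOc28a9c1.e30 : (by first | exact @Cfsg.Agent.R2.T1.F56 = @_root_.Cfsg.Agent.KOc28a9c1.k30 | exact True : Prop) := by first | (delta _root_.Cfsg.Agent.KOc28a9c1.k30; exact @Subtype.property _ (fun g => @Cfsg.Agent.R2.T1.F56 = @g) _) | rfl | trivial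
private noncomputable def _root_.Cfsg.Agent.KOc28a9c1.k31 : type_of% @Int.mul := @(fun x0 x1 => @Int.rec.{1} @(fun x2 => ℤ) @(fun x2 => @Int.rec.{1} @(fun x3 => ℤ) @(fun x3 => @Int.ofNat (@Nat.mul @x2 @x3)) @(fun x3 => @Nat.rec.{1} @(fun x4 => ℤ) (@Int.ofNat (nat_lit 0)) @(fun x4 x5 => @Int.negSucc @x4) (@Nat.mul @x2 (@Nat.succ @x3))) @x1) @(fun x2 => @Int.rec.{1} @(fun x3 => ℤ) @(fun x3 => @Nat.rec.{1} @(fun x4 => ℤ) (@Int.ofNat (nat_lit 0)) @(fun x4 x5 => @Int.negSucc @x4) (@Nat.mul (@Nat.succ @x2) @x3)) @(fun x3 => @Int.ofNat (@Nat.mul (@Nat.succ @x2) (@Nat.succ @x3))) @x1) @x0)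
private theorem _root_.Cfsg.Agent.KOc28a9c1.e31 : @Int.mul = @_root_.Cfsg.Agent.KOc28a9c1.k31 := by delta _root_.Cfsg.Agent.KOc28a9c1.k31; rfl'
private noncomputable def _root_.Cfsg.Agent.KOc28a9c1.k32.{ku0, ku1} : type_of% @List.foldr.{ku0, ku1} := @(fun x0 x1 x2 x3 x4 => @List.rec.{(ku1+1), ku0} @x0 @(fun x5 => @x1) @x3 @(fun x5 x6 x7 => @x2 @x5 @x7) @x4)
private theorem _root_.Cfsg.Agent.KOc28a9c1.e32.{ku0, ku1} : @List.foldr.{ku0, ku1} = @_root_.Cfsg.Agent.KOc28a9c1.k32.{ku0, ku1} := by delta _root_.Cfsg.Agent.KOc28a9c1.k32; funext a0 a1 a2 a3 a4; refine (_root_.Cfsg.Agent.KOc28a9c1.e0 (fun a4 => @List.foldr.{ku0, ku1} a0 a1 a2 a3 a4) ?_ (fun c0 c1 => ?_) a4 :) <;> (rfl')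
private noncomputable def _root_.Cfsg.Agent.KOc28a9c1.k33 : (by first | exact type_of% @Cfsg.Agent.R2.PX.Comb.dot | exact Unit : Sort _) := by first | (refine @Subtype.val _ (fun g => @Cfsg.Agent.R2.PX.Comb.dot = @g) (@Subtype.mk _ _ (@(fun x0 x1 => @Cfsg.Agent.KOc28a9c1.k32.{0, 0} _ _ @(fun x2 x3 => @Cfsg.Agent.KOc28a9c1.k11 @x2 @x3) (@Int.ofNat (nat_lit 0)) (@Cfsg.Agent.KOc28a9c1.k25.{0, 0, 0} _ _ _ @(fun x2 x3 => @Cfsg.Agent.KOc28a9c1.k31 @x2 @x3) @x0 @x1))) ?_); rewrite [← Cfsg.Agent.KOc28a9c1.e31, ← Cfsg.Agent.KOc28a9c1.e25.{0, 0, 0}, ← Cfsg.Agent.KOc28a9c1.e11, ← Cfsg.Agent.KOc28a9c1.e32.{0, 0}]; rfl') | exact @Cfsg.Agent.R2.PX.Comb.dot | exact ()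
private theorem _root_.Cfsg.Agent.KOc28a9c1.e33 : (by first | exact @Cfsg.Agent.R2.PX.Comb.dot = @_root_.Cfsg.Agent.KOc28a9c1.k33 | exact True : Prop) := by first | (delta _root_.Cfsg.Agent.KOc28a9c1.k33; exact @Subtype.property _ (fun g => @Cfsg.Agent.R2.PX.Comb.dot = @g) _) | rfl | trivial
private noncomputable def _root_.Cfsg.Agent.KOc28a9c1.k34 : (by first | exact type_of% @Cfsg.Agent.R2.PX.Comb.vv | exact Unit : Sort _) := by first | (refine @Subtype.val _ (fun g => @Cfsg.Agent.R2.PX.Comb.vv = @g) (@Subtype.mk _ _ (@(fun x0 x1 => @Cfsg.Agent.KOc28a9c1.k11 (@Cfsg.Agent.KOc28a9c1.k31 (@Int.ofNat (nat_lit 2)) (@Cfsg.Agent.KOc28a9c1.k33 (@Prod.fst.{0, 0} _ _ (@Prod.snd.{0, 0} _ _ @x0)) (@Prod.fst.{0, 0} _ _ (@Prod.snd.{0, 0} _ _ (@Prod.snd.{0, 0} _ _ @x1))))) (@Nat.rec.{1} @(fun x2 => ℤ) (@Int.ofNat (nat_lit 0)) @(fun x2 x3 => @Int.negSucc @x2) (nat_lit 1)))) ?_); rewrite [← Cfsg.Agent.KOc28a9c1.e33, ← Cfsg.Agent.KOc28a9c1.e31, ←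 Cfsg.Agent.KOc28a9c1.e11]; (try delta Cfsg.Agent.R2.PX.Comb.vv); (try generalize @Cfsg.Agent.R2.PX.Comb.dot = g0); rfl') | exact @Cfsg.Agent.R2.PX.Comb.vv | exact ()
private theorem _root_.Cfsg.Agent.KOc28a9c1.e34 : (by first | exact @Cfsg.Agent.R2.PX.Comb.vv = @_root_.Cfsg.Agent.KOc28a9c1.k34 | exact True : Prop) := by first | (delta _root_.Cfsg.Agent.KOc28a9c1.k34; exact @Subtype.property _ (fun g => @Cfsg.Agent.R2.PX.Comb.vv = @g) _) | rfl | trivial
private noncomputable def _root_.Cfsg.Agent.KOc28a9c1.k35 : (by first | exact type_of% @Cfsg.Agent.R2.PX.Comb.chkP | exact Unit : Sort _) := by first | (refine @Subtype.val _ (fun g => @Cfsg.Agent.R2.PX.Comb.chkP = @g) (@Subtype.mk _ _ (@(fun x0 x1 x2 x3 => @Bool.rec.{1} @(fun x4 => @Bool) @Bool.false (@Bool.rec.{1} @(fun x4 => @Bool) (@Bool.rec.{1} @(fun x4 => @Bool) @Bool.false (@Option.rec.{1, 0} ℕ @(fun x4 => @Bool) @Bool.false @(fun x4 => @Cfsg.Agent.KOc28a9c1.k13.{1} @Bool @x4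 (@Prod.fst.{0, 0} _ _ @x0) @Bool.false @Bool.true) (@Option.rec.{1, 0} (ℕ × ℤ) @(fun x4 => @Option.{0} ℕ) (@Option.none.{0} _) @(fun x4 => @Option.some.{0} _ (@Prod.fst.{0, 0} _ _ @x4)) (@List.rec.{1, 0} (ℕ × ℤ) @(fun x4 => @Option.{0} (ℕ × ℤ)) (@Option.none.{0} _) @(fun x4 x5 x6 => @Option.some.{0} _ @x4) (@Cfsg.Agent.KOc28a9c1.k30 @x3 (@Prod.fst.{0, 0} _ _ @x2))))) (@Nat.ble (@Nat.succ @x3) (nat_lit 126))) @Bool.true (@Bool.rec.{1} @(fun x4 => @Bool) @Bool.true @Bool.false (@Decidable.rec.{1} _ @(fun x4 => @Bool) @(fun x4 => @Bool.false) @(fun x4 => @Bool.true) (@Int.decEq (@Cfsg.Agent.KOc28a9c1.k34 @x0 @x2) (@Int.ofNat (nat_lit 1)))))) (@Bool.rec.{1} @(fun x4 => @Bool) @Bool.false (@Decidable.rec.{1} _ @(fun x4 => @Bool) @(fun x4 => @Bool.false) @(fun x4 => @Bool.true) (@Int.decEq (@Cfsg.Agent.KOc28a9c1.k34 @x1 @x2) (@Int.rec.{1} @(fun x4 => ℤ) @(fun x4 => @Nat.rec.{1} @(fun x5 => ℤ) (@Int.ofNat (nat_lit 0)) @(fun x5 x6 => @Int.negSucc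 @x5) @x4) @(fun x4 => @Int.ofNat (@Nat.succ @x4)) (@Cfsg.Agent.KOc28a9c1.k34 @x0 @x2)))) (@Bool.rec.{1} @(fun x4 => @Bool) @Bool.false (@Bool.rec.{1} @(fun x4 => @Bool) (@Decidable.rec.{1} _ @(fun x4 => @Bool) @(fun x4 => @Bool.false) @(fun x4 => @Bool.true) (@Int.decEq (@Cfsg.Agent.KOc28a9c1.k34 @x0 @x2) (@Nat.rec.{1} @(fun x4 => ℤ) (@Int.ofNat (nat_lit 0)) @(fun x4 x5 => @Int.negSucc @x4) (nat_lit 3)))) @Bool.true (@Bool.rec.{1} @(fun x4 => @Bool) (@Decidable.rec.{1} _ @(fun x4 => @Bool) @(fun x4 => @Bool.false) @(fun x4 => @Bool.true) (@Int.decEq (@Cfsg.Agent.KOc28a9c1.k34 @x0 @x2) (@Nat.rec.{1} @(fun x4 => ℤ) (@Int.ofNat (nat_lit 0)) @(fun x4 x5 => @Int.negSucc @x4) (nat_lit 1)))) @Bool.true (@Bool.rec.{1} @(fun x4 => @Bool) (@Decidable.rec.{1} _ @(fun x4 => @Bool) @(fun x4 => @Bool.false) @(fun x4 => @Bool.true) (@Int.decEq (@Cfsg.Agent.KOc28a9c1.k34 @x0 @x2) (@Int.ofNat (nat_lit 1)))) @Bool.true (@Decidable.rec.{1} _ @(fun x4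 => @Bool) @(fun x4 => @Bool.false) @(fun x4 => @Bool.true) (@Int.decEq (@Cfsg.Agent.KOc28a9c1.k34 @x0 @x2) (@Int.ofNat (nat_lit 3))))))) (@Bool.rec.{1} @(fun x4 => @Bool) @Bool.false (@Decidable.rec.{1} _ @(fun x4 => @Bool) @(fun x4 => @Bool.false) @(fun x4 => @Bool.true) (@Cfsg.Agent.KOc28a9c1.k17 (@Decidable.rec.{1} _ @(fun x4 => @Bool) @(fun x4 => @Bool.false) @(fun x4 => @Bool.true) (@Int.decEq (@Cfsg.Agent.KOc28a9c1.k34 @x0 @x2) (@Nat.rec.{1} @(fun x4 => ℤ) (@Int.ofNat (nat_lit 0)) @(fun x4 x5 => @Int.negSucc @x4) (nat_lit 3)))) (@Nat.beq (@Prod.fst.{0, 0} _ _ (@Prod.snd.{0, 0} _ _ (@Prod.snd.{0, 0} _ _ (@Prod.snd.{0, 0} _ _ @x0)))) (@Prod.fst.{0, 0} _ _ @x2)))) (@Bool.rec.{1} @(fun x4 => @Bool) @Bool.false (@Decidable.rec.{1} _ @(fun x4 => @Bool) @(fun x4 => @Bool.false) @(fun x4 => @Bool.true) (@Cfsg.Agent.KOc28a9c1.k17 (@Decidable.rec.{1} _ @(fun x4 => @Bool) @(fun x4 => @Bool.false) @(fun x4 => @Bool.true) (@Int.decEq (@Cfsg.Agent.KOc28a9c1.k34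 @x0 @x2) (@Int.ofNat (nat_lit 3)))) (@Nat.beq (@Prod.fst.{0, 0} _ _ @x0) (@Prod.fst.{0, 0} _ _ @x2)))) (@Decidable.rec.{1} _ @(fun x4 => @Bool) @(fun x4 => @Bool.false) @(fun x4 => @Bool.true) (@Int.decEq (@Cfsg.Agent.KOc28a9c1.k34 @x0 @x2) (@Cfsg.Agent.KOc28a9c1.k34 @x2 @x0))))))))) ?_); rewrite [← Cfsg.Agent.KOc28a9c1.e17, ← Cfsg.Agent.KOc28a9c1.e34, ← Cfsg.Agent.KOc28a9c1.e30, ← Cfsg.Agent.KOc28a9c1.e13.{1}]; (try delta Cfsg.Agent.R2.PX.Comb.chkP Cfsg.Agent.R2.T1.mv); (try generalize @Cfsg.Agent.R2.T1.F56 = g0); (try generalize @Cfsg.Agent.R2.PX.Comb.vv = g1); rfl') | exact @Cfsg.Agent.R2.PX.Comb.chkP | exact ()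
private theorem _root_.Cfsg.Agent.KOc28a9c1.e35 : (by first | exact @Cfsg.Agent.R2.PX.Comb.chkP = @_root_.Cfsg.Agent.KOc28a9c1.k35 | exact True : Prop) := by first | (delta _root_.Cfsg.Agent.KOc28a9c1.k35; exact @Subtype.property _ (fun g => @Cfsg.Agent.R2.PX.Comb.chkP = @g) _) | rfl | trivial
private noncomputable def _root_.Cfsg.Agent.KOc28a9c1.k36.{ku0} : type_of% @List.find?.{ku0} := @(fun x0 x1 x2 => @List.rec.{(ku0+1), ku0} @x0 @(fun x3 => @Option.{ku0} @x0) (@Option.none.{ku0} _) @(fun x3 x4 x5 => @Bool.rec.{(ku0+1)} @(fun x6 => @Option.{ku0} @x0) @x5 (@Option.some.{ku0} _ @x3) (@x1 @x3)) @x2)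
private theorem _root_.Cfsg.Agent.KOc28a9c1.e36.{ku0} : @List.find?.{ku0} = @_root_.Cfsg.Agent.KOc28a9c1.k36.{ku0} := by delta _root_.Cfsg.Agent.KOc28a9c1.k36; funext a0 a1 a2; refine (_root_.Cfsg.Agent.KOc28a9c1.e0 (fun a2 => @List.find?.{ku0} a0 a1 a2) ?_ (fun c0 c1 => ?_) a2 :) <;> (rfl')
private noncomputable def _root_.Cfsg.Agent.KOc28a9c1.k37 : (by first | exact type_of% @Cfsg.Agent.R2.PX.Comb.ent | exact Unit : Sort _) := by first | (refine @Subtype.val _ (fun g => @Cfsg.Agent.R2.PX.Comb.ent = @g) (@Subtype.mk _ _ (@(fun x0 => @Option.rec.{1, 0} (ℕ × ((@List.{0} ℤ) × ((@List.{0} ℤ) × (ℕ × (@List.{0} ℕ))))) @(fun x1 => ℕ × ((@List.{0} ℤ) × ((@List.{0} ℤ) × (ℕ × (@List.{0} ℕ))))) ((nat_lit 0, ([], ([], (nat_lit 0, []))))) @(fun x1 => @x1) (@Cfsg.Agent.KOc28a9c1.k36.{0} _ @(fun x1 => @Nat.beq (@Prod.fst.{0, 0} _ _ @x1) @x0) @Cfsg.Agent.R2.PX.Comb.CT))) ?_); rewrite [← Cfsg.Agent.KOc28a9c1.e36.{0}]; (try delta Cfsg.Agent.R2.PX.Comb.ent);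 (try generalize @Cfsg.Agent.R2.PX.Comb.CT = g0); rfl') | exact @Cfsg.Agent.R2.PX.Comb.ent | exact ()
private theorem _root_.Cfsg.Agent.KOc28a9c1.e37 : (by first | exact @Cfsg.Agent.R2.PX.Comb.ent = @_root_.Cfsg.Agent.KOc28a9c1.k37 | exact True : Prop) := by first | (delta _root_.Cfsg.Agent.KOc28a9c1.k37; exact @Subtype.property _ (fun g => @Cfsg.Agent.R2.PX.Comb.ent = @g) _) | rfl | trivial
private noncomputable def _root_.Cfsg.Agent.KOc28a9c1.k38 : (by first | exact type_of% @Cfsg.Agent.R2.PX.Comb.chkR | exact Unit : Sort _) := by first | (refine @Subtype.val _ (fun g => @Cfsg.Agent.R2.PX.Comb.chkR = @g) (@Subtype.mk _ _ (@(fun x0 => @Bool.rec.{1} @(fun x1 => @Bool) @Bool.false (@Cfsg.Agent.KOc28a9c1.k13.{1} @Bool (@Cfsg.Agent.KOc28a9c1.k23.{0} _ (@Prod.snd.{0, 0} _ _ (@Prod.snd.{0, 0} _ _ (@Prod.snd.{0, 0} _ _ (@Prod.snd.{0, 0} _ _ @x0))))) (nat_lit 56) @Bool.false @Bool.true) (@Cfsg.Agent.KOc28a9c1.k1.{0} _ (@Cfsg.Agent.KOc28a9c1.k25.{0,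 0, 0} _ _ _ @(fun x1 x2 => @Cfsg.Agent.KOc28a9c1.k35 @x0 (@Cfsg.Agent.KOc28a9c1.k37 (@Prod.fst.{0, 0} _ _ (@Prod.snd.{0, 0} _ _ (@Prod.snd.{0, 0} _ _ (@Prod.snd.{0, 0} _ _ @x0))))) @x1 @x2) @Cfsg.Agent.R2.PX.Comb.CT (@Prod.snd.{0, 0} _ _ (@Prod.snd.{0, 0} _ _ (@Prod.snd.{0, 0} _ _ (@Prod.snd.{0, 0} _ _ @x0))))) @(fun x1 => @x1)))) ?_); rewrite [← Cfsg.Agent.KOc28a9c1.e37, ← Cfsg.Agent.KOc28a9c1.e35, ← Cfsg.Agent.KOc28a9c1.e25.{0, 0, 0}, ← Cfsg.Agent.KOc28a9c1.e1.{0}, ← Cfsg.Agent.KOc28a9c1.e23.{0}, ← Cfsg.Agent.KOc28a9c1.e13.{1}]; (try delta Cfsg.Agent.R2.PX.Comb.chkR); (try generalize @Cfsg.Agent.R2.PX.Comb.chkP = g0); (try generalize @Cfsg.Agent.R2.PX.Comb.ent = g1); (try generalize @Cfsg.Agent.R2.PX.Comb.CT = g2); rfl') | exact @Cfsg.Agent.R2.PX.Comb.chkR | exact ()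
private theorem _root_.Cfsg.Agent.KOc28a9c1.e38 : (by first | exact @Cfsg.Agent.R2.PX.Comb.chkR = @_root_.Cfsg.Agent.KOc28a9c1.k38 | exact True : Prop) := by first | (delta _root_.Cfsg.Agent.KOc28a9c1.k38; exact @Subtype.property _ (fun g => @Cfsg.Agent.R2.PX.Comb.chkR = @g) _) | rfl | trivial

theorem chkR_a : (CT.take 14).all chkR = true := by (first | (rewrite [Cfsg.Agent.KOc28a9c1.e1.{0}, Cfsg.Agent.KOc28a9c1.e22.{0}, Cfsg.Agent.KOc28a9c1.e38]; decide +kernel) | decide +kernel)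
private noncomputable def _root_.Cfsg.Agent.KOc28a9c1.k40.{ku0} : type_of% @List.drop.{ku0} := @(fun x0 x1 x2 => @Nat.rec.{(ku0+1)} @(fun x3 => (@List.{ku0} @x0) → @List.{ku0} @x0) @(fun x3 => @x3) @(fun x3 x4 x5 => @List.rec.{(ku0+1), ku0} @x0 @(fun x6 => @List.{ku0} @x0) [] @(fun x6 x7 x8 => @x4 @x7) @x5) @x1 @x2)
private theorem _root_.Cfsg.Agent.KOc28a9c1.e40.{ku0} : @List.drop.{ku0} = @_root_.Cfsg.Agent.KOc28a9c1.k40.{ku0} := by delta _root_.Cfsg.Agent.KOc28a9c1.k40; funext a0 a1 a2; refine (congrFun (_root_.Cfsg.Agent.KOc28a9c1.e2 (fun a1 a2 => @List.drop.{ku0} a0 a1 a2) ?_ (fun c0 => ?_) a1) a2 :) <;> [(funext b0; (rfl')); (funext b0; (cases b0 with | @nil  => (rfl') | @cons b0_0 b0_1 => (rfl')))]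

theorem chkR_b : ((CT.drop 14).take 14).all chkR = true := by (first | (rewrite [Cfsg.Agent.KOc28a9c1.e1.{0}, Cfsg.Agent.KOc28a9c1.e22.{0}, Cfsg.Agent.KOc28a9c1.e40.{0}, Cfsg.Agent.KOc28a9c1.e38]; decide +kernel) | decide +kernel)
theorem chkR_c : ((CT.drop 28).take 14).all chkR = true := by (first | (rewrite [Cfsg.Agent.KOc28a9c1.e1.{0}, Cfsg.Agent.KOc28a9c1.e22.{0}, Cfsg.Agent.KOc28a9c1.e40.{0}, Cfsg.Agent.KOc28a9c1.e38]; decide +kernel) | decide +kernel)
theorem chkR_d : (CT.drop 42).all chkR = true := by (first | (rewrite [Cfsg.Agent.KOc28a9c1.e1.{0}, Cfsg.Agent.KOc28a9c1.e40.{0}, Cfsg.Agent.KOc28a9c1.e38]; decide +kernel) | decide +kernel)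

/-- the root coordinates from the table -/
noncomputable def chkD : Bool := (List.zipWith (fun r b => (List.range 8).map (fun i => rt chevE8 (ι78 r) i) == b) (List.range 126) RB).all
  (fun b => b) && (RB.length == 126)

theorem chkD_true : chkD = true := by decide +kernel

/-- the check of additivity -/
noncomputable def chkE (r : ℕ) (b : List ℤ) : Bool := (T56.getD r []).all fun x =>
  ((ent x.2.1).2.1 == List.zipWith (fun x y => x + y) (ent x.1).2.1 b) && (vv (ent x.2.1) (ent x.1) == 1) &&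
  ((List.zip CT (ent x.2.1).2.2.2.2).all fun y => !(Nat.beq y.1.1 x.1) || Nat.beq y.2 r)

private noncomputable def _root_.Cfsg.Agent.KOc28a9c1.k3 : type_of% @List.range.loop := @(fun x0 x1 => @Nat.rec.{1} @(fun x2 => (@List.{0} ℕ) → @List.{0} ℕ) @(fun x2 => @x2) @(fun x2 x3 x4 => @x3 (@x2 :: @x4)) @x0 @x1)
private theorem _root_.Cfsg.Agent.KOc28a9c1.e3 : @List.range.loop = @_root_.Cfsg.Agent.KOc28a9c1.k3 := by delta _root_.Cfsg.Agent.KOc28a9c1.k3; funext a0 a1; refine (congrFun (_root_.Cfsg.Agent.KOc28a9c1.e2 (fun a0 a1 => @List.range.loop a0 a1) ?_ (fun c0 => ?_) a0) a1 :) <;> (rfl')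
private noncomputable def _root_.Cfsg.Agent.KOc28a9c1.k4 : type_of% @List.range := @(fun x0 => @Cfsg.Agent.KOc28a9c1.k3 @x0 [])
private theorem _root_.Cfsg.Agent.KOc28a9c1.e4 : @List.range = @_root_.Cfsg.Agent.KOc28a9c1.k4 := by delta _root_.Cfsg.Agent.KOc28a9c1.k4; rewrite [← Cfsg.Agent.KOc28a9c1.e3]; rfl'
private noncomputable def _root_.Cfsg.Agent.KOc28a9c1.k8 : type_of% @Nat.decEq := @(fun x0 x1 => @Bool.rec.{1} @(fun x2 => (@Eq.{1} _ (@Nat.beq @x0 @x1) @x2) → @Decidable (@Eq.{1} _ @x0 @x1)) @(fun x2 => @Decidable.isFalse _ (@Nat.ne_of_beq_eq_false _ _ @x2)) @(fun x2 => @Decidable.isTrue _ (@Nat.eq_of_beq_eq_true _ _ @x2)) (@Nat.beq @x0 @x1) (@Eq.refl.{1} _ (@Nat.beq @x0 @x1)))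
private theorem _root_.Cfsg.Agent.KOc28a9c1.e8 : @Nat.decEq = @_root_.Cfsg.Agent.KOc28a9c1.k8 := by delta _root_.Cfsg.Agent.KOc28a9c1.k8; rfl'
private noncomputable def _root_.Cfsg.Agent.KOc28a9c1.k9 : type_of% @Int.decEq := @(fun x0 x1 => @Int.rec.{1} @(fun x2 => @Decidable (@Eq.{1} _ @x2 @x1)) @(fun x2 => @Int.rec.{1} @(fun x3 => @Decidable (@Eq.{1} _ (@Int.ofNat @x2) @x3)) @(fun x3 => @Decidable.rec.{1} _ @(fun x4 => @Decidable (@Eq.{1} _ (@Int.ofNat @x2) (@Int.ofNat @x3))) @(fun x4 => @Decidable.isFalse _ (@Int.decEq._proof_2 @x2 @x3 @x4)) @(fun x4 => @Decidable.isTrue _ (@Int.decEq._proof_1 @x2 @x3 @x4)) (@Cfsg.Agent.KOc28a9c1.k8 @x2 @x3)) @(fun x3 => @Decidable.isFalse _ (@Int.decEq._proof_3 @x2 @x3)) @x1) @(fun x2 => @Int.rec.{1} @(fun x3 => @Decidable (@Eq.{1} _ (@Int.negSucc @x2) @x3)) @(fun x3 => @Decidable.isFalse _ (@Int.decEq._proof_4 @x2 @x3)) @(fun x3 => @Decidable.rec.{1} _ @(fun x4 => @Decidable (@Eq.{1} _ (@Int.negSucc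 @x2) (@Int.negSucc @x3))) @(fun x4 => @Decidable.isFalse _ (@Int.decEq._proof_6 @x2 @x3 @x4)) @(fun x4 => @Decidable.isTrue _ (@Int.decEq._proof_5 @x2 @x3 @x4)) (@Cfsg.Agent.KOc28a9c1.k8 @x2 @x3)) @x1) @x0)
private theorem _root_.Cfsg.Agent.KOc28a9c1.e9 : @Int.decEq = @_root_.Cfsg.Agent.KOc28a9c1.k9 := by delta _root_.Cfsg.Agent.KOc28a9c1.k9; rewrite [← Cfsg.Agent.KOc28a9c1.e8]; rfl'
private noncomputable def _root_.Cfsg.Agent.KOc28a9c1.k45.{ku0} : type_of% @List.beq.{ku0} := @(fun x0 x1 x2 x3 => @List.rec.{(ku0+1), ku0} @x0 @(fun x4 => (@List.{ku0} @x0) → @Bool) @(fun x4 => @List.rec.{1, ku0} @x0 @(fun x5 => @Bool) @Bool.true @(fun x5 x6 x7 => @Bool.false) @x4) @(fun x4 x5 x6 x7 => @List.rec.{1, ku0} @x0 @(fun x8 => @Bool) @Bool.false @(fun x8 x9 x10 => @Bool.rec.{1} @(fun x11 => @Bool) @Bool.false (@x6 @x9) (@BEq.beq.{ku0} _ @x1 @x4 @x8)) @x7) @x2 @x3)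
private theorem _root_.Cfsg.Agent.KOc28a9c1.e45.{ku0} : @List.beq.{ku0} = @_root_.Cfsg.Agent.KOc28a9c1.k45.{ku0} := by delta _root_.Cfsg.Agent.KOc28a9c1.k45; funext a0 a1 a2 a3; refine (congrFun (_root_.Cfsg.Agent.KOc28a9c1.e0 (fun a2 a3 => @List.beq.{ku0} a0 a1 a2 a3) ?_ (fun c0 c1 => ?_) a2) a3 :) <;> [(funext b0; (cases b0 with | @nil  => (rfl') | @cons b0_0 b0_1 => (rfl'))); (funext b0; (cases b0 with | @nil  => (rfl') | @cons b0_0 b0_1 => (rfl')))]
private noncomputable def _root_.Cfsg.Agent.KOc28a9c1.k46 : (by first | exact type_of% @Cfsg.Agent.R2.PX.Comb.chkE | exact Unit : Sort _) := by first | (refine @Subtype.val _ (fun g => @Cfsg.Agent.R2.PX.Comb.chkE = @g) (@Subtype.mk _ _ (@(fun x0 x1 => @Cfsg.Agent.KOc28a9c1.k1.{0} _ (@Option.rec.{1, 0} (@List.{0} (ℕ × (ℕ × ℤ))) @(fun x2 => @List.{0} (ℕ × (ℕ × ℤ))) [] @(fun x2 => @x2) (@Cfsg.Agent.KOc28a9c1.k29.{0} _ @Cfsg.Agent.R2.T1.T56 @x0)) @(fun x2 => @Bool.rec.{1} @(fun x3 => @Bool)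 @Bool.false (@Cfsg.Agent.KOc28a9c1.k1.{0} _ (@Cfsg.Agent.KOc28a9c1.k25.{0, 0, 0} _ _ _ (@Prod.mk.{0, 0} _ _) @Cfsg.Agent.R2.PX.Comb.CT (@Prod.snd.{0, 0} _ _ (@Prod.snd.{0, 0} _ _ (@Prod.snd.{0, 0} _ _ (@Prod.snd.{0, 0} _ _ (@Cfsg.Agent.KOc28a9c1.k37 (@Prod.fst.{0, 0} _ _ (@Prod.snd.{0, 0} _ _ @x2)))))))) @(fun x3 => @Bool.rec.{1} @(fun x4 => @Bool) (@Nat.beq (@Prod.snd.{0, 0} _ _ @x3) @x0) @Bool.true (@Bool.rec.{1} @(fun x4 => @Bool) @Bool.true @Bool.false (@Nat.beq (@Prod.fst.{0, 0} _ _ (@Prod.fst.{0, 0} _ _ @x3)) (@Prod.fst.{0, 0} _ _ @x2))))) (@Bool.rec.{1} @(fun x3 => @Bool) @Bool.false (@Decidable.rec.{1} _ @(fun x3 => @Bool) @(fun x3 => @Bool.false) @(fun x3 => @Bool.true) (@Cfsg.Agent.KOc28a9c1.k9 (@Cfsg.Agent.KOc28a9c1.k34 (@Cfsg.Agent.KOc28a9c1.k37 (@Prod.fst.{0, 0} _ _ (@Prod.snd.{0, 0} _ _ @x2))) (@Cfsg.Agent.KOc28a9c1.k37 (@Prod.fst.{0, 0} _ _ @x2))) (@Int.ofNat (nat_lit 1)))) (@Cfsg.Agent.KOc28a9c1.k45.{0} _ (@BEq.mk.{0}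 _ @(fun x3 x4 => @Decidable.rec.{1} _ @(fun x5 => @Bool) @(fun x5 => @Bool.false) @(fun x5 => @Bool.true) (@Cfsg.Agent.KOc28a9c1.k9 @x3 @x4))) (@Prod.fst.{0, 0} _ _ (@Prod.snd.{0, 0} _ _ (@Cfsg.Agent.KOc28a9c1.k37 (@Prod.fst.{0, 0} _ _ (@Prod.snd.{0, 0} _ _ @x2))))) (@Cfsg.Agent.KOc28a9c1.k25.{0, 0, 0} _ _ _ @(fun x3 x4 => @Cfsg.Agent.KOc28a9c1.k11 @x3 @x4) (@Prod.fst.{0, 0} _ _ (@Prod.snd.{0, 0} _ _ (@Cfsg.Agent.KOc28a9c1.k37 (@Prod.fst.{0, 0} _ _ @x2)))) @x1)))))) ?_); rewrite [← Cfsg.Agent.KOc28a9c1.e11, ← Cfsg.Agent.KOc28a9c1.e45.{0}, ← Cfsg.Agent.KOc28a9c1.e34, ← Cfsg.Agent.KOc28a9c1.e9, ← Cfsg.Agent.KOc28a9c1.e37, ← Cfsg.Agent.KOc28a9c1.e25.{0, 0, 0}, ← Cfsg.Agent.KOc28a9c1.e29.{0}, ← Cfsg.Agent.KOc28a9c1.e1.{0}]; (try delta Cfsg.Agent.R2.PX.Comb.chkE); (try generalize @Cfsg.Agent.R2.T1.T56 = g0); (try generalize @Cfsg.Agent.R2.PX.Comb.CT = g1); (try generalize @Cfsg.Agent.R2.PX.Comb.ent = g2); (try generalize @Cfsg.Agent.R2.PX.Comb.vv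 = g3); rfl') | exact @Cfsg.Agent.R2.PX.Comb.chkE | exact ()
private theorem _root_.Cfsg.Agent.KOc28a9c1.e46 : (by first | exact @Cfsg.Agent.R2.PX.Comb.chkE = @_root_.Cfsg.Agent.KOc28a9c1.k46 | exact True : Prop) := by first | (delta _root_.Cfsg.Agent.KOc28a9c1.k46; exact @Subtype.property _ (fun g => @Cfsg.Agent.R2.PX.Comb.chkE = @g) _) | rfl | trivial

theorem chkE_true : (List.zipWith chkE (List.range 126) RB).all (fun b => b) = true := by (first | (rewrite [Cfsg.Agent.KOc28a9c1.e1.{0}, Cfsg.Agent.KOc28a9c1.e25.{0, 0, 0}, Cfsg.Agent.KOc28a9c1.e46, Cfsg.Agent.KOc28a9c1.e4]; decide +kernel) | decide +kernel)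

end Comb

end Cfsg.Agent.R2.PX
end

-- part: R2/PX/Comb2
section
/-!
# Pattern X (S5771): combinatorics of the 56 weights, the facts (helper5)

* `p2_comm`, `p2_eq_three`, `p2_eq_neg_three`, `p2_cases`, `p2_op`;
* `exists_mv` : `p2 a b = 1` ⇒ some root maps `b` to `a`; `mv_unique` : the root is unique; `p2_of_mv` : the converse;
* `p2_add` : `p2 a m = p2 b m + 2 * pr r m` if the root `r` maps `b` to `a`.
-/

set_option autoImplicit false
set_option maxRecDepth 100000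

namespace Cfsg.Agent.R2.PX

open Cfsg Cfsg.Lie Module Matrix
open Cfsg.Agent.ChevalleyStructure.RootVec
open Cfsg.Agent.ChevalleyStructure.StEmbed
open Cfsg.Agent.H943.E7V.Block (D1)
open Cfsg.Agent.R2.T1

universe u

namespace Comb

theorem CT_len : CT.length = 56 := by decide +kernel

theorem RB_len : RB.length = 126 := by decide +kernel

theorem CT_split : CT.take 14 ++ ((CT.drop 14).take 14 ++ ((CT.drop 28).take 14 ++ CT.drop 42)) = CT := by
  conv_rhs => rw [← List.take_append_drop 14 CT, ← List.take_append_drop 14 (CT.drop 14), List.drop_drop,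
    ← List.take_append_drop 14 (CT.drop (14 + 14)), List.drop_drop]

theorem ent_mem : ∀ e ∈ CT, ent e.1 = e := by decide +kernel

theorem chkR_all {e : ℕ × List ℤ × List ℤ × ℕ × List ℕ} (he : e ∈ CT) : chkR e = true := by
  have h : CT.all chkR = true := by
    conv_lhs => rw [← CT_split]
    rw [List.all_append, List.all_append, List.all_append, chkR_a, chkR_b, chkR_c, chkR_d]
    rfl
  exact List.all_eq_true.1 h e he

theorem mem_zip_of {α β : Type*} : ∀ {l : List α} {m : List β} {x : α}, l.length = m.length → x ∈ l → ∃ y, (x, y) ∈ List.zip l m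
  | [], _, _, _, hx => absurd hx (List.not_mem_nil)
  | a :: l, [], _, h, _ => absurd h (by simp)
  | a :: l, b :: m, x, h, hx => by
    rw [List.zip_cons_cons]
    rcases List.mem_cons.1 hx with rfl | hx
    · exact ⟨b, List.mem_cons_self⟩
    · obtain ⟨y, hy⟩ := mem_zip_of (l := l) (m := m) (by simpa using h) hx
      exact ⟨y, List.mem_cons_of_mem _ hy⟩

theorem zipWith_all {α β : Type*} {g : α → β → Bool} : ∀ {l : List α} {m : List β}, (List.zipWith g l m).all (fun b => b) = true →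
    ∀ {x : α} {y : β}, (x, y) ∈ List.zip l m → g x y = true
  | [], _, _, x, y, hx => absurd hx (by simp)
  | a :: l, [], _, x, y, hx => absurd hx (by simp)
  | a :: l, b :: m, h, x, y, hx => by
    rw [List.zipWith_cons_cons, List.all_cons, Bool.and_eq_true] at h
    rw [List.zip_cons_cons] at hx
    rcases List.mem_cons.1 hx with hx | hx
    · rw [Prod.mk.injEq] at hx
      rw [hx.1, hx.2]
      exact h.1
    · exact zipWith_all h.2 hx

theorem mem_CT (a : D1) : ∃ e ∈ CT, e.1 = nn a := by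
  have h := List.all_eq_true.1 chkB_true (nn a) (List.mem_range.2 (nn_lt a))
  have h6 : decide (rt chevE8 (nn a) 7 = 1) = true := decide_eq_true (rt_nn a)
  rw [h6, Bool.not_true, Bool.false_or, List.any_eq_true] at h
  obtain ⟨e, he, h1⟩ := h
  exact ⟨e, he, Nat.eq_of_beq_eq_true h1⟩

theorem coords {e : ℕ × List ℤ × List ℤ × ℕ × List ℕ} (he : e ∈ CT) :
    (List.range 8).map (fun i => rt chevE8 e.1 i) = e.2.1 ∧ (List.range 8).map (fun i => chevE8.cartan i e.1) = e.2.2.1 ∧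
    (st e.1).1 = e.2.2.2.1 := by
  have h := List.all_eq_true.1 chkA_true e he
  rw [Bool.and_eq_true, Bool.and_eq_true, beq_iff_eq, beq_iff_eq] at h
  exact ⟨h.1.1, h.1.2, Nat.eq_of_beq_eq_true h.2⟩

theorem p2_eq_vv {a b : D1} {e f : ℕ × List ℤ × List ℤ × ℕ × List ℕ} (he : e ∈ CT) (hf : f ∈ CT) (ha : e.1 = nn a)
    (hb : f.1 = nn b) : p2 a b = vv e f := by
  unfold vv dot
  rw [← (coords he).1, ← (coords hf).2.1, ha, hb]
  rfl

theorem op_mem {e : ℕ × List ℤ × List ℤ × ℕ × List ℕ} (he : e ∈ CT) {a : D1} (ha : e.1 = nn a) : e.2.2.2.1 = nn (op a) := by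
  rw [← (coords he).2.2, ha, st_eq]

theorem ent_nn (a : D1) : ent (nn a) ∈ CT ∧ (ent (nn a)).1 = nn a := by
  obtain ⟨e, he, h⟩ := mem_CT a
  rw [← h, ent_mem e he]
  exact ⟨he, rfl⟩

theorem pair (a b : D1) : ∃ r, (ent (nn b), r) ∈ List.zip CT (ent (nn a)).2.2.2.2 ∧
    chkP (ent (nn a)) (ent (nn (op a))) (ent (nn b)) r = true := by
  obtain ⟨ha, ha'⟩ := ent_nn a
  obtain ⟨hb, hb'⟩ := ent_nn b
  have h := chkR_all ha
  unfold chkR at h
  rw [Bool.and_eq_true, beq_iff_eq] at h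
  obtain ⟨y, hy⟩ := mem_zip_of (m := (ent (nn a)).2.2.2.2) (by rw [CT_len, h.2]) hb
  refine ⟨y, hy, ?_⟩
  have h1 := zipWith_all h.1 hy
  rwa [op_mem ha ha'] at h1

theorem p2_vv (a b : D1) : p2 a b = vv (ent (nn a)) (ent (nn b)) := p2_eq_vv (ent_nn a).1 (ent_nn b).1 (ent_nn a).2 (ent_nn b).2

/-- everything about a pair -/
theorem pair_spec (a b : D1) : (p2 a b = p2 b a) ∧ (p2 a b = 3 ↔ a = b) ∧ (p2 a b = -3 ↔ b = op a) ∧
    (p2 a b = 3 ∨ p2 a b = 1 ∨ p2 a b = -1 ∨ p2 a b = -3) ∧ (p2 (op a) b = - p2 a b) ∧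
    (p2 a b = 1 → ∃ r < 126, (mv r (nn b)).map (fun x => x.1) = some (nn a)) := by
  obtain ⟨r, -, h⟩ := pair a b
  unfold chkP at h
  rw [← p2_vv, ← p2_vv, ← p2_vv] at h
  simp only [Bool.and_eq_true, Bool.or_eq_true, beq_iff_eq, Bool.not_eq_true', beq_eq_false_iff_ne, Nat.blt_eq] at h
  obtain ⟨⟨⟨⟨⟨h1, h2⟩, h3⟩, h4⟩, h5⟩, h6⟩ := h
  rw [(ent_nn a).2, (ent_nn b).2] at h2 h6
  rw [(ent_nn b).2, op_mem (ent_nn a).1 (ent_nn a).2] at h3
  refine ⟨h1, ?_, ?_, ?_, h5, ?_⟩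
  · by_cases hab : p2 a b = 3
    · have e1 : (p2 a b == 3) = true := beq_iff_eq.2 hab
      rw [e1] at h2
      exact ⟨fun _ => nn_inj (Nat.eq_of_beq_eq_true h2.symm), fun _ => hab⟩
    · refine ⟨fun h => absurd h hab, fun h => ?_⟩
      have e1 : (p2 a b == 3) = false := beq_eq_false_iff_ne.2 hab
      rw [e1, h] at h2
      rw [Nat.beq_refl] at h2
      exact absurd h2 (by decide)
  · by_cases hab : p2 a b = -3
    · have e1 : (p2 a b == -3) = true := beq_iff_eq.2 hab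
      rw [e1] at h3
      exact ⟨fun _ => (nn_inj (Nat.eq_of_beq_eq_true h3.symm)).symm, fun _ => hab⟩
    · refine ⟨fun h => absurd h hab, fun h => ?_⟩
      have e1 : (p2 a b == -3) = false := beq_eq_false_iff_ne.2 hab
      rw [e1, h] at h3
      rw [Nat.beq_refl] at h3
      exact absurd h3 (by decide)
  · rcases h4 with ((h4 | h4) | h4) | h4
    · exact Or.inl h4
    · exact Or.inr (Or.inl h4)
    · exact Or.inr (Or.inr (Or.inl h4))
    · exact Or.inr (Or.inr (Or.inr h4))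
  · intro hab
    rcases h6 with h6 | h6
    · exact absurd hab h6
    · exact ⟨r, h6.1, h6.2⟩

theorem row_mem {r : ℕ} {a b : D1} {c : ℤ} (h : mv r (nn b) = some (nn a, c)) : (nn b, nn a, c) ∈ T56.getD r [] := by
  unfold mv at h
  have h2 := List.mem_of_mem_head? h
  unfold F56 at h2
  rw [List.mem_map] at h2
  obtain ⟨x, hx, hx'⟩ := h2
  rw [List.mem_filter] at hx
  have h4 : x.1 = nn b := Nat.eq_of_beq_eq_true hx.2
  have h5 : x = (nn b, nn a, c) := by rw [← h4, ← hx']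
  rw [← h5]
  exact hx.1

theorem row_spec {r : ℕ} (hr : r < 126) {a b : D1} {c : ℤ} (h : mv r (nn b) = some (nn a, c)) :
    (ent (nn a)).2.1 = List.zipWith (fun x y => x + y) (ent (nn b)).2.1 ((List.range 8).map fun i => rt chevE8 (ι78 r) i) ∧
    p2 a b = 1 ∧ ∀ y ∈ List.zip CT (ent (nn a)).2.2.2.2, y.1.1 = nn b → y.2 = r := by
  obtain ⟨B, hB⟩ := mem_zip_of (l := List.range 126) (m := RB) (x := r) (by rw [List.length_range, RB_len]) (List.mem_range.2 hr)
  have h1 := zipWith_all chkE_true hB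
  have hD := chkD_true
  unfold chkD at hD
  rw [Bool.and_eq_true] at hD
  have h2 := zipWith_all hD.1 hB
  rw [beq_iff_eq] at h2
  unfold chkE at h1
  have h3 := List.all_eq_true.1 h1 _ (row_mem h)
  rw [Bool.and_eq_true, Bool.and_eq_true, beq_iff_eq, beq_iff_eq] at h3
  refine ⟨by rw [h2]; exact h3.1.1, by rw [p2_vv]; exact h3.1.2, fun y hy hy' => ?_⟩
  have h4 := List.all_eq_true.1 h3.2 y hy
  have h5 : Nat.beq y.1.1 (nn b) = true := by rw [hy']; exact Nat.beq_refl _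
  change (!(Nat.beq y.1.1 (nn b)) || Nat.beq y.2 r) = true at h4
  rw [h5, Bool.not_true, Bool.false_or] at h4
  exact Nat.eq_of_beq_eq_true h4

end Comb

section
variable {a b m : D1}

theorem p2_comm (a b : D1) : p2 a b = p2 b a := (Comb.pair_spec a b).1
theorem p2_eq_three : p2 a b = 3 ↔ a = b := (Comb.pair_spec a b).2.1
theorem p2_self (a : D1) : p2 a a = 3 := p2_eq_three.2 rfl
theorem p2_eq_neg_three : p2 a b = -3 ↔ b = op a := (Comb.pair_spec a b).2.2.1
theorem p2_cases (a b : D1) : p2 a b = 3 ∨ p2 a b = 1 ∨ p2 a b = -1 ∨ p2 a b = -3 := (Comb.pair_spec a b).2.2.2.1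
theorem p2_op (a b : D1) : p2 (op a) b = - p2 a b := (Comb.pair_spec a b).2.2.2.2.1
theorem p2_op' (a b : D1) : p2 a (op b) = - p2 a b := by rw [p2_comm, p2_op, p2_comm]

/-- weights with `p2 = 1` differ by a root -/
theorem exists_mv (h : p2 a b = 1) : ∃ r < 126, ∃ c : ℤ, mv r (nn b) = some (nn a, c) ∧ c * c = 1 := by
  obtain ⟨r, hr, h1⟩ := (Comb.pair_spec a b).2.2.2.2.2 h
  rw [Option.map_eq_some_iff] at h1
  obtain ⟨⟨u, c⟩, h2, h3⟩ := h1
  have h4 : u = nn a := h3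
  rw [h4] at h2
  refine ⟨r, hr, c, h2, ?_⟩
  rcases mv_spec hr b with h5 | ⟨a', c', h5, h6, -⟩
  · rw [h5] at h2; exact absurd h2 (by simp)
  · rw [h5, Option.some.injEq, Prod.mk.injEq] at h2
    rw [← h2.2]; exact h6

theorem p2_of_mv {r : ℕ} (hr : r < 126) {c : ℤ} (h : mv r (nn b) = some (nn a, c)) : p2 a b = 1 := (Comb.row_spec hr h).2.1

theorem mv_unique {r r' : ℕ} (hr : r < 126) (hr' : r' < 126) {c c' : ℤ} (h : mv r (nn b) = some (nn a, c))
    (h' : mv r' (nn b) = some (nn a, c')) : r = r' := by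
  obtain ⟨s, hs, -⟩ := Comb.pair a b
  rw [← (Comb.row_spec hr h).2.2 _ hs (Comb.ent_nn b).2, ← (Comb.row_spec hr' h').2.2 _ hs (Comb.ent_nn b).2]

/-- additivity -/
theorem p2_add {r : ℕ} (hr : r < 126) {c : ℤ} (h : mv r (nn b) = some (nn a, c)) (m : D1) : p2 a m = p2 b m + 2 * Comb.pr r m := by
  have h1 := (Comb.row_spec hr h).1
  have ca := (Comb.coords (Comb.ent_nn a).1).1
  have cb := (Comb.coords (Comb.ent_nn b).1).1
  rw [(Comb.ent_nn a).2] at ca
  rw [(Comb.ent_nn b).2] at cb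
  rw [← ca, ← cb] at h1
  have h2 : ∀ i ∈ List.range 8, rt chevE8 (nn a) i = rt chevE8 (nn b) i + rt chevE8 (ι78 r) i := by
    have e : List.zipWith (fun x y => x + y) ((List.range 8).map fun i => rt chevE8 (nn b) i)
        ((List.range 8).map fun i => rt chevE8 (ι78 r) i) =
        (List.range 8).map fun i => rt chevE8 (nn b) i + rt chevE8 (ι78 r) i := rfl
    rw [e] at h1
    exact List.map_inj_left.1 h1
  unfold p2 Comb.pr
  rw [List.map_congr_left (g := fun i => rt chevE8 (nn b) i * chevE8.cartan i (nn m) + rt chevE8 (ι78 r) i * chevE8.cartan i (nn m))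
    (fun i hi => by rw [h2 i hi, add_mul]), List.sum_map_add]
  ring

end

end Cfsg.Agent.R2.PX
end

-- part: R2/PX/Tr0
section
/-!
# Pattern X (S5771), PX2: clearing coordinates (helper5)
-/

set_option autoImplicit false
set_option maxRecDepth 100000

namespace Cfsg.Agent.R2.PX

open Cfsg Cfsg.Lie Module
open Cfsg.Agent.R2.T1
open Cfsg.Agent.ChevalleyStructure.RootVec
open Cfsg.Agent.H943.E7V.Block

universe u

namespace Tr
variable {F : Type u} [Field F]

/-- some translate has a non-zero coordinate at a given weight -/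
theorem exists_coord {x : D1 → F} (hx : x ≠ 0) (m : D1) : ∃ g : Gh F, V F g x m ≠ 0 := by
  by_contra hcon
  push Not at hcon
  let W : Submodule F (D1 → F) :=
    { carrier := {w | ∀ g : Gh F, V F g w m = 0}
      add_mem' := by
        intro a b ha hb g
        rw [map_add, Pi.add_apply, ha g, hb g, add_zero]
      zero_mem' := by
        intro g
        rw [map_zero, Pi.zero_apply]
      smul_mem' := by
        intro c a ha g
        rw [map_smul, Pi.smul_apply, ha g, smul_zero] }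
  have h1 : W = ⊤ := by
    refine irred (W := W) (fun g w hw h => ?_) ?_
    · have h2 := hw (h * g)
      rwa [map_mul, Module.End.mul_apply] at h2
    · intro h0
      have h2 : x ∈ W := hcon
      rw [h0, Submodule.mem_bot] at h2
      exact hx h2
  have h2 : bs F m ∈ W := by rw [h1]; exact Submodule.mem_top
  have h3 := h2 1
  rw [map_one, Module.End.one_apply, bs, Pi.single_eq_same] at h3
  exact one_ne_zero h3

end Tr

end Cfsg.Agent.R2.PX
end

-- part: R2/PX/Tr1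
section
/-!
# Pattern X (S5771), PX2: clearing coordinates, pure vectors (helper5)
-/

set_option autoImplicit false
set_option maxRecDepth 100000

namespace Cfsg.Agent.R2.PX

open Cfsg Cfsg.Lie Module Matrix
open Cfsg.Agent.H943.E7V.Block (D1)
open Cfsg.Agent.R2.T1

universe u

namespace Tr
variable {F : Type u} [Field F]

theorem V_coord {r : ℕ} (hr : r < 126) {a b : D1} {c : ℤ} (h : mv r (nn b) = some (nn a, c)) (t : F) (x : D1 → F) :
    V F (xs F r t) x a = x a + t * ((c : F) * x b) := by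
  rw [V_xs hr, Pi.add_apply, Pi.smul_apply, smul_eq_mul]
  have := NM_mulVec (F := F) hr h x
  rw [this]

theorem V_coord_ne {r : ℕ} (hr : r < 126) {a : D1} {x : D1 → F} (h : ∀ b c, mv r (nn b) = some (nn a, c) → x b = 0) (t : F) :
    V F (xs F r t) x a = x a := by
  rw [V_xs hr, Pi.add_apply, Pi.smul_apply, smul_eq_mul]
  have : (NM F r *ᵥ x) a = 0 := by
    by_contra hne
    obtain ⟨b, c, h1, h2⟩ := NM_mulVec_ne hne
    exact h2 (h b c h1)
  rw [this, mul_zero, add_zero]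

/-- the grading: if `r` leads from `m` to a weight with `p2 = 1`, then `r` lowers `p2 _ m` by 2 -/
theorem grade {r : ℕ} (hr : r < 126) {m n : D1} {c : ℤ} (h : mv r (nn m) = some (nn n, c)) {a b : D1} {d : ℤ}
    (h' : mv r (nn b) = some (nn a, d)) : p2 b m = p2 a m + 2 := by
  have h1 := p2_add hr h m
  rw [p2_of_mv hr h, p2_self] at h1
  rw [p2_add hr h' m]
  omega

theorem clear_step {m n : D1} {r : ℕ} (hr : r < 126) {c : ℤ} (h : mv r (nn m) = some (nn n, c)) (hc : c * c = 1) {x : D1 → F}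
    (hx : x m ≠ 0) : ∃ t : F, V F (xs F r t) x m = x m ∧ V F (xs F r t) x n = 0 ∧
      ∀ a, a ≠ n → p2 a m = 1 → V F (xs F r t) x a = x a := by
  have hc' : ((c : ℤ) : F) ≠ 0 := cast_ne hc
  refine ⟨-(x n) / ((c : F) * x m), ?_, ?_, ?_⟩
  · refine V_coord_ne hr (fun b d hb => ?_) _
    have h1 := grade hr h hb
    rw [p2_self] at h1
    rcases p2_cases b m with h2 | h2 | h2 | h2 <;> omega
  · rw [V_coord hr h]
    field_simp
    ring
  · intro a ha h1
    refine V_coord_ne hr (fun b d hb => ?_) _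
    have h2 := grade hr h hb
    rw [h1] at h2
    have h3 : b = m := p2_eq_three.1 (by omega)
    rw [h3, h, Option.some.injEq, Prod.mk.injEq] at hb
    exact absurd (nn_inj hb.1).symm ha

/-- clearing of coordinates -/
theorem clear (P : Subgroup (Gh F)) (m : D1) {x : D1 → F} (hx : x m ≠ 0) (S : Finset D1) :
    (∀ n ∈ S, p2 n m = 1 ∧ ∀ r < 126, ∀ c, mv r (nn m) = some (nn n, c) → ∀ t, xs F r t ∈ P) →
    ∃ g ∈ P, V F g x m = x m ∧ (∀ n ∈ S, V F g x n = 0) ∧ ∀ n ∉ S, p2 n m = 1 → V F g x n = x n := by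
  induction S using Finset.induction_on with
  | empty =>
    intro _
    exact ⟨1, P.one_mem, by rw [map_one]; rfl, fun n hn => absurd hn (Finset.notMem_empty n), fun n _ _ => by rw [map_one]; rfl⟩
  | insert n S hn ih =>
    intro hS
    obtain ⟨g, hg, g1, g2, g3⟩ := ih fun n' hn' => hS n' (Finset.mem_insert_of_mem hn')
    obtain ⟨hn1, hn2⟩ := hS n (Finset.mem_insert_self n S)
    obtain ⟨r, hr, c, h, hc⟩ := exists_mv hn1
    obtain ⟨t, t1, t2, t3⟩ := clear_step hr h hc (x := V F g x) (by rw [g1]; exact hx)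
    refine ⟨xs F r t * g, P.mul_mem (hn2 r hr c h t) hg, ?_, ?_, ?_⟩
    · rw [map_mul, Module.End.mul_apply, t1, g1]
    · intro n' hn'
      rw [map_mul, Module.End.mul_apply]
      rcases Finset.mem_insert.1 hn' with h1 | h1
      · rw [h1]; exact t2
      · rw [t3 n' (fun h2 => hn (h2 ▸ h1)) (hS n' hn').1]
        exact g2 n' h1
    · intro n' hn' h1
      rw [map_mul, Module.End.mul_apply, t3 n' (fun h2 => hn' (h2 ▸ Finset.mem_insert_self _ _)) h1]
      exact g3 n' (fun h2 => hn' (Finset.mem_insert_of_mem h2)) h1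

/-- off-diagonal entries of `DD` -/
theorem DD_entry {r : ℕ} (hr : r < 126) {a b : D1} {c : ℤ} (h : mv r (nn b) = some (nn a, c)) (x y : D1 → F) :
    DD F x y a b = -2 * (sf F (NM F (125 - r) *ᵥ x) y * (c : F)) := by
  have hab : a ≠ b := by
    rintro rfl
    have := p2_of_mv hr h
    rw [p2_self] at this
    omega
  unfold DD
  rw [Matrix.sub_apply, Matrix.smul_apply, Matrix.sum_apply, Matrix.diagonal_apply_ne _ hab, sub_zero, smul_eq_mul,
    Finset.sum_eq_single r]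
  · rw [Matrix.smul_apply, smul_eq_mul]
    show -2 * (_ * ((nz r a b : ℤ) : F)) = _
    rw [nz_some h, if_pos rfl]
  · intro r' hr' hne
    rw [Matrix.smul_apply, smul_eq_mul]
    show _ * ((nz r' a b : ℤ) : F) = 0
    by_cases h0 : nz r' a b = 0
    · rw [h0, Int.cast_zero, mul_zero]
    · obtain ⟨c', h1, -⟩ := nz_ne h0
      exact absurd (mv_unique (Finset.mem_range.1 hr') hr h1 h) hne
  · intro h1
    exact absurd (Finset.mem_range.2 hr) h1

/-- diagonal entries of `DD` -/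
theorem DD_diag (x y : D1 → F) (m : D1) : DD F x y m m = -∑ a : D1, x a * ((ep a : ℤ) : F) * y (op a) * ((p2 a m : ℤ) : F) := by
  unfold DD
  rw [Matrix.sub_apply, Matrix.smul_apply, Matrix.sum_apply, Matrix.diagonal_apply_eq, Finset.sum_eq_zero, smul_zero, zero_sub]
  intro r hr
  rw [Matrix.smul_apply, smul_eq_mul]
  show _ * ((nz r m m : ℤ) : F) = 0
  by_cases h0 : nz r m m = 0
  · rw [h0, Int.cast_zero, mul_zero]
  · obtain ⟨c', h1, -⟩ := nz_ne h0
    have := p2_of_mv (Finset.mem_range.1 hr) h1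
    rw [p2_self] at this
    omega

/-- a pure vector with a non-zero coordinate at `m` and zero coordinates at the neighbours is a multiple of the weight vector -/
theorem pure_eq (h2 : (2 : F) ≠ 0) (h3 : (3 : F) ≠ 0) {m : D1} {x : D1 → F} (hp : Pure F x) (hm : x m ≠ 0)
    (h0 : ∀ n, p2 n m = 1 → x n = 0) : x = x m • bs F m := by
  have key1 : ∀ b, p2 b m = -1 → x b = 0 := by
    intro b hb
    have h1 : p2 m (op b) = 1 := by rw [p2_op', p2_comm, hb]; rfl
    obtain ⟨r, hr, c, h, hc⟩ := exists_mv h1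
    have hr' : 125 - r < 126 := by omega
    have hinv : mv (125 - r) (nn m) = some (nn (op b), c) := by
      rcases mv_spec hr (op b) with h4 | ⟨a', c', h4, -, -, h5⟩
      · rw [h4] at h; exact absurd h (by simp)
      · rw [h4, Option.some.injEq, Prod.mk.injEq] at h
        rw [← nn_inj h.1, ← h.2]
        exact h5
    have e1 := DD_entry (F := F) hr h x x
    have hpp : DD F x x = 0 := hp
    rw [hpp, Matrix.zero_apply] at e1
    have e2 : sf F (NM F (125 - r) *ᵥ x) x = 0 := by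
      have h4 : (-2 : F) ≠ 0 := neg_ne_zero.2 h2
      exact (mul_eq_zero.1 ((mul_eq_zero.1 e1.symm).resolve_left h4)).resolve_right (cast_ne hc)
    have hop := mv_op hr' hinv
    rw [op_op, ep_op] at hop
    have hbm : b ≠ m := by
      rintro rfl
      rw [p2_self] at hb
      omega
    rw [sf_sum, Fintype.sum_eq_add (op b) (op m)] at e2
    · rw [NM_mulVec hr' hinv, NM_mulVec hr' hop, op_op, op_op, ep_op, ep_op] at e2
      push_cast at e2
      have h5 : (ep m : F) * (ep m : F) = 1 := by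
        rw [← Int.cast_mul, ep_sq, Int.cast_one]
      have h6 : (2 * (c : F) * (ep b : F) * x m) * x b = 0 := by
        linear_combination -e2 - (c : F) * (ep b : F) * x b * x m * h5
      exact (mul_eq_zero.1 h6).resolve_left
        (mul_ne_zero (mul_ne_zero (mul_ne_zero h2 (cast_ne hc)) (cast_ne (ep_sq b))) hm)
    · intro h4
      have h5 := congrArg op h4
      rw [op_op, op_op] at h5
      exact hbm h5
    · intro a ha
      by_contra hne
      have ha1 : (NM F (125 - r) *ᵥ x) a ≠ 0 := left_ne_zero_of_mul hne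
      obtain ⟨b', c', h4, h5⟩ := NM_mulVec_ne ha1
      have h6 := grade hr' hinv h4
      rcases p2_cases b' m with h7 | h7 | h7 | h7
      · have h8 := p2_eq_three.1 h7
        rw [h8, hinv, Option.some.injEq, Prod.mk.injEq] at h4
        exact ha.1 (nn_inj h4.1).symm
      · exact h5 (h0 b' h7)
      · have h8 : p2 m a = -3 := by rw [p2_comm]; omega
        exact ha.2 (p2_eq_neg_three.1 h8)
      · rcases p2_cases a m with h8 | h8 | h8 | h8 <;> omega
  have key2 : x (op m) = 0 := by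
    have e1 := DD_diag (F := F) x x m
    have hpp : DD F x x = 0 := hp
    rw [hpp, Matrix.zero_apply, Fintype.sum_eq_add m (op m) (ne_op m)] at e1
    · rw [op_op, ep_op, p2_op, p2_self] at e1
      push_cast at e1
      have h6 : (2 * 3 * (ep m : F) * x m) * x (op m) = 0 := by
        linear_combination e1
      exact (mul_eq_zero.1 h6).resolve_left
        (mul_ne_zero (mul_ne_zero (mul_ne_zero h2 h3) (cast_ne (ep_sq m))) hm)
    · intro a ha
      by_contra hne
      have ha1 : x a ≠ 0 := left_ne_zero_of_mul (left_ne_zero_of_mul (left_ne_zero_of_mul hne))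
      rcases p2_cases a m with h8 | h8 | h8 | h8
      · exact ha.1 (p2_eq_three.1 h8)
      · exact ha1 (h0 a h8)
      · exact ha1 (key1 a h8)
      · rw [p2_comm] at h8
        exact ha.2 (p2_eq_neg_three.1 h8)
  funext a
  rw [Pi.smul_apply, smul_eq_mul, bs]
  by_cases ha : a = m
  · rw [ha, Pi.single_eq_same, mul_one]
  · rw [Pi.single_eq_of_ne ha, mul_zero]
    rcases p2_cases a m with h8 | h8 | h8 | h8
    · exact absurd (p2_eq_three.1 h8) ha
    · exact h0 a h8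
    · exact key1 a h8
    · rw [p2_comm] at h8
      rw [p2_eq_neg_three.1 h8]
      exact key2

end Tr

end Cfsg.Agent.R2.PX
end
end

-- part: R2/PX/Tr3
section
prune_inst 0x20000000080010020000200000200400000484000000c82104220010800b0300c1200a800c468380048110001200228000000000400011800a0888000043000010000000f000000400000000000000000000000000000041004000000000
set_option linter.all false
open scoped Cfsg.Agent.FastGrp

-- part: R2/PX/Tr2
section
/-!
# Pattern X (S5771), PX2: pure vectors and pure pairs are conjugate to weight vectors (helper5)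
-/

set_option autoImplicit false
set_option maxRecDepth 100000

namespace Cfsg.Agent.R2.PX

open Cfsg Cfsg.Lie Module Matrix
open Cfsg.Agent.ChevalleyStructure.RootVec
open Cfsg.Agent.H943.E7V.Block (D1 rho)
open Cfsg.Agent.R2.T1

universe u

/-- equivariance of `DD` -/
def Equi (F : Type u) [Field F] : Prop := ∀ (g : Gh F) (x y : D1 → F), DD F (V F g x) (V F g y) * rho F g = rho F g * DD F x y

/-- the second weight of a symplectic pair -/
def w1 : D1 := ⟨⟨227, by decide +kernel⟩, by decide +kernel⟩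

/-- the second weight of an orthogonal pair -/
def w2 : D1 := ⟨⟨237, by decide +kernel⟩, by decide +kernel⟩

namespace Tr

/-- intermediate weights -/
def chkW (w : ℕ) (v : ℤ) : Bool := Comb.CT.all fun b => !(Comb.vv b (Comb.ent 238) == v) || (Comb.vv (Comb.ent w) b == 3) ||
  (Comb.vv (Comb.ent w) b == 1) || Comb.CT.any fun c => (Comb.vv c (Comb.ent 238) == v) && (Comb.vv c b == 1) && (Comb.vv (Comb.ent w) c == 1)

theorem chkW1 : chkW 227 (-1) = true := by decide +kernel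
theorem chkW2 : chkW 237 1 = true := by decide +kernel

theorem p2_w1 : p2 w1 topv = -1 := by
  rw [Comb.p2_vv]
  show Comb.vv (Comb.ent 227) (Comb.ent 238) = -1
  decide +kernel

theorem p2_w2 : p2 w2 topv = 1 := by
  rw [Comb.p2_vv]
  show Comb.vv (Comb.ent 237) (Comb.ent 238) = 1
  decide +kernel

theorem inter_of {w : D1} {v : ℤ} (h : chkW (nn w) v = true) {b : D1} (hb : p2 b topv = v) : w = b ∨ p2 w b = 1 ∨
    ∃ c : D1, p2 c topv = v ∧ p2 c b = 1 ∧ p2 w c = 1 := by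
  have h1 := List.all_eq_true.1 h _ (Comb.ent_nn b).1
  have e1 : Comb.ent 238 = Comb.ent (nn topv) := rfl
  rw [e1, ← Comb.p2_vv, ← Comb.p2_vv, hb] at h1
  simp only [Bool.or_eq_true, beq_iff_eq, Bool.not_eq_true', beq_eq_false_iff_ne, ne_eq, not_true_eq_false, false_or] at h1
  rcases h1 with (h1 | h1) | h1
  · exact Or.inl (p2_eq_three.1 h1)
  · exact Or.inr (Or.inl h1)
  · rw [List.any_eq_true] at h1
    obtain ⟨c, hc, h2⟩ := h1
    right; right
    have hs : rt chevE8 c.1 7 = 1 ∧ c.1 < 240 := by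
      have : ∀ e ∈ Comb.CT, rt chevE8 e.1 7 = 1 ∧ e.1 < 240 := by decide +kernel
      exact this c hc
    refine ⟨⟨⟨c.1, hs.2⟩, hs.1⟩, ?_⟩
    have e2 : Comb.ent (nn (⟨⟨c.1, hs.2⟩, hs.1⟩ : D1)) = c := Comb.ent_mem c hc
    rw [Comb.p2_vv, Comb.p2_vv, Comb.p2_vv, e2]
    simp only [Bool.and_eq_true, beq_iff_eq] at h2
    exact ⟨h2.1.1, h2.1.2, h2.2⟩

variable {F : Type u} [Field F]

theorem NM_bs {r : ℕ} {a b : D1} {c : ℤ} (h : mv r (nn b) = some (nn a, c)) : NM F r *ᵥ bs F b = (c : F) • bs F a := by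
  funext x
  rw [bs, Matrix.mulVec_single_one, Matrix.col_apply]
  show ((nz r x b : ℤ) : F) = _
  rw [nz_some h, Pi.smul_apply, bs]
  by_cases hx : x = a
  · rw [if_pos hx, hx, Pi.single_eq_same, smul_eq_mul, mul_one]
  · rw [if_neg hx, Pi.single_eq_of_ne hx, smul_zero, Int.cast_zero]

theorem NM_bs0 {r : ℕ} {b : D1} (h : mv r (nn b) = none) : NM F r *ᵥ bs F b = 0 := by
  funext x
  rw [bs, Matrix.mulVec_single_one, Matrix.col_apply]
  show ((nz r x b : ℤ) : F) = _
  rw [nz_none h, Int.cast_zero]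
  rfl

theorem bs_same (a : D1) : bs F a a = 1 := by rw [bs, Pi.single_eq_same]
theorem bs_ne {a b : D1} (h : b ≠ a) : bs F a b = 0 := by rw [bs, Pi.single_eq_of_ne h]

/-- the stabiliser of the highest weight vector -/
def P (F : Type u) [Field F] : Subgroup (Gh F) where
  carrier := {g | V F g (bs F topv) = bs F topv}
  one_mem' := by
    show V F 1 (bs F topv) = _
    rw [map_one]
    rfl
  mul_mem' := by
    intro a b ha hb
    change V F a (bs F topv) = _ at ha
    change V F b (bs F topv) = _ at hb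
    show V F (a * b) (bs F topv) = _
    rw [map_mul, Module.End.mul_apply, hb, ha]
  inv_mem' := by
    intro a ha
    change V F a (bs F topv) = _ at ha
    show V F a⁻¹ (bs F topv) = _
    have h1 : V F a⁻¹ (V F a (bs F topv)) = bs F topv := by
      rw [← Module.End.mul_apply, ← map_mul, inv_mul_cancel, map_one]
      rfl
    rwa [ha] at h1

theorem mem_P {g : Gh F} : g ∈ P F ↔ V F g (bs F topv) = bs F topv := Iff.rfl

theorem xs_mem {r : ℕ} (hr : r < 126) (h : Comb.pr r topv ≠ -1) (t : F) : xs F r t ∈ P F := by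
  rw [mem_P, V_xs hr]
  have h1 : mv r (nn topv) = none := by
    rcases mv_spec hr topv with h1 | ⟨a, c, h1, -⟩
    · exact h1
    · exfalso
      apply h
      have h2 := p2_add hr h1 topv
      rw [p2_of_mv hr h1, p2_self] at h2
      omega
  have h2 := NM_bs0 (F := F) h1
  rw [h2, smul_zero, add_zero]

/-- moving a non-zero coordinate -/
theorem move {w : D1} {v : ℤ} (hw : p2 w topv = v) (h : chkW (nn w) v = true) {y : D1 → F} {b : D1} (hb : p2 b topv = v)
    (hy : y b ≠ 0) : ∃ g ∈ P F, V F g y w ≠ 0 := by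
  have step : ∀ {a b : D1} {y : D1 → F}, p2 b topv = v → p2 a topv = v → p2 a b = 1 → y b ≠ 0 → ∃ g ∈ P F, V F g y a ≠ 0 := by
    intro a b y hb ha hab hy
    by_cases h0 : y a = 0
    · obtain ⟨r, hr, c, h1, hc⟩ := exists_mv hab
      refine ⟨xs F r 1, xs_mem hr ?_ 1, ?_⟩
      · intro h2
        have h3 := p2_add hr h1 topv
        rw [ha, hb] at h3
        omega
      · rw [V_coord hr h1, h0, zero_add, one_mul]
        exact mul_ne_zero (cast_ne hc) hy
    · exact ⟨1, (P F).one_mem, by rw [map_one]; exact h0⟩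
  rcases inter_of h hb with h1 | h1 | ⟨c, hc1, hc2, hc3⟩
  · exact ⟨1, (P F).one_mem, by rw [map_one, h1]; exact hy⟩
  · exact step hb hw h1 hy
  · obtain ⟨g, hg, h2⟩ := step hb hc1 hc2 hy
    obtain ⟨g', hg', h3⟩ := step hc1 hw hc3 h2
    refine ⟨g' * g, (P F).mul_mem hg' hg, ?_⟩
    rw [map_mul, Module.End.mul_apply]
    exact h3

theorem DD_smul (c d : F) (x y : D1 → F) : DD F (c • x) (d • y) = (c * d) • DD F x y := by
  have h1 : (∑ r ∈ Finset.range 126, sf F (NM F (125 - r) *ᵥ (c • x)) (d • y) • NM F r) =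
      (c * d) • ∑ r ∈ Finset.range 126, sf F (NM F (125 - r) *ᵥ x) y • NM F r := by
    rw [Finset.smul_sum]
    refine Finset.sum_congr rfl fun r _ => ?_
    rw [Matrix.mulVec_smul, map_smul, map_smul, LinearMap.smul_apply, smul_eq_mul, smul_eq_mul, smul_smul]
    congr 1
    ring
  have h2 : (Matrix.diagonal fun e => ∑ a : D1, (c • x) a * ((ep a : ℤ) : F) * (d • y) (op a) * ((p2 a e : ℤ) : F)) =
      (c * d) • Matrix.diagonal fun e => ∑ a : D1, x a * ((ep a : ℤ) : F) * y (op a) * ((p2 a e : ℤ) : F) := by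
    ext a b
    rw [Matrix.smul_apply, Matrix.diagonal_apply, Matrix.diagonal_apply]
    by_cases hab : a = b
    · rw [if_pos hab, if_pos hab, smul_eq_mul, Finset.mul_sum]
      refine Finset.sum_congr rfl fun e _ => ?_
      simp only [Pi.smul_apply, smul_eq_mul]
      ring
    · rw [if_neg hab, if_neg hab, smul_zero]
  unfold DD
  rw [h1, h2, smul_sub, smul_comm (c * d) (-2 : F)]

section
variable (E : Equi F)
include E

theorem pure_V {x : D1 → F} (hp : Pure F x) (g : Gh F) : Pure F (V F g x) := by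
  have h1 := E g x x
  have hp' : DD F x x = 0 := hp
  rw [hp', mul_zero] at h1
  have h2 : rho F g * rho F g⁻¹ = 1 := by rw [← map_mul, mul_inv_cancel, map_one]
  show DD F (V F g x) (V F g x) = 0
  calc DD F (V F g x) (V F g x) = DD F (V F g x) (V F g x) * rho F g * rho F g⁻¹ := by rw [mul_assoc, h2, mul_one]
    _ = 0 := by rw [h1, zero_mul]

theorem DD_V {x y : D1 → F} (g : Gh F) : DD F (V F g x) (V F g y) = 0 ↔ DD F x y = 0 := by
  have h1 := E g x y
  have h2 : rho F g * rho F g⁻¹ = 1 := by rw [← map_mul, mul_inv_cancel, map_one]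
  have h3 : rho F g⁻¹ * rho F g = 1 := by rw [← map_mul, inv_mul_cancel, map_one]
  constructor
  · intro h
    rw [h, zero_mul] at h1
    calc DD F x y = rho F g⁻¹ * (rho F g * DD F x y) := by rw [← mul_assoc, h3, one_mul]
      _ = 0 := by rw [← h1, mul_zero]
  · intro h
    rw [h, mul_zero] at h1
    calc DD F (V F g x) (V F g y) = DD F (V F g x) (V F g y) * rho F g * rho F g⁻¹ := by rw [mul_assoc, h2, mul_one]
      _ = 0 := by rw [h1, zero_mul]

/-- **(T1)** a non-zero pure vector is conjugate to a multiple of the highest weight vector -/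
theorem pure_top (h2 : (2 : F) ≠ 0) (h3 : (3 : F) ≠ 0) {x : D1 → F} (hp : Pure F x) (hx : x ≠ 0) :
    ∃ (g : Gh F) (c : F), c ≠ 0 ∧ V F g x = c • bs F topv := by
  classical
  obtain ⟨g, hg⟩ := exists_coord hx topv
  obtain ⟨g', -, h4, h5, -⟩ := clear ⊤ topv hg (Finset.univ.filter fun n => p2 n topv = 1)
    (fun n hn => ⟨(Finset.mem_filter.1 hn).2, fun _ _ _ _ _ => Subgroup.mem_top _⟩)
  refine ⟨g' * g, V F (g' * g) x topv, ?_, ?_⟩
  · rw [map_mul, Module.End.mul_apply, h4]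
    exact hg
  · refine pure_eq h2 h3 (pure_V E hp _) ?_ fun n hn => ?_
    · rw [map_mul, Module.End.mul_apply, h4]
      exact hg
    · rw [map_mul, Module.End.mul_apply]
      exact h5 n (Finset.mem_filter.2 ⟨Finset.mem_univ _, hn⟩)

end

end Tr

end Cfsg.Agent.R2.PX
end

-- part: R2/PX/Tr3
section
/-!
# Pattern X (S5771), PX2: pairs of pure vectors, similitudes normalise the group (helper5)

`Equi F` is the equivariance of `DD`.
* `pure_top` (T1), `pair_symp` (T2), `pair_orth` (T2'), `sim_norm` (COR).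
-/

set_option autoImplicit false
set_option maxRecDepth 100000

namespace Cfsg.Agent.R2.PX

open Cfsg Cfsg.Lie Module Matrix
open Cfsg.Agent.H943.E7V.Block (D1 rho)
open Cfsg.Agent.R2.T1

universe u

namespace Tr

variable {F : Type u} [Field F]

theorem sf_top (y : D1 → F) : sf F (bs F topv) y = ((ep topv : ℤ) : F) * y (op topv) := sf_single topv y

/-- if the relevant coordinates vanish then `DD` vanishes -/
theorem DD_top_zero {y : D1 → F} (h1 : ∀ b, p2 b topv = -1 → y b = 0) (h3 : y (op topv) = 0) : DD F (bs F topv) y = 0 := by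
  unfold DD
  rw [Finset.sum_eq_zero, smul_zero, zero_sub, neg_eq_zero]
  · ext a b
    rw [Matrix.diagonal_apply, Matrix.zero_apply]
    by_cases hab : a = b
    · rw [if_pos hab]
      refine Finset.sum_eq_zero fun e _ => ?_
      by_cases he : e = topv
      · rw [he, h3]
        ring
      · rw [bs_ne he]
        ring
    · rw [if_neg hab]
  · intro r hr
    have hr0 := Finset.mem_range.1 hr
    have hr' : 125 - r < 126 := by omega
    rcases mv_spec hr' topv with h | ⟨a, c, h, -⟩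
    · have h2 := NM_bs0 (F := F) h
      rw [h2, map_zero, LinearMap.zero_apply, zero_smul]
    · have h2 := NM_bs (F := F) h
      have h4 : p2 (op a) topv = -1 := by rw [p2_op, p2_of_mv hr' h]
      rw [h2, map_smul, LinearMap.smul_apply, sf_single, h1 _ h4, mul_zero, smul_zero, zero_smul]

/-- conversely -/
theorem top_zero (h2 : (2 : F) ≠ 0) (h3 : (3 : F) ≠ 0) {y : D1 → F} (h : DD F (bs F topv) y = 0) :
    (∀ b, p2 b topv = -1 → y b = 0) ∧ y (op topv) = 0 := by
  constructor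
  · intro b hb
    have h1 : p2 topv (op b) = 1 := by rw [p2_op', p2_comm, hb]; rfl
    obtain ⟨r, hr, c, h4, hc⟩ := exists_mv h1
    have hr' : 125 - r < 126 := by omega
    have hinv : mv (125 - r) (nn topv) = some (nn (op b), c) := by
      rcases mv_spec hr (op b) with h5 | ⟨a', c', h5, -, -, h6⟩
      · rw [h5] at h4; exact absurd h4 (by simp)
      · rw [h5, Option.some.injEq, Prod.mk.injEq] at h4
        rw [← nn_inj h4.1, ← h4.2]
        exact h6
    have e1 := DD_entry (F := F) hr h4 (bs F topv) y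
    have e2 := NM_bs (F := F) hinv
    rw [h, Matrix.zero_apply, e2, map_smul, LinearMap.smul_apply, sf_single, op_op, smul_eq_mul] at e1
    have e3 : (-2 * ((c : F) * ((ep (op b) : ℤ) : F)) * (c : F)) * y b = 0 := by linear_combination -e1
    exact (mul_eq_zero.1 e3).resolve_left (mul_ne_zero (mul_ne_zero (neg_ne_zero.2 h2) (mul_ne_zero (cast_ne hc)
      (cast_ne (ep_sq _)))) (cast_ne hc))
  · have e1 := DD_diag (F := F) (bs F topv) y topv
    rw [h, Matrix.zero_apply, Finset.sum_eq_single topv] at e1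
    · rw [bs_same, p2_self] at e1
      push_cast at e1
      have e3 : (3 * ((ep topv : ℤ) : F)) * y (op topv) = 0 := by linear_combination e1
      exact (mul_eq_zero.1 e3).resolve_left (mul_ne_zero h3 (cast_ne (ep_sq _)))
    · intro a _ ha
      rw [bs_ne ha]
      ring
    · intro h4
      exact absurd (Finset.mem_univ _) h4

section
variable (E : Equi F)
include E

theorem sym_zero {g : Gh F} (hg : g ∈ P F) {y : D1 → F} (h : y (op topv) = 0) : V F g y (op topv) = 0 := by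
  have h1 := sf_V g (bs F topv) y
  rw [mem_P.1 hg, sf_top, sf_top, h, mul_zero] at h1
  exact (mul_eq_zero.1 h1).resolve_left (cast_ne (ep_sq _))

/-- **(T2)** -/
theorem pair_symp (h2 : (2 : F) ≠ 0) (h3 : (3 : F) ≠ 0) {x y : D1 → F} (hx : Pure F x) (hy : Pure F y) (hxy : sf F x y = 0)
    (hD : DD F x y ≠ 0) : ∃ (g : Gh F) (c d : F), c ≠ 0 ∧ d ≠ 0 ∧ V F g x = c • bs F topv ∧ V F g y = d • bs F w1 := by
  classical
  have hx0 : x ≠ 0 := by
    rintro rfl
    apply hD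
    have := DD_smul (0 : F) 1 0 y
    rwa [zero_smul, one_smul, zero_mul, zero_smul] at this
  obtain ⟨g1, c, hc, e1⟩ := pure_top E h2 h3 hx hx0
  have e2 : V F g1 y (op topv) = 0 := by
    have h4 := sf_V g1 x y
    rw [e1, hxy, map_smul, LinearMap.smul_apply, sf_top, smul_eq_mul] at h4
    exact (mul_eq_zero.1 ((mul_eq_zero.1 h4).resolve_left hc)).resolve_left (cast_ne (ep_sq _))
  have e3 : DD F (bs F topv) (V F g1 y) ≠ 0 := by
    intro h4
    apply hD
    rw [← DD_V E g1, e1]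
    have := DD_smul c 1 (bs F topv) (V F g1 y)
    rwa [one_smul, h4, smul_zero] at this
  obtain ⟨b, hb, hb'⟩ : ∃ b, p2 b topv = -1 ∧ V F g1 y b ≠ 0 := by
    by_contra hcon
    push Not at hcon
    exact e3 (DD_top_zero hcon e2)
  obtain ⟨g2, hg2, e4⟩ := move p2_w1 chkW1 hb hb'
  have e5 := sym_zero E hg2 e2
  obtain ⟨g3, hg3, e6, e7, -⟩ := clear (P F) w1 e4 (Finset.univ.filter fun n => p2 n w1 = 1 ∧ n ≠ op topv) (by
    intro n hn
    obtain ⟨-, hn1, hn2⟩ := Finset.mem_filter.1 hn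
    refine ⟨hn1, fun r hr c' hm t => xs_mem hr (fun h4 => hn2 ?_) t⟩
    have h5 := p2_add hr hm topv
    rw [p2_w1, h4] at h5
    rw [p2_comm] at h5
    exact p2_eq_neg_three.1 (by omega))
  have e8 := sym_zero E hg3 e5
  refine ⟨g3 * (g2 * g1), c, V F g3 (V F g2 (V F g1 y)) w1, hc, ?_, ?_, ?_⟩
  · rw [e6]
    exact e4
  · rw [map_mul, map_mul, Module.End.mul_apply, Module.End.mul_apply, e1, map_smul, map_smul, mem_P.1 hg2, mem_P.1 hg3]
  · rw [map_mul, map_mul, Module.End.mul_apply, Module.End.mul_apply]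
    refine pure_eq h2 h3 (pure_V E (pure_V E (pure_V E hy _) _) _) (by rw [e6]; exact e4) fun n hn => ?_
    by_cases hn' : n = op topv
    · rw [hn']; exact e8
    · exact e7 n (Finset.mem_filter.2 ⟨Finset.mem_univ _, hn, hn'⟩)

/-- **(T2')** -/
theorem pair_orth (h2 : (2 : F) ≠ 0) (h3 : (3 : F) ≠ 0) {x y : D1 → F} (hx : Pure F x) (hy : Pure F y) (hx0 : x ≠ 0)
    (hxy : ∀ c : F, y ≠ c • x) (hD : DD F x y = 0) :
    ∃ (g : Gh F) (c d : F), c ≠ 0 ∧ d ≠ 0 ∧ V F g x = c • bs F topv ∧ V F g y = d • bs F w2 := by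
  classical
  obtain ⟨g1, c, hc, e1⟩ := pure_top E h2 h3 hx hx0
  have e3 : DD F (bs F topv) (V F g1 y) = 0 := by
    have h4 := (DD_V E (x := x) (y := y) g1).2 hD
    rw [e1] at h4
    have := DD_smul c 1 (bs F topv) (V F g1 y)
    rw [one_smul, h4, mul_one] at this
    exact (smul_eq_zero.1 this.symm).resolve_left hc
  have pers : ∀ g ∈ P F, DD F (bs F topv) (V F g (V F g1 y)) = 0 := by
    intro g hg
    have h4 := (DD_V E (x := bs F topv) (y := V F g1 y) g).2 e3
    rwa [mem_P.1 hg] at h4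
  obtain ⟨z1, z2⟩ := top_zero h2 h3 e3
  obtain ⟨b, hb, hb'⟩ : ∃ b, p2 b topv = 1 ∧ V F g1 y b ≠ 0 := by
    by_contra hcon
    push Not at hcon
    have h4 : V F g1 y = (V F g1 y topv) • bs F topv := by
      funext a
      rw [Pi.smul_apply, smul_eq_mul]
      rcases p2_cases a topv with h5 | h5 | h5 | h5
      · rw [p2_eq_three.1 h5, bs_same, mul_one]
      · have hne : a ≠ topv := by
          rintro rfl
          rw [p2_self] at h5
          omega
        rw [bs_ne hne, mul_zero, hcon a h5]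
      · have hne : a ≠ topv := by
          rintro rfl
          rw [p2_self] at h5
          omega
        rw [bs_ne hne, mul_zero, z1 a h5]
      · have hne : a ≠ topv := by
          rintro rfl
          rw [p2_self] at h5
          omega
        rw [p2_comm] at h5
        rw [bs_ne hne, mul_zero, p2_eq_neg_three.1 h5, z2]
    apply hxy (V F g1 y topv / c)
    have h5 : V F g1 y = V F g1 ((V F g1 y topv / c) • x) := by
      rw [map_smul, e1, smul_smul, div_mul_cancel₀ _ hc]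
      exact h4
    have h6 := congrArg (V F g1⁻¹) h5
    rwa [← Module.End.mul_apply, ← Module.End.mul_apply, ← map_mul, inv_mul_cancel, map_one] at h6
  obtain ⟨g2, hg2, e4⟩ := move p2_w2 chkW2 hb hb'
  obtain ⟨g3, hg3, e6, e7, -⟩ := clear (P F) w2 e4 (Finset.univ.filter fun n => p2 n w2 = 1 ∧ (p2 n topv = 1 ∨ n = topv)) (by
    intro n hn
    obtain ⟨-, hn1, hn2⟩ := Finset.mem_filter.1 hn
    refine ⟨hn1, fun r hr c' hm t => xs_mem hr (fun h4 => ?_) t⟩
    have h5 := p2_add hr hm topv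
    rw [p2_w2, h4] at h5
    rcases hn2 with h6 | h6
    · omega
    · rw [h6, p2_self] at h5
      omega)
  obtain ⟨y1, y2⟩ := top_zero h2 h3 (pers _ ((P F).mul_mem hg3 hg2))
  rw [map_mul, Module.End.mul_apply] at y1 y2
  refine ⟨g3 * (g2 * g1), c, V F g3 (V F g2 (V F g1 y)) w2, hc, ?_, ?_, ?_⟩
  · rw [e6]
    exact e4
  · rw [map_mul, map_mul, Module.End.mul_apply, Module.End.mul_apply, e1, map_smul, map_smul, mem_P.1 hg2, mem_P.1 hg3]
  · rw [map_mul, map_mul, Module.End.mul_apply, Module.End.mul_apply]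
    refine pure_eq h2 h3 (pure_V E (pure_V E (pure_V E hy _) _) _) (by rw [e6]; exact e4) fun n hn => ?_
    rcases p2_cases n topv with h5 | h5 | h5 | h5
    · exact e7 n (Finset.mem_filter.2 ⟨Finset.mem_univ _, hn, Or.inr (p2_eq_three.1 h5)⟩)
    · exact e7 n (Finset.mem_filter.2 ⟨Finset.mem_univ _, hn, Or.inl h5⟩)
    · exact y1 n h5
    · rw [p2_comm] at h5
      rw [p2_eq_neg_three.1 h5]
      exact y2

end

/-! ### root elements as values of `DD` -/

theorem bs_pure (a : D1) : Pure F (bs F a) := by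
  show DD F (bs F a) (bs F a) = 0
  unfold DD
  rw [Finset.sum_eq_zero, smul_zero, zero_sub, neg_eq_zero]
  · ext b c
    rw [Matrix.diagonal_apply, Matrix.zero_apply]
    by_cases hab : b = c
    · rw [if_pos hab]
      refine Finset.sum_eq_zero fun e _ => ?_
      by_cases he : e = a
      · have h1 : op e ≠ a := by rw [he]; exact (ne_op a).symm
        rw [bs_ne h1]
        ring
      · rw [bs_ne he]
        ring
    · rw [if_neg hab]
  · intro r hr
    have hr0 := Finset.mem_range.1 hr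
    have hr' : 125 - r < 126 := by omega
    rcases mv_spec hr' a with h | ⟨a', c, h, -⟩
    · have h2 := NM_bs0 (F := F) h
      rw [h2, map_zero, LinearMap.zero_apply, zero_smul]
    · have h2 := NM_bs (F := F) h
      have h4 : op a' ≠ a := by
        intro h5
        have h6 := p2_of_mv hr' h
        rw [← h5, p2_op', p2_self] at h6
        omega
      rw [h2, map_smul, LinearMap.smul_apply, sf_single, bs_ne h4, mul_zero, smul_zero, zero_smul]

/-- `DD (bs a) (bs (op b))` is a multiple of the root element leading from `b` to `a` -/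
theorem DD_bs {r : ℕ} (hr : r < 126) {a b : D1} {c : ℤ} (h : mv r (nn b) = some (nn a, c)) :
    DD F (bs F a) (bs F (op b)) = (-2 * ((c : F) * ((ep b : ℤ) : F))) • NM F r := by
  have hr' : 125 - r < 126 := by omega
  have hinv : mv (125 - r) (nn a) = some (nn b, c) := by
    rcases mv_spec hr b with h5 | ⟨a', c', h5, -, -, h6⟩
    · rw [h5] at h; exact absurd h (by simp)
    · rw [h5, Option.some.injEq, Prod.mk.injEq] at h
      rw [← nn_inj h.1, ← h.2]
      exact h6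
  have hab : a ≠ b := by
    rintro rfl
    have := p2_of_mv hr h
    rw [p2_self] at this
    omega
  unfold DD
  have hdiag : (Matrix.diagonal fun c => ∑ e : D1, bs F a e * ((ep e : ℤ) : F) * bs F (op b) (op e) * ((p2 e c : ℤ) : F)) = 0 := by
    ext b' c'
    rw [Matrix.diagonal_apply, Matrix.zero_apply]
    by_cases hbc : b' = c'
    · rw [if_pos hbc]
      refine Finset.sum_eq_zero fun e _ => ?_
      by_cases he : e = a
      · have h1 : op e ≠ op b := by
          rw [he]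
          intro h2
          have h3 := congrArg op h2
          rw [op_op, op_op] at h3
          exact hab h3
        rw [bs_ne h1]
        ring
      · rw [bs_ne he]
        ring
    · rw [if_neg hbc]
  rw [hdiag, sub_zero, Finset.sum_eq_single r, smul_smul]
  · have h2 := NM_bs (F := F) hinv
    rw [h2, map_smul, LinearMap.smul_apply, sf_single, bs_same, mul_one, smul_eq_mul]
  · intro r' hr1 hne
    have hr1' := Finset.mem_range.1 hr1
    have hr2 : 125 - r' < 126 := by omega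
    rcases mv_spec hr2 a with h5 | ⟨a', c', h5, -⟩
    · have h2 := NM_bs0 (F := F) h5
      rw [h2, map_zero, LinearMap.zero_apply, zero_smul]
    · have h2 := NM_bs (F := F) h5
      have h4 : op a' ≠ op b := by
        intro h6
        have h7 := congrArg op h6
        rw [op_op, op_op] at h7
        rw [h7] at h5
        have h8 := mv_unique hr2 hr' h5 hinv
        omega
      rw [h2, map_smul, LinearMap.smul_apply, sf_single, bs_ne h4, mul_zero, smul_zero, zero_smul]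
  · intro h1
    exact absurd (Finset.mem_range.2 hr) h1

theorem NM_ne {r : ℕ} {a b : D1} {c : ℤ} (h : mv r (nn b) = some (nn a, c)) (hc : c * c = 1) : NM F r ≠ 0 := by
  intro h0
  have h1 : NM F r a b = 0 := by rw [h0]; rfl
  change ((nz r a b : ℤ) : F) = 0 at h1
  rw [nz_some h, if_pos rfl] at h1
  exact cast_ne hc h1

private noncomputable def _root_.Cfsg.Agent.LsF.fc04a46_0 : {f // @Cfsg.Agent.R2.T1.F56 = f} := ⟨_, by first | (delta Cfsg.Agent.R2.T1.F56; rewrite [Cfsg.Agent.LsF.map_eq, Cfsg.Agent.LsF.filter_eq, Cfsg.Agent.LsF.getD_eq]; exact rfl) | exact rfl⟩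
private noncomputable def _root_.Cfsg.Agent.LsF.fc04a46_1 : {f // @Cfsg.Agent.R2.T1.mv = f} := ⟨_, by first | (delta Cfsg.Agent.R2.T1.mv List.head?; rewrite [Cfsg.Agent.LsF.fc04a46_0.2]; (try delta List.getLast?.match_1); (try delta List.casesOn); exact rfl) | exact rfl⟩
theorem row_ne : ∀ r < 126, ∃ s ∈ Comb.CT, ∃ t ∈ Comb.CT, (mv r s.1).map (fun x => x.1) = some t.1 := by
  have h : (List.range 126).all (fun r => Comb.CT.any fun s => Comb.CT.any fun t => (mv r s.1).map (fun x => x.1) == some t.1) = true := by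
    ((try (delta Option.map; rewrite [Cfsg.Agent.LsF.fc04a46_1.2, Cfsg.Agent.LsF.instNBEq_pat, Cfsg.Agent.LsF.all_eq, Cfsg.Agent.LsF.any_eq, Cfsg.Agent.LsF.range_eq])); decide +kernel)
  intro r hr
  have h1 := List.all_eq_true.1 h r (List.mem_range.2 hr)
  rw [List.any_eq_true] at h1
  obtain ⟨s, hs, h2⟩ := h1
  rw [List.any_eq_true] at h2
  obtain ⟨t, ht, h3⟩ := h2
  exact ⟨s, hs, t, ht, beq_iff_eq.1 h3⟩

end Tr

end Cfsg.Agent.R2.PX
end
end

-- part: R2/PX/Tr4
section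
prune_inst 0x42000000000000008000500000020400a00000200430000c1400c000c82104220010e00b0701e1200e020d468384048110001200228000000000c00411800800880000030000000220006808800400000000000000000000000000000041000000000000
set_option linter.all false
open scoped Cfsg.Agent.FastGrp

/-!
# Pattern X (S5771), PX2: similitudes normalise the group (helper5)

* `sim_norm` : if `Θ` is a similitude then for every `g` there is `g'` with `V g' ∘ Θ = Θ ∘ V g`.
-/

set_option autoImplicit false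
set_option maxRecDepth 100000

namespace Cfsg.Agent.R2.PX

open Cfsg Cfsg.Lie Module Matrix
open Cfsg.Agent.ChevalleyStructure.RootVec
open Cfsg.Agent.H943.E7V.Block (D1 rho)
open Cfsg.Agent.R2.T1

universe u

namespace Tr

theorem CT_D1 {e : ℕ × List ℤ × List ℤ × ℕ × List ℕ} (he : e ∈ Comb.CT) : ∃ a : D1, nn a = e.1 := by
  have hs : rt chevE8 e.1 7 = 1 ∧ e.1 < 240 := by
    have : ∀ e ∈ Comb.CT, rt chevE8 e.1 7 = 1 ∧ e.1 < 240 := by decide +kernel
    exact this e he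
  exact ⟨⟨⟨e.1, hs.2⟩, hs.1⟩, rfl⟩

/-- every root leads somewhere -/
theorem exists_entry {r : ℕ} (hr : r < 126) : ∃ (a b : D1) (c : ℤ), mv r (nn b) = some (nn a, c) ∧ c * c = 1 := by
  obtain ⟨s, hs, t, ht, h⟩ := row_ne r hr
  obtain ⟨b, hb⟩ := CT_D1 hs
  obtain ⟨a, ha⟩ := CT_D1 ht
  rw [Option.map_eq_some_iff] at h
  obtain ⟨⟨u, c⟩, h2, h3⟩ := h
  have h4 : u = nn a := by rw [ha]; exact h3
  rw [h4, ← hb] at h2
  refine ⟨a, b, c, h2, ?_⟩
  rcases mv_spec hr b with h5 | ⟨a', c', h5, h6, -⟩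
  · rw [h5] at h2; exact absurd h2 (by simp)
  · rw [h5, Option.some.injEq, Prod.mk.injEq] at h2
    rw [← h2.2]; exact h6

variable {F : Type u} [Field F]

theorem sim_pure {Θ : (D1 → F) ≃ₗ[F] (D1 → F)} {β : F} (hΘ : IsSim F Θ β) {x y : D1 → F} :
    DD F (Θ x) (Θ y) = 0 ↔ DD F x y = 0 := by
  constructor
  · intro h
    have h1 : ∀ z, DD F x y *ᵥ z = 0 := by
      intro z
      have h2 := hΘ.dd x y z
      rw [h, Matrix.zero_mulVec] at h2
      have h3 := (smul_eq_zero.1 h2.symm).resolve_left hΘ.ne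
      exact (LinearEquiv.map_eq_zero_iff Θ).1 h3
    ext a b
    have h2 := congrFun (h1 (Pi.single b 1)) a
    rw [Matrix.mulVec_single_one, Matrix.col_apply] at h2
    exact h2
  · intro h
    have h1 : ∀ z, DD F (Θ x) (Θ y) *ᵥ z = 0 := by
      intro z
      have h2 := hΘ.dd x y (Θ.symm z)
      rw [h, Matrix.zero_mulVec, map_zero, smul_zero, LinearEquiv.apply_symm_apply] at h2
      exact h2
    ext a b
    have h2 := congrFun (h1 (Pi.single b 1)) a
    rw [Matrix.mulVec_single_one, Matrix.col_apply] at h2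
    exact h2

/-- **(COR)** similitudes normalise the group -/
theorem sim_norm (E : Equi F) (h2 : (2 : F) ≠ 0) (h3 : (3 : F) ≠ 0) {Θ : (D1 → F) ≃ₗ[F] (D1 → F)} {β : F} (hΘ : IsSim F Θ β)
    (g : Gh F) : ∃ g' : Gh F, ∀ v, V F g' (Θ v) = Θ (V F g v) := by
  let S : Subgroup (Gh F) :=
    { carrier := {g | ∃ g' : Gh F, ∀ v, V F g' (Θ v) = Θ (V F g v)}
      one_mem' := ⟨1, fun v => by rw [map_one]; rfl⟩
      mul_mem' := by
        rintro a b ⟨a', ha⟩ ⟨b', hb⟩
        refine ⟨a' * b', fun v => ?_⟩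
        rw [map_mul, map_mul, Module.End.mul_apply, Module.End.mul_apply, hb, ha]
      inv_mem' := by
        rintro a ⟨a', ha⟩
        refine ⟨a'⁻¹, fun v => ?_⟩
        have h1 := ha (V F a⁻¹ v)
        rw [← Module.End.mul_apply (V F a), ← map_mul, mul_inv_cancel, map_one] at h1
        change _ = Θ v at h1
        rw [← h1, ← Module.End.mul_apply, ← map_mul, inv_mul_cancel, map_one]
        rfl }
  refine mem_of_gens (S := S) (fun r hr t => ?_) g
  show ∃ g' : Gh F, ∀ v, V F g' (Θ v) = Θ (V F (xs F r t) v)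
  obtain ⟨a, b, c, hm, hc⟩ := exists_entry hr
  have hD := DD_bs (F := F) hr hm
  have hab : a ≠ b := by
    rintro rfl
    have := p2_of_mv hr hm
    rw [p2_self] at this
    omega
  have hk : (-2 * ((c : F) * ((ep b : ℤ) : F))) ≠ 0 := mul_ne_zero (neg_ne_zero.2 h2) (mul_ne_zero (cast_ne hc) (cast_ne (ep_sq b)))
  set k : F := -2 * ((c : F) * ((ep b : ℤ) : F)) with hkdef
  have p1 : Pure F (Θ (bs F a)) := (sim_pure hΘ).2 (bs_pure a)
  have p2' : Pure F (Θ (bs F (op b))) := (sim_pure hΘ).2 (bs_pure (op b))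
  have hsf : sf F (Θ (bs F a)) (Θ (bs F (op b))) = 0 := by
    rw [hΘ.form, sf_single]
    have h4 : op a ≠ op b := by
      intro h5
      have h6 := congrArg op h5
      rw [op_op, op_op] at h6
      exact hab h6
    rw [bs_ne h4, mul_zero, mul_zero]
  have hne : DD F (Θ (bs F a)) (Θ (bs F (op b))) ≠ 0 := by
    intro h4
    have h5 := (sim_pure hΘ).1 h4
    rw [hD] at h5
    exact NM_ne hm hc ((smul_eq_zero.1 h5).resolve_left hk)
  obtain ⟨h, c1, d1, hc1, hd1, e1, e2⟩ := pair_symp E h2 h3 p1 p2' hsf hne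
  -- the standard pair
  have hw : p2 topv (op w1) = 1 := by rw [p2_op', p2_comm, p2_w1]; rfl
  obtain ⟨r1, hr1, c', hm1, hc'⟩ := exists_mv hw
  have hD1 := DD_bs (F := F) hr1 hm1
  rw [op_op] at hD1
  set k1 : F := -2 * ((c' : F) * ((ep (op w1) : ℤ) : F)) with hk1def
  have e3 : DD F (V F h (Θ (bs F a))) (V F h (Θ (bs F (op b)))) = (c1 * d1 * k1) • NM F r1 := by
    rw [e1, e2, DD_smul, hD1, smul_smul]
  have e4 := E h (Θ (bs F a)) (Θ (bs F (op b)))
  rw [e3] at e4
  have e5 : ∀ w, (c1 * d1 * k1) • (NM F r1 *ᵥ V F h w) = V F h (DD F (Θ (bs F a)) (Θ (bs F (op b))) *ᵥ w) := by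
    intro w
    have h4 := congrArg (fun M : Matrix D1 D1 F => M *ᵥ w) e4
    change ((c1 * d1 * k1) • NM F r1 * rho F h) *ᵥ w = (rho F h * DD F (Θ (bs F a)) (Θ (bs F (op b)))) *ᵥ w at h4
    rw [← Matrix.mulVec_mulVec, ← Matrix.mulVec_mulVec, Matrix.smul_mulVec] at h4
    exact h4
  refine ⟨h⁻¹ * xs F r1 (t * k⁻¹ * β⁻¹ * (c1 * d1 * k1)) * h, fun v => ?_⟩
  have hinv : ∀ w, V F h⁻¹ (V F h w) = w := by
    intro w
    rw [← Module.End.mul_apply, ← map_mul, inv_mul_cancel, map_one]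
    rfl
  rw [map_mul, map_mul, Module.End.mul_apply, Module.End.mul_apply, V_xs hr1, V_xs hr, map_add, map_add, hinv]
  congr 1
  rw [mul_smul, e5, map_smul, hinv, hΘ.dd, hD, Matrix.smul_mulVec, map_smul, map_smul, smul_smul, smul_smul]
  congr 1
  have := hΘ.ne
  field_simp

end Tr

end Cfsg.Agent.R2.PX
end
end
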