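import Cfsg.Agent.R2.PX.Del_m3
import Cfsg.Agent.ChevFast.E8
import Mathlib
import Cfsg.Agent.R2.T1.Inf.Cnt_m3
import Cfsg.Agent.H952.F4.Scott_m3
import Cfsg.Agent.Lib.FastPerm
import Cfsg.Agent.R2.PX.W.Cl_m3
import Cfsg.Agent.R2.T1.Inf.Dia
import Cfsg.Agent.H943.E7V.TorMain
import Cfsg.Agent.ChevFast.E7
import Cfsg.Agent.R2.T1.Five.Diag
import Cfsg.Agent.H952.F4.TabClosed
import Cfsg.Agent.FastGrp
import Cfsg.Agent.Prune
set_option linter.all false

section
prune_inst 0xfe3dfaebfcaddfffff7e7faed5dffd99b93fffe6dff943ffe063ff0b9f0b8089c57b858de010fe1eb7c21410b87b53fbffffffe86ffc7ffffdfff41ffbee4fe5f6b508519488240fb86ff683f07f8e7f3fffffffffffffffffffffffffffbeffbfffffffff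

-- part: R2/T1/Mu2/Def
section
prune_inst 0x7f0100051403522000000180010a2000620200000020008800010800b020747b4202043a0214a200c148200144428000000000000200000000000000000011901a09000000081090004400011800000000000000000000000000000000000041000000000000
set_option linter.all false
open scoped Cfsg.Agent.FastGrp

-- part: R2/T1/Mu2/Quad
section
/-!
# The quadratic moment map of the 56-dimensional module of `E₇`, every characteristic: quadratic forms (helper24)

* `qf M y` : the quadratic form of the integral matrix `M`; `qf_zero_of` : `M + Mᵀ = 0 → qf M y = 0` (every commutative ring);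
* `Up M` : the strictly upper triangular part; `Up_add` ;
* `equi_aux`.
-/

set_option autoImplicit false

namespace Cfsg.Agent.R2.T1.Mu2

open Cfsg Cfsg.Lie Matrix
open Cfsg.Agent.R2.T1
open Cfsg.Agent.H943.E7V.Block (D1 rho)

universe u

section quad
variable {R : Type u} [CommRing R]

/-- the quadratic form of the integral matrix `M` -/
def qf (M : Matrix D1 D1 ℤ) (y : D1 → R) : R := ∑ a, ∑ b, ((M a b : ℤ) : R) * y a * y b

theorem qf_add (M N : Matrix D1 D1 ℤ) (y : D1 → R) : qf (M + N) y = qf M y + qf N y := by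
  unfold qf
  simp only [Matrix.add_apply, Int.cast_add, add_mul, Finset.sum_add_distrib]

theorem qf_neg (M : Matrix D1 D1 ℤ) (y : D1 → R) : qf (-M) y = - qf M y := by
  unfold qf
  simp only [Matrix.neg_apply, Int.cast_neg, neg_mul, Finset.sum_neg_distrib]

theorem qf_transpose (M : Matrix D1 D1 ℤ) (y : D1 → R) : qf Mᵀ y = qf M y := by
  unfold qf
  rw [Finset.sum_comm]
  refine Finset.sum_congr rfl fun a _ => Finset.sum_congr rfl fun b _ => ?_
  rw [Matrix.transpose_apply]; ring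

/-- the strictly upper triangular part -/
def Up (M : Matrix D1 D1 ℤ) : Matrix D1 D1 ℤ := Matrix.of fun a b => if a < b then M a b else 0

theorem Up_apply (M : Matrix D1 D1 ℤ) (a b : D1) : Up M a b = if a < b then M a b else 0 := rfl

/-- symmetric matrices with zero diagonal -/
theorem Up_add {M : Matrix D1 D1 ℤ} (hM : Mᵀ = M) (h0 : ∀ a, M a a = 0) : Up M + (Up M)ᵀ = M := by
  ext a b
  rw [Matrix.add_apply, Matrix.transpose_apply, Up_apply, Up_apply]
  rcases lt_trichotomy a b with h | h | h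
  · rw [if_pos h, if_neg (lt_asymm h), add_zero]
  · subst h
    rw [if_neg (lt_irrefl a), h0, add_zero]
  · rw [if_neg (lt_asymm h), if_pos h, zero_add]
    exact congrFun (congrFun hM a) b

/-- alternating matrices -/
theorem qf_zero_of {M : Matrix D1 D1 ℤ} (hM : M + Mᵀ = 0) (y : D1 → R) : qf M y = 0 := by
  have h0 : ∀ a, M a a = 0 := by
    intro a
    have h := congrFun (congrFun hM a) a
    rw [Matrix.add_apply, Matrix.transpose_apply, Matrix.zero_apply] at h
    omega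
  have h1 : M = Up M + -(Up M)ᵀ := by
    ext a b
    rw [Matrix.add_apply, Matrix.neg_apply, Matrix.transpose_apply, Up_apply, Up_apply]
    have h := congrFun (congrFun hM a) b
    rw [Matrix.add_apply, Matrix.transpose_apply, Matrix.zero_apply] at h
    rcases lt_trichotomy a b with h2 | h2 | h2
    · rw [if_pos h2, if_neg (lt_asymm h2)]; omega
    · subst h2
      rw [if_neg (lt_irrefl a), h0]; omega
    · rw [if_neg (lt_asymm h2), if_pos h2]; omega
  rw [h1, qf_add, qf_neg, qf_transpose, add_neg_cancel]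

theorem qf_eq (M : Matrix D1 D1 ℤ) (y : D1 → R) : qf M y = y ⬝ᵥ (M.map (Int.cast : ℤ → R) *ᵥ y) := by
  unfold qf
  rw [dotProduct]
  refine Finset.sum_congr rfl fun a _ => ?_
  rw [Matrix.mulVec, dotProduct, Finset.mul_sum]
  refine Finset.sum_congr rfl fun b _ => ?_
  rw [Matrix.map_apply]; ring

/-- the quadratic form at `y + t N y` -/
theorem qf_step (M N : Matrix D1 D1 ℤ) (t : R) (y : D1 → R) :
    qf M (y + t • (N.map (Int.cast : ℤ → R) *ᵥ y)) =
      qf M y + t * qf (Nᵀ * M + M * N) y + t ^ 2 * qf (Nᵀ * M * N) y := by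
  have hm : ∀ A B : Matrix D1 D1 ℤ, (A * B).map (Int.cast : ℤ → R) = A.map (Int.cast : ℤ → R) * B.map (Int.cast : ℤ → R) :=
    fun A B => Matrix.map_mul (f := Int.castRingHom R)
  have ht : (Nᵀ).map (Int.cast : ℤ → R) = (N.map (Int.cast : ℤ → R))ᵀ := rfl
  rw [qf_add]
  simp only [qf_eq, hm, ht]
  set n := N.map (Int.cast : ℤ → R) with hn
  set m := M.map (Int.cast : ℤ → R) with hmm
  have e1 : y ⬝ᵥ ((nᵀ * m) *ᵥ y) = (n *ᵥ y) ⬝ᵥ (m *ᵥ y) := by
    rw [← Matrix.mulVec_mulVec, Matrix.dotProduct_mulVec, Matrix.vecMul_transpose]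
  have e2 : y ⬝ᵥ ((m * n) *ᵥ y) = y ⬝ᵥ (m *ᵥ (n *ᵥ y)) := by rw [← Matrix.mulVec_mulVec]
  have e3 : y ⬝ᵥ ((nᵀ * m * n) *ᵥ y) = (n *ᵥ y) ⬝ᵥ (m *ᵥ (n *ᵥ y)) := by
    rw [← Matrix.mulVec_mulVec, ← Matrix.mulVec_mulVec, Matrix.dotProduct_mulVec, Matrix.vecMul_transpose]
  rw [e1, e2, e3, Matrix.mulVec_add, Matrix.mulVec_smul, add_dotProduct, dotProduct_add, dotProduct_add, smul_dotProduct,
    smul_dotProduct, dotProduct_smul, dotProduct_smul]
  simp only [smul_eq_mul]
  ring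

end quad

section equi
variable {R : Type u} [CommRing R] {J N D0 D1' D2 : Matrix D1 D1 ℤ}

/-- the equivariance of the half-forms -/
theorem equi_aux (hN : Nᵀ * J = -(J * N)) (hNN : N * N = 0) (h1 : N * D0 = D0 * N + D1') (h2 : D1' * N + D2 = 0)
    (h3 : D2 * N = 0) (s0 : Up (J * D0) + (Up (J * D0))ᵀ = J * D0) (s1 : Up (J * D1') + (Up (J * D1'))ᵀ = J * D1')
    (s2 : Up (J * D2) + (Up (J * D2))ᵀ = J * D2) (t : R) (y : D1 → R) :
    qf (Up (J * D0)) (y + t • (N.map (Int.cast : ℤ → R) *ᵥ y)) + t * qf (Up (J * D1')) (y + t • (N.map (Int.cast : ℤ → R) *ᵥ y)) +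
      t ^ 2 * qf (Up (J * D2)) (y + t • (N.map (Int.cast : ℤ → R) *ᵥ y)) = qf (Up (J * D0)) y := by
  -- the symmetrization
  have key : ∀ D : Matrix D1 D1 ℤ, Up (J * D) + (Up (J * D))ᵀ = J * D →
      (Nᵀ * Up (J * D) + Up (J * D) * N) + (Nᵀ * Up (J * D) + Up (J * D) * N)ᵀ = J * (D * N - N * D) ∧
      (Nᵀ * Up (J * D) * N) + (Nᵀ * Up (J * D) * N)ᵀ = - (J * (N * D * N)) := by
    intro D hD
    constructor
    · calc (Nᵀ * Up (J * D) + Up (J * D) * N) + (Nᵀ * Up (J * D) + Up (J * D) * N)ᵀ =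
          Nᵀ * (Up (J * D) + (Up (J * D))ᵀ) + (Up (J * D) + (Up (J * D))ᵀ) * N := by
            rw [Matrix.transpose_add, Matrix.transpose_mul, Matrix.transpose_mul, Matrix.transpose_transpose]
            noncomm_ring
        _ = _ := by
            rw [hD, ← Matrix.mul_assoc, hN]
            noncomm_ring
    · calc (Nᵀ * Up (J * D) * N) + (Nᵀ * Up (J * D) * N)ᵀ = Nᵀ * (Up (J * D) + (Up (J * D))ᵀ) * N := by
            rw [Matrix.transpose_mul, Matrix.transpose_mul, Matrix.transpose_transpose]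
            noncomm_ring
        _ = _ := by
            rw [hD, ← Matrix.mul_assoc, hN]
            noncomm_ring
  obtain ⟨a0, b0⟩ := key D0 s0
  obtain ⟨a1, b1⟩ := key D1' s1
  obtain ⟨a2, b2⟩ := key D2 s2
  have hD1 : D1' = N * D0 - D0 * N := by rw [h1]; abel
  have hD2 : D2 = -(D1' * N) := eq_neg_of_add_eq_zero_right h2
  have hNDN : N * D0 * N = D1' * N := by rw [h1, Matrix.add_mul, Matrix.mul_assoc, hNN, Matrix.mul_zero, zero_add]
  have hND1 : N * D1' = -(D1' * N) := by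
    rw [hD1]
    have : N * (N * D0 - D0 * N) = (N * N) * D0 - N * D0 * N := by noncomm_ring
    rw [this, hNN, Matrix.zero_mul, zero_sub, Matrix.sub_mul, Matrix.mul_assoc D0, hNN, Matrix.mul_zero, sub_zero]
  -- the coefficients
  have c1 : qf ((Nᵀ * Up (J * D0) + Up (J * D0) * N) + Up (J * D1')) y = 0 := by
    apply qf_zero_of
    have e : ((Nᵀ * Up (J * D0) + Up (J * D0) * N) + Up (J * D1')) +
        ((Nᵀ * Up (J * D0) + Up (J * D0) * N) + Up (J * D1'))ᵀ =
        ((Nᵀ * Up (J * D0) + Up (J * D0) * N) + (Nᵀ * Up (J * D0) + Up (J * D0) * N)ᵀ) +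
        (Up (J * D1') + (Up (J * D1'))ᵀ) := by
      rw [Matrix.transpose_add (Nᵀ * Up (J * D0) + Up (J * D0) * N)]; abel
    rw [e, a0, s1, ← Matrix.mul_add, h1]
    have : D0 * N - (D0 * N + D1') + D1' = 0 := by abel
    rw [this, Matrix.mul_zero]
  have c2 : qf ((Nᵀ * Up (J * D0) * N) + (Nᵀ * Up (J * D1') + Up (J * D1') * N) + Up (J * D2)) y = 0 := by
    apply qf_zero_of
    have e : ((Nᵀ * Up (J * D0) * N) + (Nᵀ * Up (J * D1') + Up (J * D1') * N) + Up (J * D2)) +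
        ((Nᵀ * Up (J * D0) * N) + (Nᵀ * Up (J * D1') + Up (J * D1') * N) + Up (J * D2))ᵀ =
        ((Nᵀ * Up (J * D0) * N) + (Nᵀ * Up (J * D0) * N)ᵀ) +
        ((Nᵀ * Up (J * D1') + Up (J * D1') * N) + (Nᵀ * Up (J * D1') + Up (J * D1') * N)ᵀ) +
        (Up (J * D2) + (Up (J * D2))ᵀ) := by
      rw [Matrix.transpose_add _ (Up (J * D2)), Matrix.transpose_add (Nᵀ * Up (J * D0) * N)]; abel
    rw [e, b0, a1, s2, ← Matrix.mul_neg, ← Matrix.mul_add, ← Matrix.mul_add, hNDN, hND1, hD2]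
    have : -(D1' * N) + (D1' * N - -(D1' * N)) + -(D1' * N) = 0 := by abel
    rw [this, Matrix.mul_zero]
  have c3 : qf ((Nᵀ * Up (J * D1') * N) + (Nᵀ * Up (J * D2) + Up (J * D2) * N)) y = 0 := by
    apply qf_zero_of
    have e : ((Nᵀ * Up (J * D1') * N) + (Nᵀ * Up (J * D2) + Up (J * D2) * N)) +
        ((Nᵀ * Up (J * D1') * N) + (Nᵀ * Up (J * D2) + Up (J * D2) * N))ᵀ =
        ((Nᵀ * Up (J * D1') * N) + (Nᵀ * Up (J * D1') * N)ᵀ) +
        ((Nᵀ * Up (J * D2) + Up (J * D2) * N) + (Nᵀ * Up (J * D2) + Up (J * D2) * N)ᵀ) := by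
      rw [Matrix.transpose_add (Nᵀ * Up (J * D1') * N)]; abel
    rw [e, b1, a2, ← Matrix.mul_neg, ← Matrix.mul_add, h3, hD2]
    have : -(N * D1' * N) + (0 - N * -(D1' * N)) = 0 := by noncomm_ring
    rw [this, Matrix.mul_zero]
  have c4 : qf (Nᵀ * Up (J * D2) * N) y = 0 := by
    apply qf_zero_of
    rw [b2, Matrix.mul_assoc N, h3, Matrix.mul_zero, Matrix.mul_zero, neg_zero]
  rw [qf_add] at c1 c3
  rw [qf_add, qf_add] at c2
  rw [qf_step, qf_step, qf_step]
  linear_combination t * c1 + t ^ 2 * c2 + t ^ 3 * c3 + t ^ 4 * c4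

end equi

end Cfsg.Agent.R2.T1.Mu2
end

-- part: R2/T1/Mu2/Def
section
/-!
# The quadratic moment map of the 56-dimensional module of `E₇`, every characteristic (helper24)

* `hq N y` : half of `sf F y (N y)`;
* `Mu F y : (chevE7.Idx → F) →ₗ[F] F` : the moment map, `Mu F y z = "1/2 sf y (z y)"`, for `z` in the adjoint module `L F` (simply
  connected Lie algebra); it is defined in every characteristic;
* `Mu_V : Mu F (V F g y) (L F g z) = Mu F y z`;
* `Mu_add : Mu F (x + y) z = Mu F x z + Mu F y z + sf F y (del F z x)`, `Mu_smul`.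
-/

set_option autoImplicit false
set_option maxRecDepth 100000

namespace Cfsg.Agent.R2.T1.Mu2

open Cfsg Cfsg.Lie Matrix
open Cfsg.Agent.R2.T1 Cfsg.Agent.R2.PX
open Cfsg.Agent.ChevalleyStructure.Elts Cfsg.Agent.ChevalleyStructure.RootVec
  Cfsg.Agent.ChevalleyStructure.RootVecTab
open Cfsg.Agent.H943.E7V.Block (D1 rho)

universe u

/-! ### the integral matrices -/

/-- the form -/
noncomputable def JZ : Matrix D1 D1 ℤ := Matrix.of fun a b => if b = op a then ep a else 0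

/-- the root vectors -/
def NZ (r : ℕ) : Matrix D1 D1 ℤ := Matrix.of fun a b => nz r a b

/-- the simple coroots -/
def HZ (i : ℕ) : Matrix D1 D1 ℤ := Matrix.diagonal fun b => chevE8.cartan i (nn b)

/-- the coroots -/
def HdZ (r : ℕ) : Matrix D1 D1 ℤ := Matrix.diagonal fun b => wr r (nn b)

/-- the commutators -/
noncomputable def csZ (r s : ℕ) : Matrix D1 D1 ℤ :=
  match cs r s with
  | none => 0
  | some (u, c) => c • NZ u

section cast
variable (F : Type u) [Field F]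

/-- the cast -/
def ct (A : Matrix D1 D1 ℤ) : Matrix D1 D1 F := A.map (Int.cast : ℤ → F)

variable {F}

theorem ct_apply (A : Matrix D1 D1 ℤ) (a b : D1) : ct F A a b = ((A a b : ℤ) : F) := rfl

theorem ct_add (A B : Matrix D1 D1 ℤ) : ct F (A + B) = ct F A + ct F B := by
  ext a b; simp [ct_apply]

theorem ct_neg (A : Matrix D1 D1 ℤ) : ct F (-A) = - ct F A := by
  ext a b; simp [ct_apply]

theorem ct_zero : ct F 0 = 0 := by
  ext a b; simp [ct_apply]

theorem ct_zsmul (c : ℤ) (A : Matrix D1 D1 ℤ) : ct F (c • A) = (c : F) • ct F A := by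
  ext a b
  rw [Matrix.smul_apply, ct_apply, ct_apply, Matrix.smul_apply, smul_eq_mul, smul_eq_mul, Int.cast_mul]

theorem ct_mul (A B : Matrix D1 D1 ℤ) : ct F (A * B) = ct F A * ct F B :=
  Matrix.map_mul (f := Int.castRingHom F)

theorem ct_inj {A B : Matrix D1 D1 ℤ} (h : ct ℚ A = ct ℚ B) : A = B := by
  ext a b
  exact Int.cast_injective (α := ℚ) (congrFun (congrFun h a) b)

theorem ct_JZ : ct F JZ = JM F := by
  ext a b
  show (((if b = op a then ep a else 0 : ℤ)) : F) = if b = op a then ((ep a : ℤ) : F) else 0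
  split_ifs <;> simp

theorem ct_NZ (r : ℕ) : ct F (NZ r) = NM F r := rfl

theorem ct_HZ (i : ℕ) : ct F (HZ i) = Hi F i := by
  ext a b
  rw [ct_apply, HZ, Hi, Matrix.diagonal_apply, Matrix.diagonal_apply]
  split_ifs <;> simp

theorem ct_HdZ (r : ℕ) : ct F (HdZ r) = Hd F r := by
  ext a b
  rw [ct_apply, HdZ, Hd, Matrix.diagonal_apply, Matrix.diagonal_apply]
  split_ifs <;> simp

theorem ct_csZ (r s : ℕ) : ct F (csZ r s) = csM F r s := by
  unfold csZ csM
  rcases cs r s with _ | ⟨u, c⟩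
  · exact ct_zero
  · dsimp only
    rw [ct_zsmul, ct_NZ]

end cast

theorem JZ_apply (a b : D1) : JZ a b = if b = op a then ep a else 0 := rfl

theorem JZ_transpose : JZᵀ = -JZ := by
  ext a b
  rw [Matrix.transpose_apply, Matrix.neg_apply, JZ_apply, JZ_apply]
  by_cases h : b = op a
  · have h' : a = op b := by rw [h, op_op]
    rw [if_pos h, if_pos h', h, ep_op]
  · have h' : a ≠ op b := fun h' => h (by rw [h', op_op])
    rw [if_neg h, if_neg h', neg_zero]

/-- the integral skew-adjoint matrices with the property of the diagonal -/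
structure SkZ (A : Matrix D1 D1 ℤ) : Prop where
  adj : Aᵀ * JZ = -(JZ * A)
  diag : ∀ a, A (op a) a = 0

theorem SkZ.up {A : Matrix D1 D1 ℤ} (h : SkZ A) : Up (JZ * A) + (Up (JZ * A))ᵀ = JZ * A := by
  apply Up_add
  · rw [Matrix.transpose_mul, JZ_transpose, Matrix.mul_neg, h.adj, _root_.neg_neg]
  · intro a
    rw [Matrix.mul_apply, Finset.sum_eq_single (op a)]
    · rw [h.diag, mul_zero]
    · intro b _ hb
      rw [JZ_apply, if_neg hb, zero_mul]
    · intro h; exact absurd (Finset.mem_univ _) h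

theorem SkZ.zero : SkZ 0 := ⟨by simp, fun a => rfl⟩

theorem SkZ.smul {A : Matrix D1 D1 ℤ} (h : SkZ A) (c : ℤ) : SkZ (c • A) :=
  ⟨by rw [Matrix.transpose_smul, Matrix.smul_mul, h.adj, Matrix.mul_smul, smul_neg], fun a => by
    rw [Matrix.smul_apply, h.diag, smul_zero]⟩

theorem SkZ.neg {A : Matrix D1 D1 ℤ} (h : SkZ A) : SkZ (-A) :=
  ⟨by rw [Matrix.transpose_neg, Matrix.neg_mul, h.adj, Matrix.mul_neg], fun a => by
    rw [Matrix.neg_apply, h.diag, neg_zero]⟩

theorem NZ_adj {r : ℕ} (hr : r < 126) : (NZ r)ᵀ * JZ = -(JZ * NZ r) := by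
  apply ct_inj
  have h := NM_JM (F := ℚ) hr
  rw [ct_neg, ct_mul, ct_mul, ct_JZ]
  have e : ct ℚ (NZ r)ᵀ = (NM ℚ r)ᵀ := rfl
  rw [e, ct_NZ]
  exact eq_neg_of_add_eq_zero_left h

/-- a weight and its opposite do not differ by a root -/
theorem chkOp : ((List.range 126).all fun r => (T56.getD r []).all fun x => !(Nat.beq (st x.1).1 x.2.1)) = true := by
  decide +kernel

theorem NZ_diag {r : ℕ} (hr : r < 126) (a : D1) : NZ r (op a) a = 0 := by
  by_contra hne
  obtain ⟨c, h, -⟩ := nz_ne hne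
  have h1 := List.all_eq_true.1 chkOp r (List.mem_range.2 hr)
  rw [List.all_eq_true] at h1
  unfold mv at h
  have h2 := List.mem_of_mem_head? h
  unfold F56 at h2
  rw [List.mem_map] at h2
  obtain ⟨x, hx, hx'⟩ := h2
  rw [List.mem_filter] at hx
  have h3 := h1 x hx.1
  have h4 : x.1 = nn a := Nat.eq_of_beq_eq_true hx.2
  have h5 : x.2.1 = nn (op a) := by rw [hx']
  rw [h4, h5, st_eq] at h3
  simp at h3

theorem SkZ_NZ {r : ℕ} (hr : r < 126) : SkZ (NZ r) := ⟨NZ_adj hr, NZ_diag hr⟩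

theorem cart_TE : (TE.all fun x => (List.range 7).all fun i => decide (chevE8.cartan i x.2.1 = -chevE8.cartan i x.1)) = true := by
  (rewrite [Cfsg.Agent.ChevFast.E8.cartan]; decide +kernel)

theorem cart_op {i : ℕ} (hi : i < 7) (a : D1) : chevE8.cartan i (nn (op a)) = - chevE8.cartan i (nn a) := by
  have h := TE_all (nn a) (nn_lt a) (rt_nn a)
  have h1 := List.all_eq_true.1 (List.all_eq_true.1 cart_TE _ h) i (List.mem_range.2 hi)
  rw [decide_eq_true_eq, st_eq] at h1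
  exact h1

theorem diag_adj {d : D1 → ℤ} (hd : ∀ a, d (op a) = - d a) :
    (Matrix.diagonal d)ᵀ * JZ = -(JZ * Matrix.diagonal d) := by
  ext a b
  rw [Matrix.diagonal_transpose, Matrix.diagonal_mul, Matrix.neg_apply, Matrix.mul_diagonal, JZ_apply]
  by_cases h : b = op a
  · rw [if_pos h, h, hd]; ring
  · rw [if_neg h]; ring

theorem SkZ_diag {d : D1 → ℤ} (hd : ∀ a, d (op a) = - d a) : SkZ (Matrix.diagonal d) :=
  ⟨diag_adj hd, fun a => Matrix.diagonal_apply_ne _ (ne_op a).symm⟩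

theorem SkZ_HZ {i : ℕ} (hi : i < 7) : SkZ (HZ i) := SkZ_diag fun a => cart_op hi a

theorem NZ_comm_neg {r : ℕ} (hr : r < 126) : NZ r * NZ (125 - r) = NZ (125 - r) * NZ r + HdZ r := by
  apply ct_inj
  rw [ct_add, ct_mul, ct_mul, ct_NZ, ct_NZ, ct_HdZ, ← NM_comm_neg hr]
  abel

theorem SkZ_HdZ {r : ℕ} (hr : r < 126) : SkZ (HdZ r) := by
  have h1 : HdZ r = NZ r * NZ (125 - r) - NZ (125 - r) * NZ r := by rw [NZ_comm_neg hr]; abel
  refine ⟨?_, fun a => Matrix.diagonal_apply_ne _ (ne_op a).symm⟩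
  have a1 := NZ_adj hr
  have a2 := NZ_adj (r := 125 - r) (by omega)
  rw [h1, Matrix.transpose_sub, Matrix.transpose_mul, Matrix.transpose_mul, Matrix.sub_mul, Matrix.mul_assoc, a1,
    Matrix.mul_assoc, a2, Matrix.mul_neg, ← Matrix.mul_assoc, a2, Matrix.mul_neg, ← Matrix.mul_assoc, a1]
  noncomm_ring

theorem NZ_comm {r s : ℕ} (hr : r < 126) (hs : s < 126) (hne : s ≠ 125 - r) : NZ r * NZ s = NZ s * NZ r + csZ r s := by
  apply ct_inj
  rw [ct_add, ct_mul, ct_mul, ct_NZ, ct_NZ, ct_csZ, ← NM_comm hr hs hne]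
  abel

theorem SkZ_csZ {r s : ℕ} (hr : r < 126) (hs : s < 126) : SkZ (csZ r s) := by
  unfold csZ
  rcases h : cs r s with _ | ⟨u, c⟩
  · exact SkZ.zero
  · dsimp only
    apply SkZ.smul
    apply SkZ_NZ
    unfold cs at h
    by_cases h0 : lk (PC.getD r 0) s = 0
    · rw [if_pos h0] at h; exact absurd h (by simp)
    rw [if_neg h0, Option.some.injEq, Prod.mk.injEq] at h
    rcases PC_spec hr hs with ⟨h5, -⟩ | ⟨-, -, h5, -, -⟩
    · exact absurd h5 h0
    · rw [← h.1]; exact h5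

theorem csZ_NZ {r s : ℕ} (hr : r < 126) (hs : s < 126) (hne : s ≠ 125 - r) : csZ r s * NZ r = 0 := by
  apply ct_inj
  rw [ct_mul, ct_csZ, ct_NZ, csM_NM (by norm_num) hr hs hne, ct_zero]

theorem NZ_sq {r : ℕ} (hr : r < 126) : NZ r * NZ r = 0 := by
  apply ct_inj
  rw [ct_mul, ct_NZ, NM_mul_self hr, ct_zero]

theorem HdZ_NZ {r : ℕ} (hr : r < 126) : HdZ r * NZ r = NZ r := by
  apply ct_inj
  rw [ct_mul, ct_NZ, ct_HdZ, Hd_NM hr]

theorem HZ_comm {r i : ℕ} (hr : r < 126) (hi : i < 7) : NZ r * HZ i = HZ i * NZ r + (-(chevE7.cartan i r)) • NZ r := by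
  apply ct_inj
  rw [ct_add, ct_mul, ct_mul, ct_NZ, ct_HZ, ct_zsmul, ct_NZ, Int.cast_neg, neg_smul, ← Hi_comm hr hi]
  abel

/-! ### the half-forms -/

section hq
variable {F : Type u} [Field F]

/-- half of `sf F y (N y)` -/
noncomputable def hq (N : Matrix D1 D1 F) (y : D1 → F) : F :=
  ∑ a, ∑ b, if a < b then (JM F * N) a b * y a * y b else 0

theorem hq_add_left (M N : Matrix D1 D1 F) (y : D1 → F) : hq (M + N) y = hq M y + hq N y := by
  unfold hq
  simp only [← Finset.sum_add_distrib]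
  refine Finset.sum_congr rfl fun a _ => Finset.sum_congr rfl fun b _ => ?_
  rw [Matrix.mul_add, Matrix.add_apply]
  split_ifs <;> ring

theorem hq_smul_left (c : F) (N : Matrix D1 D1 F) (y : D1 → F) : hq (c • N) y = c * hq N y := by
  unfold hq
  simp only [Finset.mul_sum]
  refine Finset.sum_congr rfl fun a _ => Finset.sum_congr rfl fun b _ => ?_
  rw [Matrix.mul_smul, Matrix.smul_apply, smul_eq_mul]
  split_ifs <;> ring

theorem hq_smul (N : Matrix D1 D1 F) (c : F) (y : D1 → F) : hq N (c • y) = c ^ 2 * hq N y := by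
  unfold hq
  simp only [Finset.mul_sum]
  refine Finset.sum_congr rfl fun a _ => Finset.sum_congr rfl fun b _ => ?_
  rw [Pi.smul_apply, Pi.smul_apply, smul_eq_mul, smul_eq_mul]
  split_ifs <;> ring

theorem hq_ct (A : Matrix D1 D1 ℤ) (y : D1 → F) : hq (ct F A) y = qf (Up (JZ * A)) y := by
  unfold hq qf
  refine Finset.sum_congr rfl fun a _ => Finset.sum_congr rfl fun b _ => ?_
  rw [Up_apply, ← ct_JZ, ← ct_mul, ct_apply]
  split_ifs
  · rfl
  · simp

/-- skew-adjoint matrices with the property of the diagonal -/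
structure Sk (A : Matrix D1 D1 F) : Prop where
  symm : (JM F * A)ᵀ = JM F * A
  diag : ∀ a, (JM F * A) a a = 0

theorem SkZ.sk {A : Matrix D1 D1 ℤ} (h : SkZ A) : Sk (ct F A) := by
  have h1 : (JZ * A)ᵀ = JZ * A := by rw [Matrix.transpose_mul, JZ_transpose, Matrix.mul_neg, h.adj, _root_.neg_neg]
  constructor
  · rw [← ct_JZ, ← ct_mul]
    show ct F (JZ * A)ᵀ = _
    rw [h1]
  · intro a
    rw [← ct_JZ, ← ct_mul, ct_apply, Matrix.mul_apply, Finset.sum_eq_single (op a)]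
    · rw [h.diag, mul_zero, Int.cast_zero]
    · intro b _ hb
      rw [JZ_apply, if_neg hb, zero_mul]
    · intro h; exact absurd (Finset.mem_univ _) h

theorem Sk.zero : Sk (0 : Matrix D1 D1 F) := ⟨by simp, fun a => by simp⟩

theorem Sk.add {A B : Matrix D1 D1 F} (hA : Sk A) (hB : Sk B) : Sk (A + B) :=
  ⟨by rw [Matrix.mul_add, Matrix.transpose_add, hA.symm, hB.symm], fun a => by
    rw [Matrix.mul_add, Matrix.add_apply, hA.diag, hB.diag, add_zero]⟩

theorem Sk.smul {A : Matrix D1 D1 F} (hA : Sk A) (c : F) : Sk (c • A) :=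
  ⟨by rw [Matrix.mul_smul, Matrix.transpose_smul, hA.symm], fun a => by
    rw [Matrix.mul_smul, Matrix.smul_apply, hA.diag, smul_zero]⟩

/-- polarization -/
theorem hq_add {N : Matrix D1 D1 F} (hN : Sk N) (x y : D1 → F) :
    hq N (x + y) = hq N x + hq N y + sf F y (N *ᵥ x) := by
  have h1 : sf F y (N *ᵥ x) = ∑ a, ∑ b, (if a < b then (JM F * N) a b * (x a * y b + y a * x b) else 0) := by
    rw [sf_apply, Matrix.mulVec_mulVec, dotProduct]
    have e : ∀ a b : D1, (JM F * N) a b * (y a * x b) = (if a < b then (JM F * N) a b * (y a * x b) else 0) +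
        (if b < a then (JM F * N) b a * (y a * x b) else 0) := by
      intro a b
      rcases lt_trichotomy a b with h | h | h
      · rw [if_pos h, if_neg (lt_asymm h), add_zero]
      · subst h
        rw [if_neg (lt_irrefl a), hN.diag]; ring
      · rw [if_neg (lt_asymm h), if_pos h, zero_add]
        have := congrFun (congrFun hN.symm b) a
        rw [Matrix.transpose_apply] at this
        rw [this]
    calc ∑ a, y a * ((JM F * N) *ᵥ x) a = ∑ a, ∑ b, (JM F * N) a b * (y a * x b) := by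
          refine Finset.sum_congr rfl fun a _ => ?_
          rw [Matrix.mulVec, dotProduct, Finset.mul_sum]
          exact Finset.sum_congr rfl fun b _ => by ring
      _ = ∑ a, ∑ b, (if a < b then (JM F * N) a b * (y a * x b) else 0) +
          ∑ a, ∑ b, (if b < a then (JM F * N) b a * (y a * x b) else 0) := by
          rw [← Finset.sum_add_distrib]
          refine Finset.sum_congr rfl fun a _ => ?_
          rw [← Finset.sum_add_distrib]
          exact Finset.sum_congr rfl fun b _ => e a b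
      _ = _ := by
          rw [Finset.sum_comm (f := fun a b => if b < a then (JM F * N) b a * (y a * x b) else 0), ← Finset.sum_add_distrib]
          refine Finset.sum_congr rfl fun a _ => ?_
          rw [← Finset.sum_add_distrib]
          refine Finset.sum_congr rfl fun b _ => ?_
          split_ifs <;> ring
  rw [h1]
  unfold hq
  simp only [← Finset.sum_add_distrib]
  refine Finset.sum_congr rfl fun a _ => Finset.sum_congr rfl fun b _ => ?_
  rw [Pi.add_apply, Pi.add_apply]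
  split_ifs <;> ring

end hq

/-! ### the moment map -/

section mu
variable (F : Type u) [Field F]

/-- **the quadratic moment map** -/
noncomputable def Mu (y : D1 → F) : (chevE7.Idx → F) →ₗ[F] F where
  toFun z := hq (del F z) y
  map_add' z w := by rw [map_add, hq_add_left]
  map_smul' c z := by rw [map_smul, hq_smul_left]; rfl

variable {F}

theorem Mu_apply (y : D1 → F) (z : chevE7.Idx → F) : Mu F y z = hq (del F z) y := rfl

theorem Sk_del (z : chevE7.Idx → F) : Sk (del F z) := by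
  rw [del_apply]
  refine Sk.add ?_ ?_
  · refine Finset.sum_induction _ Sk (fun _ _ => Sk.add) Sk.zero fun i _ => ?_
    rw [← ct_HZ]
    exact (SkZ_HZ i.2).sk.smul _
  · refine Finset.sum_induction _ Sk (fun _ _ => Sk.add) Sk.zero fun s _ => ?_
    rw [← ct_NZ]
    exact (SkZ_NZ s.2).sk.smul _

/-- polarization -/
theorem Mu_add (x y : D1 → F) (z : chevE7.Idx → F) :
    Mu F (x + y) z = Mu F x z + Mu F y z + sf F y (del F z *ᵥ x) := hq_add (Sk_del z) x y

theorem Mu_smul (c : F) (y : D1 → F) : Mu F (c • y) = c ^ 2 • Mu F y := by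
  refine LinearMap.ext fun z => ?_
  rw [Mu_apply, hq_smul]; rfl

theorem Mu_zero : Mu F (0 : D1 → F) = 0 := by
  have h := Mu_smul (0 : F) (0 : D1 → F)
  rwa [zero_smul, zero_pow two_ne_zero, zero_smul] at h

theorem Mu_x_basis {r : ℕ} (hr : r < 126) (t : F) (j : chevE7.Idx) (y : D1 → F) :
    hq (del F (chevE7.x F r t *ᵥ Pi.single j 1)) (y + t • (NM F r *ᵥ y)) = hq (del F (Pi.single j 1)) y := by
  have main : ∀ D0 D1' D2 : Matrix D1 D1 ℤ, SkZ D0 → SkZ D1' → SkZ D2 → NZ r * D0 = D0 * NZ r + D1' →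
      D1' * NZ r + D2 = 0 → D2 * NZ r = 0 →
      hq (ct F D0 + t • ct F D1' + (t ^ 2) • ct F D2) (y + t • (NM F r *ᵥ y)) = hq (ct F D0) y := by
    intro D0 D1' D2 s0 s1 s2 h1 h2 h3
    rw [hq_add_left, hq_add_left, hq_smul_left, hq_smul_left, hq_ct, hq_ct, hq_ct, hq_ct]
    exact equi_aux (NZ_adj hr) (NZ_sq hr) h1 h2 h3 s0.up s1.up s2.up t y
  rcases j with i | ⟨s, hs⟩
  · rw [del_inl, del_x_inl hr, ← ct_HZ]
    have h := main (HZ i) ((-(chevE7.cartan i r)) • NZ r) 0 (SkZ_HZ i.2) ((SkZ_NZ hr).smul _) SkZ.zero (HZ_comm hr i.2)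
      (by rw [Matrix.smul_mul, NZ_sq hr, smul_zero, add_zero]) (Matrix.zero_mul _)
    rw [← h]
    congr 1
    rw [ct_zsmul, ct_NZ, ct_zero, smul_zero, add_zero, smul_smul, Int.cast_neg, mul_neg, neg_smul, sub_eq_add_neg, mul_comm]
  · have hs' : s < 126 := hs
    rw [del_inr]
    show _ = hq (NM F s) y
    by_cases h3 : s = r
    · subst h3
      rw [del_x_self hr]
      have h := main (NZ s) 0 0 (SkZ_NZ hr) SkZ.zero SkZ.zero (by rw [add_zero]) (by rw [Matrix.zero_mul, add_zero])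
        (Matrix.zero_mul _)
      rw [ct_zero, smul_zero, smul_zero, add_zero, add_zero, ct_NZ] at h
      exact h
    by_cases h4 : s = 125 - r
    · subst h4
      rw [del_x_neg hr]
      have h := main (NZ (125 - r)) (HdZ r) (-NZ r) (SkZ_NZ (by omega)) (SkZ_HdZ hr) (SkZ_NZ hr).neg (NZ_comm_neg hr)
        (by rw [HdZ_NZ hr, add_neg_cancel]) (by rw [Matrix.neg_mul, NZ_sq hr, neg_zero])
      rw [ct_NZ, ct_HdZ, ct_neg, ct_NZ, smul_neg, ← sub_eq_add_neg] at h
      exact h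
    · rw [del_x_inr hr hs' h4 h3]
      have h := main (NZ s) (csZ r s) 0 (SkZ_NZ hs') (SkZ_csZ hr hs') SkZ.zero (NZ_comm hr hs' h4)
        (by rw [csZ_NZ hr hs' h4, add_zero]) (Matrix.zero_mul _)
      rw [ct_zero, smul_zero, add_zero, ct_NZ, ct_csZ] at h
      exact h

theorem Mu_x {r : ℕ} (hr : r < 126) (t : F) (z : chevE7.Idx → F) (y : D1 → F) :
    Mu F (y + t • (NM F r *ᵥ y)) (chevE7.x F r t *ᵥ z) = Mu F y z := by
  have hz : z = ∑ j, z j • (Pi.single j (1 : F) : chevE7.Idx → F) := by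
    ext k
    simp [Finset.sum_apply, Pi.single_apply]
  rw [hz, Matrix.mulVec_sum, map_sum, map_sum]
  refine Finset.sum_congr rfl fun j _ => ?_
  rw [Matrix.mulVec_smul, map_smul, map_smul]
  congr 1
  exact Mu_x_basis hr t j y

/-- **equivariance** -/
theorem Mu_adM (g : Gh F) (y : D1 → F) (z : chevE7.Idx → F) : Mu F (V F g y) (adM F g *ᵥ z) = Mu F y z := by
  have h := mem_of_gens (F := F) (S :=
    { carrier := {g | ∀ (y : D1 → F) (z : chevE7.Idx → F), Mu F (V F g y) (adM F g *ᵥ z) = Mu F y z}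
      one_mem' := fun y z => by rw [map_one, map_one, Matrix.one_mulVec, Module.End.one_apply]
      mul_mem' := by
        intro a b ha hb y z
        rw [V_mul, map_mul, ← Matrix.mulVec_mulVec, ha, hb]
      inv_mem' := by
        intro a ha y z
        rw [← ha (V F a⁻¹ y) (adM F a⁻¹ *ᵥ z), V_inv', Matrix.mulVec_mulVec, ← map_mul, mul_inv_cancel, map_one,
          Matrix.one_mulVec] }) ?_ g
  · exact h y z
  · intro r hr t y z
    rw [V_xs hr, adM_xs]
    exact Mu_x hr t z y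

/-- **equivariance** -/
theorem Mu_V (g : Gh F) (y : D1 → F) (z : chevE7.Idx → F) : Mu F (V F g y) (L F g z) = Mu F y z := by
  rw [L_adM, Matrix.toLin'_apply]
  exact Mu_adM g y z

/-- **equivariance** -/
theorem Mu_V' (g : Gh F) (y : D1 → F) : Mu F (V F g y) = (Mu F y).comp (L F g⁻¹) := by
  refine LinearMap.ext fun z => ?_
  rw [LinearMap.comp_apply, ← Mu_V g y, ← Module.End.mul_apply, ← map_mul, mul_inv_cancel, map_one, Module.End.one_apply]

/-- singular vectors -/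
def Sing (x : D1 → F) : Prop := Mu F x = 0

theorem Sing.V {x : D1 → F} (h : Sing x) (g : Gh F) : Sing (V F g x) := by
  unfold Sing at h ⊢
  rw [Mu_V', h, LinearMap.zero_comp]

theorem sing_V {x : D1 → F} {g : Gh F} : Sing (V F g x) ↔ Sing x := by
  refine ⟨fun h => ?_, fun h => h.V g⟩
  have := h.V g⁻¹
  rwa [V_inv] at this

theorem Sing.smul {x : D1 → F} (h : Sing x) (c : F) : Sing (c • x) := by
  unfold Sing at h ⊢
  rw [Mu_smul, h, smul_zero]

end mu

end Cfsg.Agent.R2.T1.Mu2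
end

private theorem dce_43bddcaf1f1b : _root_.True := by
  try have : _root_.True := by simp only [_root_.Cfsg.Agent.R2.T1.Mu2.HZ.eq_1]
  try have : _root_.True := by simp only [_root_.Cfsg.Agent.R2.T1.Mu2.HdZ.eq_1]
  exact _root_.True.intro
end

-- part: R2/T1/Five/Grp
section
set_option linter.all false
open scoped Cfsg.Agent.FastGrp

/-!
# The group-theoretic part of the case `n = 5` (helper25)

* `a0`, `b0` : generators of `A₅` of orders 2 and 3 with product of order 5;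
* `cen_five` : the centralizer of an element of order 5 in the maximal subgroup contains no involution.
-/

set_option autoImplicit false
set_option maxRecDepth 100000

namespace Cfsg.Agent.R2.T1.Five

open Cfsg Cfsg.Lie Module Equiv Equiv.Perm
open Cfsg.Agent.H952.F4 (MaxAlt)
open Cfsg.Agent.R2.T1

/-- the alternating group of degree 5 -/
abbrev A5 : Type := ↥(alternatingGroup (Fin 5))

/-- an involution -/
def a0 : A5 := ⟨swap 0 4 * swap 1 2, by rw [mem_alternatingGroup]; decide⟩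

/-- an element of order 3 -/
def b0 : A5 := ⟨swap 2 3 * swap 3 4, by rw [mem_alternatingGroup]; decide⟩

/-- an element of order 5 -/
def w0 : A5 := a0 * b0

theorem a0_sq : a0 * a0 = 1 := by decide +kernel
theorem a0_ne : a0 ≠ 1 := by decide +kernel
theorem b0_cube : b0 ^ 3 = 1 := by decide +kernel
theorem b0_ne : b0 ≠ 1 := by decide +kernel
theorem w0_pow : w0 ^ 5 = 1 := by decide +kernel
theorem w0_ne : w0 ≠ 1 := by decide +kernel
theorem a0_type : (a0 : Perm (Fin 5)).cycleType = {2, 2} := by decide +kernel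

theorem clos : Subgroup.closure {a0, b0} = ⊤ := by
  rw [eq_top_iff]
  intro σ _
  have h1 : (σ : Perm (Fin 5)) ∈ Subgroup.closure {(a0 : Perm (Fin 5)), (b0 : Perm (Fin 5))} := by
    refine Cfsg.Agent.H952.F4.Gen.mem_of_star (n := 3) _ ?_ ?_ σ.2
    · rw [Subgroup.closure_le]
      rintro z (rfl | rfl)
      · exact a0.2
      · exact b0.2
    · have hW : ∀ k : Fin 5, k ≠ 0 → Cfsg.Agent.H952.F4.Gen.ev (a0 : Perm (Fin 5)) (b0 : Perm (Fin 5))
          ((![[], [], [3, 0, 3, 0, 2], [0, 3, 0], [2, 0, 3, 0, 3]] : Fin 5 → List (Fin 4)) k) = swap 0 1 * swap 0 k := by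
        decide +kernel
      intro k hk
      rw [← hW k hk]
      exact Cfsg.Agent.H952.F4.Gen.ev_mem (Subgroup.subset_closure (by simp)) (Subgroup.subset_closure (by simp)) _
  have h2 : (Subgroup.closure {a0, b0}).map (alternatingGroup (Fin 5)).subtype =
      Subgroup.closure {(a0 : Perm (Fin 5)), (b0 : Perm (Fin 5))} := by
    rw [MonoidHom.map_closure, Set.image_pair]
    rfl
  rw [← h2] at h1
  obtain ⟨τ, hτ, h3⟩ := h1
  rwa [← Subtype.ext h3]

theorem orbit5 : ∀ b : A5, b * b = 1 → b ≠ 1 → (b * w0) ^ 3 = 1 → ∃ i < 5, b = w0 ^ i * a0 * (w0 ^ i)⁻¹ := by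
  (set_option synthInstance.maxSize 9000 in open scoped Cfsg.Agent.Lib.FastPerm in decide +kernel)

theorem sq_one : ∀ i < 5, (w0 ^ i) * (w0 ^ i) = 1 → w0 ^ i = 1 := by decide +kernel

universe u

section

variable {F : Type u} [Field F] [Finite F] {H : Subgroup ↥(chevE7.group F)} {φ : A5 →* ↥(chevE7.group F)}

/-- elements commuting with the images of the generators are trivial -/
theorem cen_gen (hM : MaxAlt H 5 φ) {z : ↥(chevE7.group F)} (h1 : φ a0 * z = z * φ a0) (h2 : φ w0 * z = z * φ w0) :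
    z = 1 := by
  refine centralizer_eq hM (by norm_num) fun a => ?_
  have hb : φ b0 * z = z * φ b0 := by
    have e : b0 = a0 * w0 := by rw [w0, ← mul_assoc, a0_sq, one_mul]
    rw [e, map_mul, mul_assoc, h2, ← mul_assoc, h1, mul_assoc]
  refine Cfsg.Agent.H952.F4.Scott.fix_all (P := fun a => φ a * z = z * φ a) clos h1 hb ?_ ?_ ?_ a
  · rw [map_one, one_mul, mul_one]
  · intro a b ha hb
    rw [map_mul, mul_assoc, hb, ← mul_assoc, ha, mul_assoc]
  · intro a ha
    rw [map_inv]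
    rw [inv_mul_eq_iff_eq_mul, ← mul_assoc, ha, mul_assoc, mul_inv_cancel, mul_one]

/-- an involution of the maximal subgroup does not commute with an element of order 5 -/
theorem cen_five (hM : MaxAlt H 5 φ) {z : ↥(chevE7.group F)} (hz : z ∈ H) (hc : φ w0 * z = z * φ w0) (h2 : z * z = 1) :
    z = 1 := by
  obtain ⟨b, hb⟩ : ∃ b, φ b = z * φ a0 * z⁻¹ := hM.norm z hz _ ⟨a0, rfl⟩
  have hinj := hM.inj
  have hw : z * φ w0 * z⁻¹ = φ w0 := by rw [← hc, mul_inv_cancel_right]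
  have h3 : b * b = 1 := by
    apply hinj
    rw [map_mul, hb, map_one]
    have : z * φ a0 * z⁻¹ * (z * φ a0 * z⁻¹) = z * (φ a0 * φ a0) * z⁻¹ := by group
    rw [this, ← map_mul, a0_sq, map_one, mul_one, mul_inv_cancel]
  have h4 : b ≠ 1 := by
    rintro rfl
    rw [map_one] at hb
    apply a0_ne
    apply hinj
    have : φ a0 = z⁻¹ * (z * φ a0 * z⁻¹) * z := by group
    rw [this, ← hb, map_one]
    group
  have h5 : (b * w0) ^ 3 = 1 := by
    apply hinj
    rw [map_pow, map_mul, hb, map_one]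
    have e : z * φ a0 * z⁻¹ * φ w0 = z * (φ a0 * φ w0) * z⁻¹ := by
      conv_lhs => rw [← hw]
      group
    have e2 : a0 * w0 = b0 := by rw [w0, ← mul_assoc, a0_sq, one_mul]
    rw [e, ← map_mul, e2, conj_pow, ← map_pow, b0_cube, map_one, mul_one, mul_inv_cancel]
  obtain ⟨i, hi, hbi⟩ := orbit5 b h3 h4 h5
  have hci : ∀ i : ℕ, φ w0 ^ i * z = z * φ w0 ^ i := by
    intro i
    exact (Commute.pow_left (show Commute (φ w0) z from hc) i)
  have h6 : φ (w0 ^ i)⁻¹ * z = 1 := by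
    refine cen_gen hM ?_ ?_
    · have e1 : z * φ a0 = φ (w0 ^ i) * φ a0 * φ (w0 ^ i)⁻¹ * z := by
        have := hb
        rw [hbi, map_mul, map_mul] at this
        rw [this]
        group
      have e2 : φ (w0 ^ i)⁻¹ * z * φ a0 = φ a0 * φ (w0 ^ i)⁻¹ * z := by
        rw [mul_assoc, e1, map_inv]
        group
      rw [e2, mul_assoc]
    · have e1 : Commute (φ w0) (φ (w0 ^ i)⁻¹) := by
        rw [map_inv, map_pow]
        exact ((Commute.refl _).pow_right i).inv_right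
      exact (e1.mul_right (show Commute (φ w0) z from hc))
  have h7 : z = φ (w0 ^ i) := by
    rw [map_inv, inv_mul_eq_one] at h6
    exact h6.symm
  have h8 : w0 ^ i * w0 ^ i = 1 := by
    apply hinj
    rw [map_mul, ← h7, h2, map_one]
  rw [h7, sq_one i hi h8, map_one]

end

end Cfsg.Agent.R2.T1.Five

private theorem dce_a6cbe818d71f : _root_.True := by
  try have : _root_.True := by simp only [_root_.Cfsg.Agent.R2.T1.Five.w0.eq_1]
  exact _root_.True.intro
end

-- part: R2/T1/Mu2/Ts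
section
prune_inst 0x7f01c2051402500000000180512a0000620280000020048800008c003060e41c4622803a121ba301014021880c4600000400000002000280000000004000118018010815206b349a000600096000000000000000000000000000000000000000004000000000
set_option linter.all false
open scoped Cfsg.Agent.FastGrp

-- part: R2/T1/Mu2/Nf
section
/-!
# The quadratic moment map, every characteristic: normal form of singular vectors (helper24)

* `sing_eq` : a singular vector with a non-zero coordinate at `m` and zero coordinates at the neighbours of `m` is `x m • bs m`;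
* `nf` : a singular vector `x` with `x m ≠ 0` is `x m • V F g (bs F m)`, `g` fixing the weight vectors `n` with
  `p2 n m = -1`, `x (op n) = 0`;
* `orth_bs` : vectors orthogonal to `bs m` for the polar form.
-/

set_option autoImplicit false
set_option maxRecDepth 100000

namespace Cfsg.Agent.R2.T1.Mu2

open Cfsg Cfsg.Lie Matrix
open Cfsg.Agent.R2.T1 Cfsg.Agent.R2.PX
open Cfsg.Agent.ChevalleyStructure.Elts Cfsg.Agent.ChevalleyStructure.RootVec
  Cfsg.Agent.ChevalleyStructure.RootVecTab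
open Cfsg.Agent.H943.E7V.Block (D1 rho)

universe u
variable {F : Type u} [Field F]

theorem bs_same (a : D1) : bs F a a = 1 := by rw [bs, Pi.single_eq_same]
theorem bs_ne {a b : D1} (h : b ≠ a) : bs F a b = 0 := by rw [bs, Pi.single_eq_of_ne h]

/-- the half-form vanishes if the support is totally isotropic -/
theorem hq_zero {N : Matrix D1 D1 F} {y : D1 → F} (h : ∀ a b, y a ≠ 0 → y b ≠ 0 → a ≠ b → (JM F * N) a b = 0) : hq N y = 0 := by
  unfold hq
  refine Finset.sum_eq_zero fun a _ => Finset.sum_eq_zero fun b _ => ?_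
  split_ifs with hab
  · by_cases ha : y a = 0
    · rw [ha]; ring
    by_cases hb : y b = 0
    · rw [hb]; ring
    rw [h a b ha hb (ne_of_lt hab)]; ring
  · rfl

theorem JM_mul_apply (N : Matrix D1 D1 F) (a b : D1) : (JM F * N) a b = ((ep a : ℤ) : F) * N (op a) b := by
  rw [Matrix.mul_apply, Finset.sum_eq_single (op a)]
  · show (if op a = op a then ((ep a : ℤ) : F) else 0) * _ = _
    rw [if_pos rfl]
  · intro c _ hc
    show (if c = op a then ((ep a : ℤ) : F) else 0) * _ = _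
    rw [if_neg hc, zero_mul]
  · intro h; exact absurd (Finset.mem_univ _) h

/-- the entries of the root vectors -/
theorem JM_NM_ne {r : ℕ} {a b : D1} (h : (JM F * NM F r) a b ≠ 0) : ∃ c, mv r (nn b) = some (nn (op a), c) := by
  rw [JM_mul_apply] at h
  have h1 : nz r (op a) b ≠ 0 := by
    intro h0
    apply h
    show _ * ((nz r (op a) b : ℤ) : F) = 0
    rw [h0, Int.cast_zero, mul_zero]
  obtain ⟨c, h2, -⟩ := nz_ne h1
  exact ⟨c, h2⟩

theorem hq_bs (N : Matrix D1 D1 F) (m : D1) (c : F) : hq N (c • bs F m) = 0 := by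
  refine hq_zero fun a b ha hb hab => ?_
  exfalso
  apply hab
  have h : ∀ d, (c • bs F m) d ≠ 0 → d = m := by
    intro d hd
    by_contra hne
    exact hd (by rw [Pi.smul_apply, bs_ne hne, smul_zero])
  rw [h a ha, h b hb]

theorem sing_bs (m : D1) (c : F) : Sing (c • bs F m) := LinearMap.ext fun z => hq_bs _ m c

/-- some simple coroot is `±1` at every weight -/
theorem exists_cart : (W56.all fun s => (List.range 7).any fun i => decide (chevE8.cartan i s * chevE8.cartan i s = 1)) = true := by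
  decide +kernel

theorem cart_one (m : D1) : ∃ i < 7, chevE8.cartan i (nn m) * chevE8.cartan i (nn m) = 1 := by
  have h := List.all_eq_true.1 exists_cart _ (nn_mem m)
  rw [List.any_eq_true] at h
  obtain ⟨i, hi, h1⟩ := h
  exact ⟨i, List.mem_range.1 hi, of_decide_eq_true h1⟩

theorem Hi_bs (i : ℕ) (m : D1) : Hi F i *ᵥ bs F m = ((chevE8.cartan i (nn m) : ℤ) : F) • bs F m := by
  rw [Hi, diag_bs]

/-- the vectors orthogonal to `bs m` for the polar form of the moment map -/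
theorem orth_bs {m : D1} {y : D1 → F} (h : ∀ z, sf F y (del F z *ᵥ bs F m) = 0) :
    (∀ a, p2 a m = -1 → y a = 0) ∧ y (op m) = 0 := by
  constructor
  · intro a ha
    have h1 : p2 (op a) m = 1 := by rw [p2_op, ha]; rfl
    obtain ⟨r, hr, c, hm, hc⟩ := exists_mv h1
    have h2 := h (Pi.single (Sum.inr ⟨r, hr⟩) 1)
    rw [del_inr] at h2
    change sf F y (NM F r *ᵥ bs F m) = 0 at h2
    rw [NM_bs_some hm, map_smul, smul_eq_mul, sf_swap, sf_single, op_op] at h2
    have h3 := (mul_eq_zero.1 h2).resolve_left (cast_ne hc)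
    exact (mul_eq_zero.1 (neg_eq_zero.1 h3)).resolve_left (cast_ne (ep_sq _))
  · obtain ⟨i, hi, h1⟩ := cart_one m
    have h2 := h (Pi.single (Sum.inl ⟨i, hi⟩) 1)
    rw [del_inl] at h2
    change sf F y (Hi F i *ᵥ bs F m) = 0 at h2
    rw [Hi_bs, map_smul, smul_eq_mul, sf_swap, sf_single] at h2
    have h3 := (mul_eq_zero.1 h2).resolve_left (cast_ne h1)
    exact (mul_eq_zero.1 (neg_eq_zero.1 h3)).resolve_left (cast_ne (ep_sq _))

/-- a singular vector with a non-zero coordinate at `m` and zero coordinates at the neighbours of `m` -/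
theorem sing_eq {m : D1} {x : D1 → F} (hx : Sing x) (hm : x m ≠ 0) (h0 : ∀ n, p2 n m = 1 → x n = 0) : x = x m • bs F m := by
  set w : D1 → F := x - x m • bs F m with hw
  have hxw : x = x m • bs F m + w := by rw [hw]; abel
  have hwm : w m = 0 := by rw [hw, Pi.sub_apply, Pi.smul_apply, bs_same, smul_eq_mul, mul_one, sub_self]
  have hwne : ∀ a, a ≠ m → w a = x a := by
    intro a ha
    rw [hw, Pi.sub_apply, Pi.smul_apply, bs_ne ha, smul_zero, sub_zero]
  have hw1 : ∀ a, w a ≠ 0 → p2 a m = -1 ∨ p2 a m = -3 := by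
    intro a ha
    rcases p2_cases a m with h | h | h | h
    · exact absurd (by rw [p2_eq_three.1 h]; exact hwm) ha
    · have hne : a ≠ m := by rintro rfl; rw [p2_self] at h; omega
      exact absurd (by rw [hwne a hne]; exact h0 a h) ha
    · exact Or.inl h
    · exact Or.inr h
  -- the root part
  have key1 : ∀ b, p2 b m = -1 → w b = 0 := by
    intro b hb
    have h1 : p2 (op b) m = 1 := by rw [p2_op, hb]; rfl
    obtain ⟨r, hr, c, hmv, hc⟩ := exists_mv h1
    have h2 : Mu F x (Pi.single (Sum.inr ⟨r, hr⟩) 1) = 0 := by rw [hx]; rfl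
    rw [Mu_apply, del_inr] at h2
    change hq (NM F r) x = 0 at h2
    have hsk : Sk (NM F r) := (SkZ_NZ hr).sk
    rw [hxw, hq_add hsk, hq_bs, zero_add, Matrix.mulVec_smul, NM_bs_some hmv, map_smul, map_smul, sf_swap, sf_single,
      op_op, smul_eq_mul, smul_eq_mul] at h2
    have h3 : hq (NM F r) w = 0 := by
      refine hq_zero fun a b' ha hb' hab => ?_
      by_contra hne
      obtain ⟨d, h4⟩ := JM_NM_ne hne
      have h5 := Tr.grade hr hmv h4
      rw [p2_op] at h5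
      rcases hw1 a ha with h6 | h6 <;> rcases hw1 b' hb' with h7 | h7 <;> omega
    rw [h3, zero_add] at h2
    have h4 := (mul_eq_zero.1 ((mul_eq_zero.1 h2).resolve_left hm)).resolve_left (cast_ne hc)
    exact (mul_eq_zero.1 (neg_eq_zero.1 h4)).resolve_left (cast_ne (ep_sq _))
  have hw3 : ∀ a, w a ≠ 0 → a = op m := by
    intro a ha
    rcases hw1 a ha with h | h
    · exact absurd (key1 a h) ha
    · rw [p2_comm] at h
      exact p2_eq_neg_three.1 h
  have key2 : w (op m) = 0 := by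
    obtain ⟨i, hi, h1⟩ := cart_one m
    have h2 : Mu F x (Pi.single (Sum.inl ⟨i, hi⟩) 1) = 0 := by rw [hx]; rfl
    rw [Mu_apply, del_inl] at h2
    change hq (Hi F i) x = 0 at h2
    have hsk : Sk (Hi F i) := by rw [← ct_HZ]; exact (SkZ_HZ hi).sk
    rw [hxw, hq_add hsk, hq_bs, zero_add, Matrix.mulVec_smul, Hi_bs, map_smul, map_smul, sf_swap, sf_single,
      smul_eq_mul, smul_eq_mul] at h2
    have h3 : hq (Hi F i) w = 0 := by
      refine hq_zero fun a b' ha hb' hab => ?_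
      exfalso
      apply hab
      rw [hw3 a ha, hw3 b' hb']
    rw [h3, zero_add] at h2
    have h4 := (mul_eq_zero.1 ((mul_eq_zero.1 h2).resolve_left hm)).resolve_left (cast_ne h1)
    exact (mul_eq_zero.1 (neg_eq_zero.1 h4)).resolve_left (cast_ne (ep_sq _))
  have hw0 : w = 0 := by
    funext a
    by_contra hne
    apply hne
    rw [hw3 a hne]
    exact key2
  rw [hw0, add_zero] at hxw
  exact hxw

/-- **normal form, with the element in a given subgroup** -/
theorem nf_mem (P : Subgroup (Gh F)) {m : D1} {x : D1 → F} (hx : Sing x) (hm : x m ≠ 0)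
    (hP : ∀ n, x n ≠ 0 → ∀ r < 126, ∀ c, mv r (nn m) = some (nn n, c) → ∀ t, xs F r t ∈ P) :
    ∃ g ∈ P, x = x m • V F g (bs F m) := by
  classical
  obtain ⟨g, hg, h1, h2, h3⟩ := Tr.clear P m hm (Finset.univ.filter fun n => p2 n m = 1 ∧ x n ≠ 0) (fun n hn => by
    obtain ⟨-, h4, h5⟩ := Finset.mem_filter.1 hn
    exact ⟨h4, hP n h5⟩)
  refine ⟨g⁻¹, P.inv_mem hg, ?_⟩
  have h4 : V F g x = x m • bs F m := by
    rw [← h1]
    refine sing_eq (hx.V g) (by rw [h1]; exact hm) fun n hn => ?_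
    by_cases h5 : x n = 0
    · rw [h3 n (fun h6 => (Finset.mem_filter.1 h6).2.2 h5) hn, h5]
    · exact h2 n (Finset.mem_filter.2 ⟨Finset.mem_univ _, hn, h5⟩)
  rw [← map_smul, ← h4, V_inv]

/-- **normal form of singular vectors** -/
theorem nf {m : D1} {x : D1 → F} (hx : Sing x) (hm : x m ≠ 0) :
    ∃ g : Gh F, x = x m • V F g (bs F m) ∧ ∀ n, p2 n m = -1 → x (op n) = 0 → V F g (bs F n) = bs F n := by
  let P : Subgroup (Gh F) :=
    { carrier := {g | ∀ n, p2 n m = -1 → x (op n) = 0 → V F g (bs F n) = bs F n}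
      one_mem' := fun n _ _ => V_one _
      mul_mem' := by
        intro a b ha hb n h1 h2
        rw [V_mul, hb n h1 h2, ha n h1 h2]
      inv_mem' := by
        intro a ha n h1 h2
        have h3 := V_inv a (bs F n)
        rwa [ha n h1 h2] at h3 }
  obtain ⟨g, hg, h⟩ := nf_mem P hx hm (fun n hn r hr c hmv t k h1 h2 => by
    rw [V_xs hr]
    rcases mv_spec hr k with h3 | ⟨a, d, h3, -⟩
    · have h3' := NM_bs_none (F := F) h3
      rw [h3', smul_zero, add_zero]
    · exfalso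
      have h4 := Tr.grade hr hmv h3
      have h5 : p2 m a = -3 := by rw [p2_comm]; omega
      have h6 := p2_eq_neg_three.1 h5
      rw [h6] at h3
      have h7 := mv_op hr h3
      rw [op_op, hmv, Option.some.injEq, Prod.mk.injEq] at h7
      apply hn
      rw [nn_inj h7.1]
      exact h2)
  exact ⟨g, h, hg⟩

end Cfsg.Agent.R2.T1.Mu2
end

-- part: R2/T1/Mu2/Ts
section
/-!
# The quadratic moment map: totally singular subspaces are not stable under small maximal subgroups (helper24)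

* `ts` : `H` maximal, `|H| < q ^ 27`, `W ≠ ⊥` stable under `H`, all elements of `W` singular: contradiction;
* `fix_zero` : a linear functional on the adjoint module which is invariant under `Gh F` vanishes;
* `func_zero` : an `H`-invariant functional `Mu F x` vanishes (`H` maximal, `4 |H| < q ^ 76`).
-/

set_option autoImplicit false
set_option maxRecDepth 100000

namespace Cfsg.Agent.R2.T1.Mu2

open Cfsg Cfsg.Lie Matrix Module
open Cfsg.Agent.R2.T1 Cfsg.Agent.R2.PX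
open Cfsg.Agent.ChevalleyStructure.Elts Cfsg.Agent.ChevalleyStructure.RootVec
  Cfsg.Agent.ChevalleyStructure.RootVecTab
open Cfsg.Agent.H943.E7V.Block (D1 rho)

universe u
variable {F : Type u} [Field F] {H : Subgroup ↥(chevE7.group F)}

/-- the neighbours of the lowest weight -/
def Nb : Type := {n : D1 // p2 n (op topv) = 1}

theorem chkNb : ((Comb.CT.filter fun e => Comb.vv e (Comb.ent 238) == -1).length) = 27 := by decide +kernel

noncomputable instance : Fintype Nb := by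
  unfold Nb
  exact Fintype.ofInjective (fun x => x.1) Subtype.val_injective

theorem nodup_CT : (Comb.CT.map fun e => e.1).Nodup := by decide +kernel

theorem card_Nb : 27 ≤ Fintype.card Nb := by
  classical
  set L := Comb.CT.filter fun e => Comb.vv e (Comb.ent 238) == -1 with hL
  have hex : ∀ e ∈ L, ∃ n : Nb, nn n.1 = e.1 := by
    intro e he
    obtain ⟨h1, h2⟩ := List.mem_filter.1 he
    have hs : rt chevE8 e.1 7 = 1 ∧ e.1 < 240 := by
      have : ∀ e ∈ Comb.CT, rt chevE8 e.1 7 = 1 ∧ e.1 < 240 := by decide +kernel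
      exact this e h1
    refine ⟨⟨⟨⟨e.1, hs.2⟩, hs.1⟩, ?_⟩, rfl⟩
    rw [p2_op', Comb.p2_eq_vv h1 (Comb.ent_nn topv).1 rfl (Comb.ent_nn topv).2]
    rw [beq_iff_eq] at h2
    have h3 : Comb.vv e (Comb.ent (nn topv)) = -1 := h2
    rw [h3]; rfl
  have hnd : (L.map fun e => e.1).Nodup := List.Sublist.nodup (List.Sublist.map _ List.filter_sublist) nodup_CT
  have hlen : (L.map fun e => e.1).length = 27 := by rw [List.length_map]; exact chkNb
  have hsub : ∀ k ∈ L.map (fun e => e.1), k ∈ (Finset.univ : Finset Nb).image fun n => nn n.1 := by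
    intro k hk
    obtain ⟨e, he, rfl⟩ := List.mem_map.1 hk
    obtain ⟨n, hn⟩ := hex e he
    exact Finset.mem_image.2 ⟨n, Finset.mem_univ _, hn⟩
  calc 27 = (L.map fun e => e.1).toFinset.card := by rw [List.toFinset_card_of_nodup hnd, hlen]
    _ ≤ ((Finset.univ : Finset Nb).image fun n => nn n.1).card := Finset.card_le_card fun k hk => hsub k (List.mem_toFinset.1 hk)
    _ ≤ (Finset.univ : Finset Nb).card := Finset.card_image_le
    _ = Fintype.card Nb := rfl

/-- polar form on a space of singular vectors -/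
theorem polar_zero {W : Submodule F (D1 → F)} (hs : ∀ x ∈ W, Sing x) {x y : D1 → F} (hx : x ∈ W) (hy : y ∈ W)
    (z : chevE7.Idx → F) : sf F y (del F z *ᵥ x) = 0 := by
  have h := Mu_add x y z
  have h1 : Mu F (x + y) = 0 := hs _ (add_mem hx hy)
  have h2 : Mu F x = 0 := hs _ hx
  have h3 : Mu F y = 0 := hs _ hy
  rw [h1, h2, h3, LinearMap.zero_apply, zero_add, zero_add] at h
  exact h.symm

/-- the unipotent group of the lowest weight vector, abstractly -/
def QQ (F : Type u) [Field F] : Subgroup (Gh F) where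
  carrier := {u | ∀ y, V F u y (op topv) = y (op topv) ∧ (y (op topv) = 0 → ∀ n, p2 n (op topv) = 1 → V F u y n = y n)}
  one_mem' := fun y => by rw [V_one]; exact ⟨rfl, fun _ _ _ => rfl⟩
  mul_mem' := by
    intro a b ha hb y
    rw [V_mul]
    refine ⟨by rw [(ha _).1, (hb _).1], fun h n hn => ?_⟩
    rw [(ha _).2 (by rw [(hb _).1, h]) n hn, (hb _).2 h n hn]
  inv_mem' := by
    intro a ha y
    have h1 := ha (V F a⁻¹ y)
    rw [V_inv'] at h1
    refine ⟨h1.1.symm, fun h n hn => ?_⟩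
    rw [← h1.1] at *
    exact (h1.2 h n hn).symm

theorem mem_QQ {u : Gh F} : u ∈ QQ F ↔ ∀ y, V F u y (op topv) = y (op topv) ∧
    (y (op topv) = 0 → ∀ n, p2 n (op topv) = 1 → V F u y n = y n) := Iff.rfl

theorem xs_QQ {r : ℕ} (hr : r < 126) {n : D1} {c : ℤ} (h : mv r (nn (op topv)) = some (nn n, c)) (t : F) : xs F r t ∈ QQ F := by
  rw [mem_QQ]
  intro y
  refine ⟨Tr.V_coord_ne hr (fun b d hb => ?_) t, fun h0 a ha => Tr.V_coord_ne hr (fun b d hb => ?_) t⟩
  · have h1 := Tr.grade hr h hb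
    rw [p2_self] at h1
    rcases p2_cases b (op topv) with h2 | h2 | h2 | h2 <;> omega
  · have h1 := Tr.grade hr h hb
    rw [ha] at h1
    rw [p2_eq_three.1 (by omega : p2 b (op topv) = 3)]
    exact h0

/-- **totally singular subspaces** -/
theorem ts [Finite F] (hM : IsCoatom H) (hcard : Nat.card ↥H < Nat.card F ^ 27) {W : Submodule F (D1 → F)}
    (hW : Stab (V F) H W) (h0 : W ≠ ⊥) (hs : ∀ x ∈ W, Sing x) : False := by
  classical
  obtain ⟨x, hx, hx0⟩ := Submodule.exists_mem_ne_zero_of_ne_bot h0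
  obtain ⟨g0, hg0⟩ := Tr.exists_coord hx0 topv
  obtain ⟨g1, hg1, -⟩ := nf ((hs x hx).V g0) hg0
  -- the conjugate of `W`
  set g : Gh F := g0⁻¹ * g1 with hg
  have hgx : x = (V F g0 x topv) • V F g (bs F topv) := by
    rw [hg, V_mul, ← map_smul, ← hg1, V_inv]
  have hmem : V F g (bs F topv) ∈ W := by
    have h2 : V F g (bs F topv) = (V F g0 x topv)⁻¹ • x := by
      rw [eq_inv_smul_iff₀ hg0]; exact hgx.symm
    rw [h2]
    exact W.smul_mem _ hx
  have hsupp : ∀ y, V F g y ∈ W → (∀ a, p2 a topv = -1 → y a = 0) ∧ y (op topv) = 0 := by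
    intro y hy
    apply orth_bs
    intro z
    have hs' : ∀ w, V F g w ∈ W → Sing w := fun w hw => sing_V.1 (hs _ hw)
    exact polar_zero (W := W.comap (V F g)) (fun w hw => hs' w hw) (x := bs F topv) (y := y) hmem hy z
  have hWtop : W ≠ ⊤ := by
    intro h
    have h1 := (hsupp (bs F (op topv)) (by rw [h]; trivial)).2
    rw [bs_same] at h1
    exact one_ne_zero h1
  -- the root groups
  have hroot : ∀ r < 126, ∀ (n : D1) (c : ℤ), mv r (nn (op topv)) = some (nn n, c) → ∀ t : F,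
      ad F (g * xs F r t * g⁻¹) ∈ H := by
    intro r hr n c hmv t
    refine blue hM hW h0 hWtop fun w hw => ?_
    rw [V_mul, V_mul]
    have hw' : V F g (V F g⁻¹ w) ∈ W := by rw [V_inv']; exact hw
    obtain ⟨s1, s2⟩ := hsupp _ hw'
    set y := V F g⁻¹ w with hy
    rw [V_xs hr, map_add, map_smul]
    refine W.add_mem hw' (W.smul_mem _ ?_)
    -- the image is a multiple of the highest weight vector
    have h1 : NM F r *ᵥ y = ((NM F r *ᵥ y) topv) • bs F topv := by
      funext a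
      by_cases ha : a = topv
      · rw [ha, Pi.smul_apply, bs_same, smul_eq_mul, mul_one]
      · rw [Pi.smul_apply, bs_ne ha, smul_zero]
        by_contra hne
        obtain ⟨b, d, h2, h3⟩ := NM_mulVec_ne hne
        have h4 := Tr.grade hr hmv h2
        rw [p2_op', p2_op'] at h4
        rcases p2_cases b topv with h5 | h5 | h5 | h5
        · rcases p2_cases a topv with h6 | h6 | h6 | h6 <;> omega
        · exact ha (p2_eq_three.1 (by omega))
        · exact h3 (s1 b h5)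
        · rw [p2_comm] at h5
          rw [p2_eq_neg_three.1 h5] at h3
          exact h3 s2
    rw [h1, map_smul]
    exact W.smul_mem _ hmem
  -- counting
  let P : Subgroup (Gh F) := QQ F ⊓ H.comap ((ad F).comp (MulAut.conj g).toMonoidHom)
  have hPm : ∀ n : D1, p2 n (op topv) = 1 → ∀ r < 126, ∀ c, mv r (nn (op topv)) = some (nn n, c) → ∀ t : F, xs F r t ∈ P := by
    intro n _ r hr c hmv t
    exact ⟨xs_QQ hr hmv t, hroot r hr n c hmv t⟩
  let vec : (Nb → F) → (D1 → F) := fun c a => if h : p2 a (op topv) = 1 then c ⟨a, h⟩ else if a = op topv then 1 else 0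
  have hv1 : ∀ c, vec c (op topv) = 1 := by
    intro c
    have : p2 (op topv) (op topv) ≠ 1 := by rw [p2_self]; omega
    simp only [vec]
    rw [dif_neg this]
    simp
  have hv2 : ∀ c (n : Nb), vec c n.1 = c n := by
    intro c n
    simp only [vec]
    rw [dif_pos n.2]
    rfl
  have hex : ∀ c : Nb → F, ∃ u ∈ P, V F u (vec c) (op topv) = 1 ∧ ∀ n : Nb, V F u (vec c) n.1 = 0 := by
    intro c
    obtain ⟨u, hu, h1, h2, -⟩ := Tr.clear P (op topv) (x := vec c) (by rw [hv1]; exact one_ne_zero)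
      (Finset.univ.filter fun n => p2 n (op topv) = 1) (fun n hn => ⟨(Finset.mem_filter.1 hn).2, hPm n (Finset.mem_filter.1 hn).2⟩)
    exact ⟨u, hu, by rw [h1, hv1], fun n => h2 n.1 (Finset.mem_filter.2 ⟨Finset.mem_univ _, n.2⟩)⟩
  choose u hu hu1 hu2 using hex
  have huH : ∀ c, ad F (g * u c * g⁻¹) ∈ H := fun c => (hu c).2
  have hinj : Function.Injective fun c : Nb → F => (⟨ad F (g * u c * g⁻¹), huH c⟩ : ↥H) := by
    intro c c' hcc
    have h1 : ad F (g * u c * g⁻¹) = ad F (g * u c' * g⁻¹) := congrArg Subtype.val hcc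
    have he : ∀ v : Gh F, ad F v = (ad F g)⁻¹ * ad F (g * v * g⁻¹) * ad F g := by
      intro v
      rw [← map_inv, ← map_mul, ← map_mul]
      congr 1
      group
    have h2 : ad F (u c) = ad F (u c') := by rw [he (u c), h1, ← he]
    have h3 : ∀ y, V F (u c) y = V F (u c') y := by
      rcases ad_eq_iff.1 h2 with h3 | h3
      · intro y; rw [h3]
      · -- characteristic 2
        have e1 := (mem_QQ.1 (hu c).1 (bs F (op topv))).1
        have e2 := (mem_QQ.1 (hu c').1 (bs F (op topv))).1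
        rw [h3, LinearMap.neg_apply, Pi.neg_apply, e2, bs_same] at e1
        have e3 : (2 : F) = 0 := by linear_combination -e1
        intro y
        rw [h3, LinearMap.neg_apply]
        funext a
        rw [Pi.neg_apply]
        linear_combination (-(V F (u c') y a)) * e3
    funext n
    have h4 : V F (u c) (vec c - vec c') n.1 = 0 := by
      rw [map_sub, Pi.sub_apply, hu2, h3, hu2, sub_zero]
    rw [(mem_QQ.1 (hu c).1 (vec c - vec c')).2 (by rw [Pi.sub_apply, hv1, hv1, sub_self]) n.1 n.2, Pi.sub_apply, hv2, hv2] at h4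
    exact sub_eq_zero.1 h4
  have h1 := Nat.card_le_card_of_injective _ hinj
  have h2 : Nat.card F ^ 27 ≤ Nat.card (Nb → F) := by
    rw [Nat.card_fun, Nat.card_eq_fintype_card (α := Nb)]
    exact Nat.pow_le_pow_right (by have := two_le_card (F := F); omega) card_Nb
  omega

end Cfsg.Agent.R2.T1.Mu2
end
end

-- part: R2/PX/Conf
section
set_option linter.all false

/-!
# Pattern X: configurations (helper3)

`Config F ψ v` : eight pure vectors permuted by `A_8`, with sum 0, pairwise orthogonal, with `(v₀, D(v₁, v₂) v₃) ≠ 0`.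
-/

set_option autoImplicit false

namespace Cfsg.Agent.R2.PX

open Cfsg Cfsg.Lie Module Matrix
open Cfsg.Agent.H943.E7V.Block (D1 rho)
open Cfsg.Agent.R2.T1

universe u

/-- the configurations of pattern X -/
structure Config (F : Type u) [Field F] (ψ : ↥(alternatingGroup (Fin 8)) →* Gh F) (v : Fin 8 → D1 → F) : Prop where
  act : ∀ (p : ↥(alternatingGroup (Fin 8))) (i : Fin 8), V F (ψ p) (v i) = v ((p : Equiv.Perm (Fin 8)) i)
  sum : ∑ i, v i = 0
  pure : ∀ i, Pure F (v i)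
  iso : ∀ i j, sf F (v i) (v j) = 0
  ne : sf F (v 0) (DD F (v 1) (v 2) *ᵥ v 3) ≠ 0

end Cfsg.Agent.R2.PX
end

-- part: R2/T1/Pat2/A5
section
set_option linter.all false
open scoped Cfsg.Agent.FastGrp

/-!
# T1, PAT2 (helper26): `dim M^{Z₅} ≤ dim M^{Z₃}` for `A₅` in characteristic 2

In `F₂[A₅]`: `e₅ e₃ e₅ = e₅`, `e₅`, `e₃` the sums of the elements of the subgroups generated by `(01234)`, `(012)`; also for
`(01234)`, `(012)(354)`.
-/

set_option autoImplicit false

namespace Cfsg.Agent.R2.T1.Pat2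

open Equiv Equiv.Perm Module
open Cfsg.Agent.R2.T1.Odd
open Cfsg.Agent.H952.F4 (ev es)

section gen
variable {F : Type*} [Field F] {W : Type*} [AddCommGroup W] [Module F W]

/-- the abstract certificate -/
theorem fix_le [FiniteDimensional F W] {A B SA SB : End F W} {U : Submodule F W} (hU : ∀ u ∈ U, SB u ∈ U)
    (hA : ∀ w, A w = w → SA w = w) (hB : ∀ w, B (SB w) = SB w) (h : ∀ w, SA (SB (SA w)) = SA w) :
    finrank F ↥(Module.End.eigenspace A 1 ⊓ U) ≤ finrank F ↥(Module.End.eigenspace B 1 ⊓ U) := by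
  have hmem : ∀ w : ↥(Module.End.eigenspace A 1 ⊓ U), SB w ∈ Module.End.eigenspace B 1 ⊓ U := by
    intro w
    refine ⟨?_, hU _ w.2.2⟩
    show SB w ∈ Module.End.eigenspace B 1
    rw [Module.End.mem_eigenspace_iff, one_smul]
    exact hB _
  let f : ↥(Module.End.eigenspace A 1 ⊓ U) →ₗ[F] ↥(Module.End.eigenspace B 1 ⊓ U) :=
    (SB.comp (Module.End.eigenspace A 1 ⊓ U).subtype).codRestrict _ hmem
  refine LinearMap.finrank_le_finrank_of_injective (f := f) ?_
  rw [← LinearMap.ker_eq_bot, eq_bot_iff]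
  intro w hw
  have h1 : SB (w : W) = 0 := congrArg Subtype.val (LinearMap.mem_ker.1 hw)
  have h2 : A (w : W) = w := by
    have h3 := Module.End.mem_eigenspace_iff.1 w.2.1
    rwa [one_smul] at h3
  have h3 := h w
  rw [hA _ h2, h1, map_zero] at h3
  rw [Submodule.mem_bot]
  exact Subtype.ext h3.symm

end gen

/-- the words of the powers -/
def pw (k : ℕ) (a : List (ℕ × ℕ)) : List (List (ℕ × ℕ)) := (List.range k).map fun i => (List.replicate i a).flatten

/-- products of lists of words -/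
def ml (A B : List (List (ℕ × ℕ))) : List (List (ℕ × ℕ)) := A.flatMap fun a => B.map fun b => a ++ b

/-- every code occurs an even number of times -/
def evn (m : ℕ) (L : List (List (ℕ × ℕ))) : Bool :=
  L.all (vl m) && L.all fun a => Nat.beq ((L.countP fun b => cd m b == cd m a) % 2) 0

section perm
variable {n m : ℕ} [NeZero n] {F : Type*} [Field F] {W : Type*} [AddCommGroup W] [Module F W]

/-- the sum of the operators -/
noncomputable def Sg (ρ : Representation F ↥(alternatingGroup (Fin n)) W) (A : List (List (ℕ × ℕ))) : End F W :=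
  (A.map fun a => ρ (P n a)).sum

theorem Sg_append (ρ : Representation F ↥(alternatingGroup (Fin n)) W) (A B : List (List (ℕ × ℕ))) :
    Sg ρ (A ++ B) = Sg ρ A + Sg ρ B := by
  unfold Sg
  rw [List.map_append, List.sum_append]

theorem Sg_ml (hm : m ≤ n) (ρ : Representation F ↥(alternatingGroup (Fin n)) W) {A B : List (List (ℕ × ℕ))}
    (hA : A.all (vl m) = true) (hB : B.all (vl m) = true) : Sg ρ (ml A B) = Sg ρ A * Sg ρ B := by
  induction A with
  | nil =>
    show (0 : End F W) = 0 * _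
    rw [zero_mul]
  | cons a A ih =>
    rw [List.all_cons, Bool.and_eq_true] at hA
    have h1 : ml (a :: A) B = (B.map fun b => a ++ b) ++ ml A B := rfl
    rw [h1, Sg_append, ih hA.2]
    have h2 : Sg ρ (B.map fun b => a ++ b) = ρ (P n a) * Sg ρ B := by
      unfold Sg
      rw [List.map_map, ← List.sum_map_mul_left]
      congr 1
      refine List.map_congr_left fun b hb => ?_
      rw [Function.comp_apply, P_append hm hA.1 (List.all_eq_true.1 hB b hb), map_mul]
    have h3 : Sg ρ (a :: A) = ρ (P n a) + Sg ρ A := by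
      unfold Sg
      rw [List.map_cons, List.sum_cons]
    rw [h2, h3, add_mul]

omit [NeZero n] in
theorem sum_zero_of_even {α M : Type*} [DecidableEq α] [AddCommMonoid M] (f : α → M) (hf : ∀ a, 2 • f a = 0)
    (L : List α) (h : ∀ a ∈ L, L.count a % 2 = 0) : (L.map f).sum = 0 := by
  rw [Finset.sum_list_map_count]
  refine Finset.sum_eq_zero fun x hx => ?_
  obtain ⟨k, hk⟩ := Nat.dvd_of_mod_eq_zero (h x (List.mem_toFinset.1 hx))
  rw [hk, mul_comm, mul_smul, hf, smul_zero]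

omit [NeZero n] in
theorem sum_zero_of_evenP {ι α M : Type*} [AddCommMonoid M] (f : α → M) (hf : ∀ a, 2 • f a = 0) (g : ι → α)
    (c : ι → ι → Bool) (L : List ι) (hc : ∀ a ∈ L, ∀ b ∈ L, (c b a = true ↔ g b = g a))
    (h : ∀ a ∈ L, (L.countP fun b => c b a) % 2 = 0) : (L.map fun a => f (g a)).sum = 0 := by
  classical
  have h1 : (L.map fun a => f (g a)) = (L.map g).map f := by
    rw [List.map_map]
    rfl
  rw [h1]
  refine sum_zero_of_even f hf _ fun x hx => ?_
  obtain ⟨a, ha, rfl⟩ := List.mem_map.1 hx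
  have h2 : List.count (g a) (L.map g) = L.countP fun b => c b a := by
    rw [List.count, List.countP_map]
    refine List.countP_congr fun b hb => ?_
    rw [hc a ha b hb, Function.comp_apply, beq_iff_eq]
  rw [h2]
  exact h a ha

/-- sums over words which cancel modulo 2 -/
theorem Sg_even (h2 : (2 : F) = 0) (hm : m ≤ n) (ρ : Representation F ↥(alternatingGroup (Fin n)) W)
    {L : List (List (ℕ × ℕ))} (h : evn m L = true) : Sg ρ L = 0 := by
  unfold evn at h
  rw [Bool.and_eq_true] at h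
  obtain ⟨hv, hc⟩ := h
  refine sum_zero_of_evenP (fun x => ρ x) (fun a => ?_) (fun a => P n a) (fun b a => cd m b == cd m a) L ?_ ?_
  · rw [← Nat.cast_smul_eq_nsmul F, Nat.cast_ofNat, h2, zero_smul]
  · intro a ha b hb
    rw [beq_iff_eq, P_eq_iff hm (List.all_eq_true.1 hv b hb) (List.all_eq_true.1 hv a ha)]
  · intro a ha
    exact Nat.eq_of_beq_eq_true (List.all_eq_true.1 hc a ha)

theorem add_self2 (h2 : (2 : F) = 0) (x : End F W) : x + x = 0 := by
  rw [← two_smul F x, h2, zero_smul]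

theorem eq_of_add2 (h2 : (2 : F) = 0) {x y : End F W} (h : x + y = 0) : x = y := by
  have h1 := add_self2 h2 y
  rw [← h1] at h
  exact add_right_cancel h

/-- the fixed points of `a` are fixed by the sum of its powers -/
theorem Sg_pw (h2 : (2 : F) = 0) (hm : m ≤ n) (ρ : Representation F ↥(alternatingGroup (Fin n)) W) {k : ℕ}
    (hk : k % 2 = 1) {a : List (ℕ × ℕ)} (ha : vl m a = true) {w : W} (hw : ρ (P n a) w = w) :
    Sg ρ (pw k a) w = w := by
  have hpow : ∀ i : ℕ, vl m (List.replicate i a).flatten = true ∧ ρ (P n (List.replicate i a).flatten) w = w := by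
    intro i
    induction i with
    | zero =>
      refine ⟨rfl, ?_⟩
      show ρ (P n []) w = w
      rw [P_nil, map_one]
      rfl
    | succ i ih =>
      rw [List.replicate_succ, List.flatten_cons]
      refine ⟨vl_append ha ih.1, ?_⟩
      rw [P_append hm ha ih.1, map_mul, Module.End.mul_apply, ih.2, hw]
  have h1 : ∀ k : ℕ, Sg ρ (pw k a) w = k • w := by
    intro k
    induction k with
    | zero => simp [Sg, pw]
    | succ k ih =>
      have h3 : pw (k + 1) a = pw k a ++ [(List.replicate k a).flatten] := by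
        unfold pw
        rw [List.range_succ, List.map_append]
        rfl
      rw [h3, Sg_append, LinearMap.add_apply, ih]
      have h4 : Sg ρ [(List.replicate k a).flatten] = ρ (P n (List.replicate k a).flatten) := by
        unfold Sg
        rw [List.map_cons, List.map_nil, List.sum_cons, List.sum_nil, add_zero]
      rw [h4, (hpow k).2, add_smul, one_smul]
  rw [h1]
  obtain ⟨j, hj⟩ : ∃ j, k = 2 * j + 1 := ⟨k / 2, by omega⟩
  rw [hj, add_smul, one_smul, mul_comm, mul_smul]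
  have h5 : (2 : ℕ) • w = 0 := by
    rw [← Nat.cast_smul_eq_nsmul F, Nat.cast_ofNat, h2, zero_smul]
  rw [h5, smul_zero, zero_add]

/-- the certificate -/
def cert (m k1 : ℕ) (a : List (ℕ × ℕ)) (k2 : ℕ) (b : List (ℕ × ℕ)) : Bool :=
  vl m a && vl m b && (pw k1 a).all (vl m) && (pw k2 b).all (vl m) && Nat.beq (k1 % 2) 1 &&
    evn m (ml (pw k1 a) (ml (pw k2 b) (pw k1 a)) ++ pw k1 a) && evn m (ml [b] (pw k2 b) ++ pw k2 b)

/-- **`e_a e_b e_a = e_a` implies `dim M^a ≤ dim M^b`** -/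
theorem le_of_cert [FiniteDimensional F W] (h2 : (2 : F) = 0) (hm : m ≤ n)
    (ρ : Representation F ↥(alternatingGroup (Fin n)) W) {k1 k2 : ℕ} {a b : List (ℕ × ℕ)}
    (h : cert m k1 a k2 b = true) (U : Submodule F W) (hU : ∀ u ∈ U, ρ (P n b) u ∈ U) :
    finrank F ↥(Module.End.eigenspace (ρ (P n a)) 1 ⊓ U) ≤ finrank F ↥(Module.End.eigenspace (ρ (P n b)) 1 ⊓ U) := by
  unfold cert at h
  simp only [Bool.and_eq_true] at h
  obtain ⟨⟨⟨⟨⟨⟨ha, hb⟩, hA⟩, hB⟩, hk⟩, h3⟩, h4⟩ := h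
  have hml : ∀ A B : List (List (ℕ × ℕ)), A.all (vl m) = true → B.all (vl m) = true → (ml A B).all (vl m) = true := by
    intro A B hA hB
    rw [List.all_eq_true] at *
    intro x hx
    obtain ⟨u, hu, hx⟩ := List.mem_flatMap.1 hx
    obtain ⟨v, hv, rfl⟩ := List.mem_map.1 hx
    exact vl_append (hA u hu) (hB v hv)
  have e1 : Sg ρ (pw k1 a) * (Sg ρ (pw k2 b) * Sg ρ (pw k1 a)) = Sg ρ (pw k1 a) := by
    have h5 := Sg_even h2 hm ρ h3
    rw [Sg_append, Sg_ml hm ρ hA (hml _ _ hB hA), Sg_ml hm ρ hB hA] at h5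
    exact eq_of_add2 h2 h5
  have e2 : ρ (P n b) * Sg ρ (pw k2 b) = Sg ρ (pw k2 b) := by
    have h5 := Sg_even h2 hm ρ h4
    rw [Sg_append, Sg_ml hm ρ (by simp [hb]) hB] at h5
    have h6 : Sg ρ [b] = ρ (P n b) := by
      unfold Sg
      rw [List.map_cons, List.map_nil, List.sum_cons, List.sum_nil, add_zero]
    rw [h6] at h5
    exact eq_of_add2 h2 h5
  refine fix_le (SA := Sg ρ (pw k1 a)) (SB := Sg ρ (pw k2 b)) ?_ ?_ ?_ ?_
  · -- `U` is stable
    have hpow : ∀ i : ℕ, vl m (List.replicate i b).flatten = true ∧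
        ∀ u ∈ U, ρ (P n (List.replicate i b).flatten) u ∈ U := by
      intro i
      induction i with
      | zero =>
        refine ⟨rfl, fun u hu => ?_⟩
        show ρ (P n []) u ∈ U
        rw [P_nil, map_one]
        exact hu
      | succ i ih =>
        rw [List.replicate_succ, List.flatten_cons]
        refine ⟨vl_append hb ih.1, fun u hu => ?_⟩
        rw [P_append hm hb ih.1, map_mul, Module.End.mul_apply]
        exact hU _ (ih.2 u hu)
    have hsum : ∀ L : List (List (ℕ × ℕ)), (∀ l ∈ L, ∀ u ∈ U, ρ (P n l) u ∈ U) → ∀ u ∈ U, Sg ρ L u ∈ U := by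
      intro L
      induction L with
      | nil =>
        intro _ u _
        show (0 : End F W) u ∈ U
        exact U.zero_mem
      | cons l L ih =>
        intro h5 u hu
        have h6 : Sg ρ (l :: L) = ρ (P n l) + Sg ρ L := by
          unfold Sg
          rw [List.map_cons, List.sum_cons]
        rw [h6, LinearMap.add_apply]
        exact U.add_mem (h5 l List.mem_cons_self u hu) (ih (fun l' hl' => h5 l' (List.mem_cons_of_mem _ hl')) u hu)
    refine hsum _ fun l hl => ?_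
    obtain ⟨i, -, rfl⟩ := List.mem_map.1 hl
    exact (hpow i).2
  · intro w hw
    exact Sg_pw h2 hm ρ (Nat.eq_of_beq_eq_true hk) ha hw
  · intro w
    rw [← Module.End.mul_apply, e2]
  · intro w
    rw [← Module.End.mul_apply, ← Module.End.mul_apply, mul_assoc, e1]

end perm

/-- `(0 1 2 3 4)` -/
def w5 : List (ℕ × ℕ) := [(0, 1), (1, 2), (2, 3), (3, 4)]
/-- `(0 1 2)` -/
def w3 : List (ℕ × ℕ) := [(0, 1), (1, 2)]
/-- `(0 1 2)(3 5 4)` -/
def w33 : List (ℕ × ℕ) := [(0, 1), (1, 2), (3, 5), (5, 4)]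
/-- `(5 6 7)` -/
def y3 : List (ℕ × ℕ) := [(5, 6), (6, 7)]

theorem cert3 : cert 5 5 w5 3 w3 = true := by decide +kernel
theorem cert33 : cert 6 5 w5 3 w33 = true := by decide +kernel

end Cfsg.Agent.R2.T1.Pat2

private theorem dce_52f9955ff8e7 : _root_.True := by
  try have : _root_.True := by simp only [_root_.Cfsg.Agent.R2.T1.Pat2.pw.eq_1]
  try have : _root_.True := by simp only [_root_.Cfsg.Agent.R2.T1.Pat2.Sg.eq_1]
  exact _root_.True.intro
end

-- part: R2/T1/B2/Ts2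
section
prune_inst 0xc2050403100000000000512a00006200800000000088000008003060e01c4200802a120ba10100402088084600800000000002000000000000004000118018010824202a3490000600096000000000000000000000000000000000000000004000000000
set_option linter.all false
open scoped Cfsg.Agent.FastGrp

/-!
# S5771, big2 (helper11): the 2-group version of `Mu2.ts`

* `ts2` : `H` maximal, characteristic 2, `2 ^ 27` does not divide `|H|`, `W ≠ ⊥` stable under `H`, all elements of `W`
  singular: contradiction.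
-/

set_option autoImplicit false
set_option maxRecDepth 100000

namespace Cfsg.Agent.R2.T1.B2

open Cfsg Cfsg.Lie Matrix Module
open Cfsg.Agent.R2.T1 Cfsg.Agent.R2.PX Cfsg.Agent.R2.T1.Mu2
open Cfsg.Agent.ChevalleyStructure.Elts Cfsg.Agent.ChevalleyStructure.RootVec
  Cfsg.Agent.ChevalleyStructure.RootVecTab
open Cfsg.Agent.H943.E7V.Block (D1 rho)

universe u
variable {F : Type u} [Field F] {H : Subgroup ↥(chevE7.group F)}

/-- two steps -/
theorem two_steps {r s : ℕ} (hr : r < 126) (hs : s < 126) {m n n' : D1} {c c' : ℤ} (h : mv r (nn m) = some (nn n, c))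
    (h' : mv s (nn m) = some (nn n', c')) {a b : D1} (hne : (NM F r *ᵥ (NM F s *ᵥ bs F b)) a ≠ 0) :
    p2 b m = p2 a m + 4 := by
  obtain ⟨b1, d1, e1, e2⟩ := NM_mulVec_ne hne
  obtain ⟨b2, d2, e3, e4⟩ := NM_mulVec_ne e2
  have hb : b2 = b := by
    by_contra h1
    exact e4 (bs_ne h1)
  subst hb
  have h1 := Tr.grade hr h e1
  have h2 := Tr.grade hs h' e3
  omega

/-- **the roots leading away from a weight commute** -/
theorem NM_comm_top {r s : ℕ} (hr : r < 126) (hs : s < 126) {m n n' : D1} {c c' : ℤ} (h : mv r (nn m) = some (nn n, c))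
    (h' : mv s (nn m) = some (nn n', c')) : NM F r * NM F s = NM F s * NM F r := by
  have hne : s ≠ 125 - r := by
    rintro rfl
    rcases wr_spec hr m with ⟨-, -, h3⟩ | ⟨-, h3, -⟩ | ⟨-, h3, -⟩
    · rw [h3] at h'; exact absurd h' (by simp)
    · rw [h3] at h; exact absurd h (by simp)
    · rw [h3] at h; exact absurd h (by simp)
  have hD := NM_comm (F := F) hr hs hne
  rw [← sub_eq_zero, hD]
  by_cases h0 : lk (PC.getD r 0) s = 0
  · exact csM_zero h0
  have hu : (lk (PC.getD r 0) s - 2) / 2 < 126 := by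
    rcases PC_spec hr hs with ⟨h1, -⟩ | ⟨-, -, h1, -⟩
    · exact absurd h1 h0
    · exact h1
  apply mat_ext
  intro b
  funext a
  rw [Matrix.zero_mulVec, Pi.zero_apply]
  by_contra hab
  -- the adjacency
  have h1 : p2 a b = 1 := by
    have h2 := hab
    rw [csM_ne h0, Matrix.smul_mulVec, Pi.smul_apply, smul_eq_mul] at h2
    obtain ⟨b', d, h3, h4⟩ := NM_mulVec_ne (right_ne_zero_of_mul h2)
    have hb : b' = b := by
      by_contra h5
      exact h4 (bs_ne h5)
    subst hb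
    exact p2_of_mv hu h3
  have h2 : p2 b m = p2 a m + 4 := by
    rw [← hD, Matrix.sub_mulVec, ← Matrix.mulVec_mulVec, ← Matrix.mulVec_mulVec, Pi.sub_apply] at hab
    by_cases h3 : (NM F r *ᵥ (NM F s *ᵥ bs F b)) a = 0
    · rw [h3, zero_sub] at hab
      exact two_steps hs hr h' h (fun h4 => hab (by rw [h4, neg_zero]))
    · exact two_steps hr hs h h' h3
  rcases p2_cases b m with h3 | h3 | h3 | h3
  · have h4 := p2_eq_three.1 h3
    subst h4
    omega
  · have h4 : p2 a m = -3 := by omega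
    have h5 : p2 m a = -3 := by rw [p2_comm]; exact h4
    have h6 := p2_eq_neg_three.1 h5
    rw [h6, p2_op, p2_comm] at h1
    omega
  · rcases p2_cases a m with h4 | h4 | h4 | h4 <;> omega
  · rcases p2_cases a m with h4 | h4 | h4 | h4 <;> omega

/-- the root elements leading away from `m` -/
def SS (F : Type u) [Field F] (m : D1) : Set (Gh F) :=
  {g | ∃ r < 126, ∃ (n : D1) (c : ℤ) (t : F), mv r (nn m) = some (nn n, c) ∧ g = xs F r t}

theorem SS_comm {m : D1} : ∀ x ∈ SS F m, ∀ y ∈ SS F m, x * y = y * x := by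
  rintro _ ⟨r, hr, n, c, t, h, rfl⟩ _ ⟨s, hs, n', c', t', h', rfl⟩
  apply V_injective
  refine LinearMap.ext fun v => ?_
  rw [V_mul, V_mul, V_xs hr, V_xs hs, V_xs hs, V_xs hr]
  have h1 := NM_comm_top (F := F) hr hs h h'
  have h2 : NM F r *ᵥ (NM F s *ᵥ v) = NM F s *ᵥ (NM F r *ᵥ v) := by
    rw [Matrix.mulVec_mulVec, Matrix.mulVec_mulVec, h1]
  rw [Matrix.mulVec_add, Matrix.mulVec_add, Matrix.mulVec_smul, Matrix.mulVec_smul, h2, smul_add, smul_add, smul_smul,
    smul_smul, mul_comm t t']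
  abel

theorem xs_sq2 (h2 : (2 : F) = 0) {r : ℕ} (hr : r < 126) (t : F) : xs F r t * xs F r t = 1 := by
  apply faithful
  refine LinearMap.ext fun v => ?_
  rw [V_mul, V_xs hr, V_xs hr, Module.End.one_apply]
  have h1 : NM F r *ᵥ (NM F r *ᵥ v) = 0 := by
    rw [Matrix.mulVec_mulVec, NM_mul_self hr, Matrix.zero_mulVec]
  rw [Matrix.mulVec_add, Matrix.mulVec_smul, h1, smul_zero, add_zero]
  funext a
  simp only [Pi.add_apply, Pi.smul_apply, smul_eq_mul]
  linear_combination (t * (NM F r *ᵥ v) a) * h2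

/-- the unipotent radical, characteristic 2 -/
theorem sq_one2 (h2 : (2 : F) = 0) {m : D1} {g : Gh F} (hg : g ∈ Subgroup.closure (SS F m)) : g * g = 1 := by
  have hc : IsMulCommutative (Subgroup.closure (SS F m)) := Subgroup.isMulCommutative_closure SS_comm
  induction hg using Subgroup.closure_induction with
  | mem x hx =>
    obtain ⟨r, hr, n, c, t, h, rfl⟩ := hx
    exact xs_sq2 h2 hr t
  | one => exact one_mul 1
  | mul x y hx hy h3 h4 =>
    have h5 : x * y = y * x := congrArg Subtype.val (hc.is_comm.comm ⟨x, hx⟩ ⟨y, hy⟩)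
    calc x * y * (x * y) = x * (y * x) * y := by simp only [mul_assoc]
      _ = x * (x * y) * y := by rw [h5]
      _ = (x * x) * (y * y) := by simp only [mul_assoc]
      _ = 1 := by rw [h3, h4, one_mul]
  | inv x hx h3 => rw [← _root_.mul_inv_rev, h3, inv_one]

theorem ad_inj (h2 : (2 : F) = 0) {g h : Gh F} (hgh : ad F g = ad F h) : g = h := by
  rcases ad_eq_iff.1 hgh with h1 | h1
  · exact h1
  · apply V_injective
    rw [h1]
    refine LinearMap.ext fun v => ?_
    rw [LinearMap.neg_apply]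
    funext a
    rw [Pi.neg_apply]
    linear_combination (-(V F h v a)) * h2

/-- **totally singular subspaces, characteristic 2** -/
theorem ts2 [Finite F] (hF2 : (2 : F) = 0) (hM : IsCoatom H) (hd : ¬ 2 ^ 27 ∣ Nat.card ↥H)
    {W : Submodule F (D1 → F)} (hW : Stab (V F) H W) (h0 : W ≠ ⊥) (hs : ∀ x ∈ W, Sing x) : False := by
  classical
  obtain ⟨x, hx, hx0⟩ := Submodule.exists_mem_ne_zero_of_ne_bot h0
  obtain ⟨g0, hg0⟩ := Tr.exists_coord hx0 topv
  obtain ⟨g1, hg1, -⟩ := nf ((hs x hx).V g0) hg0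
  -- the conjugate of `W`
  set g : Gh F := g0⁻¹ * g1 with hg
  have hgx : x = (V F g0 x topv) • V F g (bs F topv) := by
    rw [hg, V_mul, ← map_smul, ← hg1, V_inv]
  have hmem : V F g (bs F topv) ∈ W := by
    have h2 : V F g (bs F topv) = (V F g0 x topv)⁻¹ • x := by
      rw [eq_inv_smul_iff₀ hg0]; exact hgx.symm
    rw [h2]
    exact W.smul_mem _ hx
  have hsupp : ∀ y, V F g y ∈ W → (∀ a, p2 a topv = -1 → y a = 0) ∧ y (op topv) = 0 := by
    intro y hy
    apply orth_bs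
    intro z
    have hs' : ∀ w, V F g w ∈ W → Sing w := fun w hw => sing_V.1 (hs _ hw)
    exact polar_zero (W := W.comap (V F g)) (fun w hw => hs' w hw) (x := bs F topv) (y := y) hmem hy z
  have hWtop : W ≠ ⊤ := by
    intro h
    have h1 := (hsupp (bs F (op topv)) (by rw [h]; trivial)).2
    rw [bs_same] at h1
    exact one_ne_zero h1
  -- the root groups
  have hroot : ∀ r < 126, ∀ (n : D1) (c : ℤ), mv r (nn (op topv)) = some (nn n, c) → ∀ t : F,
      ad F (g * xs F r t * g⁻¹) ∈ H := by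
    intro r hr n c hmv t
    refine blue hM hW h0 hWtop fun w hw => ?_
    rw [V_mul, V_mul]
    have hw' : V F g (V F g⁻¹ w) ∈ W := by rw [V_inv']; exact hw
    obtain ⟨s1, s2⟩ := hsupp _ hw'
    set y := V F g⁻¹ w with hy
    rw [V_xs hr, map_add, map_smul]
    refine W.add_mem hw' (W.smul_mem _ ?_)
    -- the image is a multiple of the highest weight vector
    have h1 : NM F r *ᵥ y = ((NM F r *ᵥ y) topv) • bs F topv := by
      funext a
      by_cases ha : a = topv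
      · rw [ha, Pi.smul_apply, bs_same, smul_eq_mul, mul_one]
      · rw [Pi.smul_apply, bs_ne ha, smul_zero]
        by_contra hne
        obtain ⟨b, d, h2, h3⟩ := NM_mulVec_ne hne
        have h4 := Tr.grade hr hmv h2
        rw [p2_op', p2_op'] at h4
        rcases p2_cases b topv with h5 | h5 | h5 | h5
        · rcases p2_cases a topv with h6 | h6 | h6 | h6 <;> omega
        · exact ha (p2_eq_three.1 (by omega))
        · exact h3 (s1 b h5)
        · rw [p2_comm] at h5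
          rw [p2_eq_neg_three.1 h5] at h3
          exact h3 s2
    rw [h1, map_smul]
    exact W.smul_mem _ hmem
  -- counting
  let P : Subgroup (Gh F) := Subgroup.closure (SS F (op topv))
  have hPH : P ≤ H.comap ((ad F).comp (MulAut.conj g).toMonoidHom) := by
    rw [Subgroup.closure_le]
    rintro _ ⟨r, hr, n, c, t, hmv, rfl⟩
    exact hroot r hr n c hmv t
  have hPQ : P ≤ QQ F := by
    rw [Subgroup.closure_le]
    rintro _ ⟨r, hr, n, c, t, hmv, rfl⟩
    exact xs_QQ hr hmv t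
  have hPm : ∀ n : D1, p2 n (op topv) = 1 → ∀ r < 126, ∀ c, mv r (nn (op topv)) = some (nn n, c) → ∀ t : F, xs F r t ∈ P := by
    intro n _ r hr c hmv t
    exact Subgroup.subset_closure ⟨r, hr, n, c, t, hmv, rfl⟩
  let vec : (Nb → F) → (D1 → F) := fun c a => if h : p2 a (op topv) = 1 then c ⟨a, h⟩ else if a = op topv then 1 else 0
  have hv1 : ∀ c, vec c (op topv) = 1 := by
    intro c
    have : p2 (op topv) (op topv) ≠ 1 := by rw [p2_self]; omega
    simp only [vec]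
    rw [dif_neg this]
    simp
  have hv2 : ∀ c (n : Nb), vec c n.1 = c n := by
    intro c n
    simp only [vec]
    rw [dif_pos n.2]
    rfl
  have hex : ∀ c : Nb → F, ∃ u : ↥P, V F (u : Gh F) (vec c) (op topv) = 1 ∧ ∀ n : Nb, V F (u : Gh F) (vec c) n.1 = 0 := by
    intro c
    obtain ⟨u, hu, h1, h2, -⟩ := Tr.clear P (op topv) (x := vec c) (by rw [hv1]; exact one_ne_zero)
      (Finset.univ.filter fun n => p2 n (op topv) = 1) (fun n hn => ⟨(Finset.mem_filter.1 hn).2, hPm n (Finset.mem_filter.1 hn).2⟩)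
    exact ⟨⟨u, hu⟩, by rw [h1, hv1], fun n => h2 n.1 (Finset.mem_filter.2 ⟨Finset.mem_univ _, n.2⟩)⟩
  choose u hu1 hu2 using hex
  have hinj : Function.Injective u := by
    intro c c' hcc
    funext n
    have h4 : V F (u c : Gh F) (vec c - vec c') n.1 = 0 := by
      rw [map_sub, Pi.sub_apply, hu2, hcc, hu2, sub_zero]
    rw [(mem_QQ.1 (hPQ (u c).2) (vec c - vec c')).2 (by rw [Pi.sub_apply, hv1, hv1, sub_self]) n.1 n.2, Pi.sub_apply, hv2, hv2] at h4
    exact sub_eq_zero.1 h4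
  let f : ↥P →* ↥H :=
    { toFun := fun x => ⟨ad F (g * x * g⁻¹), hPH x.2⟩
      map_one' := by
        apply Subtype.ext
        show ad F (g * (1 : Gh F) * g⁻¹) = 1
        rw [mul_one, mul_inv_cancel, map_one]
      map_mul' := fun x y => by
        apply Subtype.ext
        show ad F (g * ((x : Gh F) * y) * g⁻¹) = ad F (g * x * g⁻¹) * ad F (g * y * g⁻¹)
        rw [← map_mul]
        congr 1
        group }
  have hf : Function.Injective f := by
    intro x y hxy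
    have h1 : ad F (g * x * g⁻¹) = ad F (g * y * g⁻¹) := congrArg Subtype.val hxy
    have h2 := ad_inj hF2 h1
    exact Subtype.ext (mul_left_cancel (mul_right_cancel h2))
  have hfin : Finite ↥P := Finite.of_injective f hf
  have hdvd : Nat.card ↥P ∣ Nat.card ↥H := Subgroup.card_dvd_of_injective f hf
  have hPP : IsPGroup 2 ↥P := fun x => ⟨1, by
    apply Subtype.ext
    show (x : Gh F) ^ (2 ^ 1) = 1
    rw [pow_one, pow_two]
    exact sq_one2 hF2 x.2⟩
  obtain ⟨k, hk⟩ := IsPGroup.iff_card.1 hPP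
  have h1 := Nat.card_le_card_of_injective _ hinj
  have h2 : Nat.card F ^ 27 ≤ Nat.card (Nb → F) := by
    rw [Nat.card_fun, Nat.card_eq_fintype_card (α := Nb)]
    exact Nat.pow_le_pow_right (by have := two_le_card (F := F); omega) card_Nb
  have h3 : 2 ^ 27 ≤ Nat.card F ^ 27 := Nat.pow_le_pow_left two_le_card 27
  have h4 : 27 ≤ k := by
    by_contra h5
    push Not at h5
    have h6 : 2 ^ k < 2 ^ 27 := Nat.pow_lt_pow_right (by norm_num) h5
    omega
  exact hd ((pow_dvd_pow 2 h4).trans (hk ▸ hdvd))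

end Cfsg.Agent.R2.T1.B2
end

-- part: R2/T1/Five/InvTab
section
set_option linter.all false

/-!
# The elements of order 5 with 16 fixed weights: the table (helper25)

* `TW`, `TR` : the doubled coordinates of the weights (of the roots) modulo 5, and the values of the simple coroots modulo 2;
* `alc_chk` : for the vectors of the alcove with 16 zero weights there is exactly one good sign vector.
-/

set_option autoImplicit false
set_option maxRecDepth 100000

namespace Cfsg.Agent.R2.T1.Five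

open Cfsg Cfsg.Lie
open Cfsg.Agent.ChevalleyStructure Cfsg.Agent.ChevalleyStructure.Elts Cfsg.Agent.ChevalleyStructure.RootVec
  Cfsg.Agent.ChevalleyStructure.RootVecTab
open Cfsg.Agent.H943.E7V.Wt Cfsg.Agent.H944.Tab Cfsg.Agent.H944.E7Two

/-- residues of a weight -/
def rowW (s : ℕ) : List ℕ × List ℕ := ((List.range 7).map fun j => ((cc s j) % 5).toNat,
  (List.range 7).map fun i => ((chevE8.cartan i s) % 2).toNat)

/-- residues of a root -/
def rowR (r : ℕ) : List ℕ × List ℕ := ((List.range 7).map fun j => ((rt chevE7 r j) % 5).toNat,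
  (List.range 7).map fun i => ((chevE7.cartan i r) % 2).toNat)

/-- the table of the weights -/
def TW : List (List ℕ × List ℕ) :=
  [([3, 2, 1, 4, 0, 1, 2], [0, 0, 0, 0, 0, 0, 1]), ([3, 2, 1, 4, 0, 1, 4], [0, 0, 0, 0, 0, 1, 1]),
   ([3, 2, 1, 4, 0, 3, 4], [0, 0, 0, 0, 1, 1, 0]), ([3, 2, 1, 4, 2, 3, 4], [0, 0, 0, 1, 1, 0, 0]),
   ([3, 2, 1, 1, 2, 3, 4], [0, 1, 1, 1, 0, 0, 0]), ([3, 2, 3, 1, 2, 3, 4], [1, 1, 1, 0, 0, 0, 0]),
   ([3, 4, 1, 1, 2, 3, 4], [0, 1, 1, 0, 0, 0, 0]), ([3, 4, 3, 1, 2, 3, 4], [1, 1, 1, 1, 0, 0, 0]),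
   ([3, 4, 3, 3, 2, 3, 4], [1, 0, 0, 1, 1, 0, 0]), ([3, 4, 3, 3, 4, 3, 4], [1, 0, 0, 0, 1, 1, 0]),
   ([3, 4, 3, 3, 4, 0, 4], [1, 0, 0, 0, 0, 1, 1]), ([3, 4, 3, 3, 4, 0, 1], [1, 0, 0, 0, 0, 0, 1]),
   ([0, 2, 3, 1, 2, 3, 4], [1, 1, 0, 0, 0, 0, 0]), ([0, 4, 3, 1, 2, 3, 4], [1, 1, 0, 1, 0, 0, 0]),
   ([0, 4, 3, 3, 2, 3, 4], [1, 0, 1, 1, 1, 0, 0]), ([0, 4, 3, 3, 4, 3, 4], [1, 0, 1, 0, 1, 1, 0]),
   ([0, 4, 3, 3, 4, 0, 4], [1, 0, 1, 0, 0, 1, 1]), ([0, 4, 3, 3, 4, 0, 1], [1, 0, 1, 0, 0, 0, 1]),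
   ([0, 4, 0, 3, 2, 3, 4], [0, 0, 1, 0, 1, 0, 0]), ([0, 4, 0, 3, 4, 3, 4], [0, 0, 1, 1, 1, 1, 0]),
   ([0, 4, 0, 3, 4, 0, 4], [0, 0, 1, 1, 0, 1, 1]), ([0, 4, 0, 3, 4, 0, 1], [0, 0, 1, 1, 0, 0, 1]),
   ([0, 4, 0, 0, 4, 3, 4], [0, 1, 0, 1, 0, 1, 0]), ([0, 4, 0, 0, 4, 0, 4], [0, 1, 0, 1, 1, 1, 1]),
   ([0, 4, 0, 0, 4, 0, 1], [0, 1, 0, 1, 1, 0, 1]), ([0, 4, 0, 0, 1, 0, 4], [0, 1, 0, 0, 1, 0, 1]),
   ([0, 4, 0, 0, 1, 0, 1], [0, 1, 0, 0, 1, 1, 1]), ([0, 4, 0, 0, 1, 2, 1], [0, 1, 0, 0, 0, 1, 0]),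
   ([0, 1, 0, 0, 4, 3, 4], [0, 1, 0, 0, 0, 1, 0]), ([0, 1, 0, 0, 4, 0, 4], [0, 1, 0, 0, 1, 1, 1]),
   ([0, 1, 0, 0, 4, 0, 1], [0, 1, 0, 0, 1, 0, 1]), ([0, 1, 0, 0, 1, 0, 4], [0, 1, 0, 1, 1, 0, 1]),
   ([0, 1, 0, 0, 1, 0, 1], [0, 1, 0, 1, 1, 1, 1]), ([0, 1, 0, 0, 1, 2, 1], [0, 1, 0, 1, 0, 1, 0]),
   ([0, 1, 0, 2, 1, 0, 4], [0, 0, 1, 1, 0, 0, 1]), ([0, 1, 0, 2, 1, 0, 1], [0, 0, 1, 1, 0, 1, 1]),
   ([0, 1, 0, 2, 1, 2, 1], [0, 0, 1, 1, 1, 1, 0]), ([0, 1, 0, 2, 3, 2, 1], [0, 0, 1, 0, 1, 0, 0]),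
   ([0, 1, 2, 2, 1, 0, 4], [1, 0, 1, 0, 0, 0, 1]), ([0, 1, 2, 2, 1, 0, 1], [1, 0, 1, 0, 0, 1, 1]),
   ([0, 1, 2, 2, 1, 2, 1], [1, 0, 1, 0, 1, 1, 0]), ([0, 1, 2, 2, 3, 2, 1], [1, 0, 1, 1, 1, 0, 0]),
   ([0, 1, 2, 4, 3, 2, 1], [1, 1, 0, 1, 0, 0, 0]), ([0, 3, 2, 4, 3, 2, 1], [1, 1, 0, 0, 0, 0, 0]),
   ([2, 1, 2, 2, 1, 0, 4], [1, 0, 0, 0, 0, 0, 1]), ([2, 1, 2, 2, 1, 0, 1], [1, 0, 0, 0, 0, 1, 1]),
   ([2, 1, 2, 2, 1, 2, 1], [1, 0, 0, 0, 1, 1, 0]), ([2, 1, 2, 2, 3, 2, 1], [1, 0, 0, 1, 1, 0, 0]),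
   ([2, 1, 2, 4, 3, 2, 1], [1, 1, 1, 1, 0, 0, 0]), ([2, 1, 4, 4, 3, 2, 1], [0, 1, 1, 0, 0, 0, 0]),
   ([2, 3, 2, 4, 3, 2, 1], [1, 1, 1, 0, 0, 0, 0]), ([2, 3, 4, 4, 3, 2, 1], [0, 1, 1, 1, 0, 0, 0]),
   ([2, 3, 4, 1, 3, 2, 1], [0, 0, 0, 1, 1, 0, 0]), ([2, 3, 4, 1, 0, 2, 1], [0, 0, 0, 0, 1, 1, 0]),
   ([2, 3, 4, 1, 0, 4, 1], [0, 0, 0, 0, 0, 1, 1]), ([2, 3, 4, 1, 0, 4, 3], [0, 0, 0, 0, 0, 0, 1])]

/-- the table of the roots -/
def TR : List (List ℕ × List ℕ) :=
  [([3, 3, 2, 1, 2, 3, 4], [1, 0, 0, 0, 0, 0, 0]), ([4, 3, 2, 1, 2, 3, 4], [1, 0, 1, 0, 0, 0, 0]),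
   ([4, 3, 3, 1, 2, 3, 4], [0, 0, 1, 1, 0, 0, 0]), ([4, 3, 3, 2, 2, 3, 4], [0, 1, 0, 1, 1, 0, 0]),
   ([4, 3, 3, 2, 3, 3, 4], [0, 1, 0, 0, 1, 1, 0]), ([4, 3, 3, 2, 3, 4, 4], [0, 1, 0, 0, 0, 1, 1]),
   ([4, 3, 3, 2, 3, 4, 0], [0, 1, 0, 0, 0, 0, 1]), ([4, 4, 3, 2, 2, 3, 4], [0, 1, 0, 0, 1, 0, 0]),
   ([4, 4, 3, 2, 3, 3, 4], [0, 1, 0, 1, 1, 1, 0]), ([4, 4, 3, 2, 3, 4, 4], [0, 1, 0, 1, 0, 1, 1]),
   ([4, 4, 3, 2, 3, 4, 0], [0, 1, 0, 1, 0, 0, 1]), ([4, 4, 3, 3, 3, 3, 4], [0, 0, 1, 1, 0, 1, 0]),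
   ([4, 4, 3, 3, 3, 4, 4], [0, 0, 1, 1, 1, 1, 1]), ([4, 4, 3, 3, 3, 4, 0], [0, 0, 1, 1, 1, 0, 1]),
   ([4, 4, 3, 3, 4, 4, 4], [0, 0, 1, 0, 1, 0, 1]), ([4, 4, 3, 3, 4, 4, 0], [0, 0, 1, 0, 1, 1, 1]),
   ([4, 4, 3, 3, 4, 0, 0], [0, 0, 1, 0, 0, 1, 0]), ([4, 4, 4, 3, 3, 3, 4], [1, 0, 1, 0, 0, 1, 0]),
   ([4, 4, 4, 3, 3, 4, 4], [1, 0, 1, 0, 1, 1, 1]), ([4, 4, 4, 3, 3, 4, 0], [1, 0, 1, 0, 1, 0, 1]),
   ([4, 4, 4, 3, 4, 4, 4], [1, 0, 1, 1, 1, 0, 1]), ([4, 4, 4, 3, 4, 4, 0], [1, 0, 1, 1, 1, 1, 1]),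
   ([4, 4, 4, 3, 4, 0, 0], [1, 0, 1, 1, 0, 1, 0]), ([4, 4, 4, 4, 4, 4, 4], [1, 1, 0, 1, 0, 0, 1]),
   ([4, 4, 4, 4, 4, 4, 0], [1, 1, 0, 1, 0, 1, 1]), ([4, 4, 4, 4, 4, 0, 0], [1, 1, 0, 1, 1, 1, 0]),
   ([4, 4, 4, 4, 0, 0, 0], [1, 1, 0, 0, 1, 0, 0]), ([4, 0, 4, 4, 4, 4, 4], [1, 1, 0, 0, 0, 0, 1]),
   ([4, 0, 4, 4, 4, 4, 0], [1, 1, 0, 0, 0, 1, 1]), ([4, 0, 4, 4, 4, 0, 0], [1, 1, 0, 0, 1, 1, 0]),
   ([4, 0, 4, 4, 0, 0, 0], [1, 1, 0, 1, 1, 0, 0]), ([4, 0, 4, 0, 0, 0, 0], [1, 0, 1, 1, 0, 0, 0]),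
   ([4, 0, 0, 0, 0, 0, 0], [0, 0, 1, 0, 0, 0, 0]), ([0, 4, 4, 3, 3, 3, 4], [1, 0, 0, 0, 0, 1, 0]),
   ([0, 4, 4, 3, 3, 4, 4], [1, 0, 0, 0, 1, 1, 1]), ([0, 4, 4, 3, 3, 4, 0], [1, 0, 0, 0, 1, 0, 1]),
   ([0, 4, 4, 3, 4, 4, 4], [1, 0, 0, 1, 1, 0, 1]), ([0, 4, 4, 3, 4, 4, 0], [1, 0, 0, 1, 1, 1, 1]),
   ([0, 4, 4, 3, 4, 0, 0], [1, 0, 0, 1, 0, 1, 0]), ([0, 4, 4, 4, 4, 4, 4], [1, 1, 1, 1, 0, 0, 1]),
   ([0, 4, 4, 4, 4, 4, 0], [1, 1, 1, 1, 0, 1, 1]), ([0, 4, 4, 4, 4, 0, 0], [1, 1, 1, 1, 1, 1, 0]),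
   ([0, 4, 4, 4, 0, 0, 0], [1, 1, 1, 0, 1, 0, 0]), ([0, 4, 0, 4, 4, 4, 4], [0, 1, 1, 0, 0, 0, 1]),
   ([0, 4, 0, 4, 4, 4, 0], [0, 1, 1, 0, 0, 1, 1]), ([0, 4, 0, 4, 4, 0, 0], [0, 1, 1, 0, 1, 1, 0]),
   ([0, 4, 0, 4, 0, 0, 0], [0, 1, 1, 1, 1, 0, 0]), ([0, 4, 0, 0, 0, 0, 0], [0, 0, 0, 1, 0, 0, 0]),
   ([0, 0, 4, 4, 4, 4, 4], [1, 1, 1, 0, 0, 0, 1]), ([0, 0, 4, 4, 4, 4, 0], [1, 1, 1, 0, 0, 1, 1]),
   ([0, 0, 4, 4, 4, 0, 0], [1, 1, 1, 0, 1, 1, 0]), ([0, 0, 4, 4, 0, 0, 0], [1, 1, 1, 1, 1, 0, 0]),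
   ([0, 0, 4, 0, 0, 0, 0], [1, 0, 0, 1, 0, 0, 0]), ([0, 0, 0, 4, 4, 4, 4], [0, 1, 1, 1, 0, 0, 1]),
   ([0, 0, 0, 4, 4, 4, 0], [0, 1, 1, 1, 0, 1, 1]), ([0, 0, 0, 4, 4, 0, 0], [0, 1, 1, 1, 1, 1, 0]),
   ([0, 0, 0, 4, 0, 0, 0], [0, 1, 1, 0, 1, 0, 0]), ([0, 0, 0, 0, 4, 4, 4], [0, 0, 0, 1, 1, 0, 1]),
   ([0, 0, 0, 0, 4, 4, 0], [0, 0, 0, 1, 1, 1, 1]), ([0, 0, 0, 0, 4, 0, 0], [0, 0, 0, 1, 0, 1, 0]),
   ([0, 0, 0, 0, 0, 4, 4], [0, 0, 0, 0, 1, 1, 1]), ([0, 0, 0, 0, 0, 4, 0], [0, 0, 0, 0, 1, 0, 1]),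
   ([0, 0, 0, 0, 0, 0, 4], [0, 0, 0, 0, 0, 1, 0]), ([0, 0, 0, 0, 0, 0, 1], [0, 0, 0, 0, 0, 1, 0]),
   ([0, 0, 0, 0, 0, 1, 0], [0, 0, 0, 0, 1, 0, 1]), ([0, 0, 0, 0, 0, 1, 1], [0, 0, 0, 0, 1, 1, 1]),
   ([0, 0, 0, 0, 1, 0, 0], [0, 0, 0, 1, 0, 1, 0]), ([0, 0, 0, 0, 1, 1, 0], [0, 0, 0, 1, 1, 1, 1]),
   ([0, 0, 0, 0, 1, 1, 1], [0, 0, 0, 1, 1, 0, 1]), ([0, 0, 0, 1, 0, 0, 0], [0, 1, 1, 0, 1, 0, 0]),
   ([0, 0, 0, 1, 1, 0, 0], [0, 1, 1, 1, 1, 1, 0]), ([0, 0, 0, 1, 1, 1, 0], [0, 1, 1, 1, 0, 1, 1]),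
   ([0, 0, 0, 1, 1, 1, 1], [0, 1, 1, 1, 0, 0, 1]), ([0, 0, 1, 0, 0, 0, 0], [1, 0, 0, 1, 0, 0, 0]),
   ([0, 0, 1, 1, 0, 0, 0], [1, 1, 1, 1, 1, 0, 0]), ([0, 0, 1, 1, 1, 0, 0], [1, 1, 1, 0, 1, 1, 0]),
   ([0, 0, 1, 1, 1, 1, 0], [1, 1, 1, 0, 0, 1, 1]), ([0, 0, 1, 1, 1, 1, 1], [1, 1, 1, 0, 0, 0, 1]),
   ([0, 1, 0, 0, 0, 0, 0], [0, 0, 0, 1, 0, 0, 0]), ([0, 1, 0, 1, 0, 0, 0], [0, 1, 1, 1, 1, 0, 0]),
   ([0, 1, 0, 1, 1, 0, 0], [0, 1, 1, 0, 1, 1, 0]), ([0, 1, 0, 1, 1, 1, 0], [0, 1, 1, 0, 0, 1, 1]),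
   ([0, 1, 0, 1, 1, 1, 1], [0, 1, 1, 0, 0, 0, 1]), ([0, 1, 1, 1, 0, 0, 0], [1, 1, 1, 0, 1, 0, 0]),
   ([0, 1, 1, 1, 1, 0, 0], [1, 1, 1, 1, 1, 1, 0]), ([0, 1, 1, 1, 1, 1, 0], [1, 1, 1, 1, 0, 1, 1]),
   ([0, 1, 1, 1, 1, 1, 1], [1, 1, 1, 1, 0, 0, 1]), ([0, 1, 1, 2, 1, 0, 0], [1, 0, 0, 1, 0, 1, 0]),
   ([0, 1, 1, 2, 1, 1, 0], [1, 0, 0, 1, 1, 1, 1]), ([0, 1, 1, 2, 1, 1, 1], [1, 0, 0, 1, 1, 0, 1]),
   ([0, 1, 1, 2, 2, 1, 0], [1, 0, 0, 0, 1, 0, 1]), ([0, 1, 1, 2, 2, 1, 1], [1, 0, 0, 0, 1, 1, 1]),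
   ([0, 1, 1, 2, 2, 2, 1], [1, 0, 0, 0, 0, 1, 0]), ([1, 0, 0, 0, 0, 0, 0], [0, 0, 1, 0, 0, 0, 0]),
   ([1, 0, 1, 0, 0, 0, 0], [1, 0, 1, 1, 0, 0, 0]), ([1, 0, 1, 1, 0, 0, 0], [1, 1, 0, 1, 1, 0, 0]),
   ([1, 0, 1, 1, 1, 0, 0], [1, 1, 0, 0, 1, 1, 0]), ([1, 0, 1, 1, 1, 1, 0], [1, 1, 0, 0, 0, 1, 1]),
   ([1, 0, 1, 1, 1, 1, 1], [1, 1, 0, 0, 0, 0, 1]), ([1, 1, 1, 1, 0, 0, 0], [1, 1, 0, 0, 1, 0, 0]),
   ([1, 1, 1, 1, 1, 0, 0], [1, 1, 0, 1, 1, 1, 0]), ([1, 1, 1, 1, 1, 1, 0], [1, 1, 0, 1, 0, 1, 1]),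
   ([1, 1, 1, 1, 1, 1, 1], [1, 1, 0, 1, 0, 0, 1]), ([1, 1, 1, 2, 1, 0, 0], [1, 0, 1, 1, 0, 1, 0]),
   ([1, 1, 1, 2, 1, 1, 0], [1, 0, 1, 1, 1, 1, 1]), ([1, 1, 1, 2, 1, 1, 1], [1, 0, 1, 1, 1, 0, 1]),
   ([1, 1, 1, 2, 2, 1, 0], [1, 0, 1, 0, 1, 0, 1]), ([1, 1, 1, 2, 2, 1, 1], [1, 0, 1, 0, 1, 1, 1]),
   ([1, 1, 1, 2, 2, 2, 1], [1, 0, 1, 0, 0, 1, 0]), ([1, 1, 2, 2, 1, 0, 0], [0, 0, 1, 0, 0, 1, 0]),
   ([1, 1, 2, 2, 1, 1, 0], [0, 0, 1, 0, 1, 1, 1]), ([1, 1, 2, 2, 1, 1, 1], [0, 0, 1, 0, 1, 0, 1]),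
   ([1, 1, 2, 2, 2, 1, 0], [0, 0, 1, 1, 1, 0, 1]), ([1, 1, 2, 2, 2, 1, 1], [0, 0, 1, 1, 1, 1, 1]),
   ([1, 1, 2, 2, 2, 2, 1], [0, 0, 1, 1, 0, 1, 0]), ([1, 1, 2, 3, 2, 1, 0], [0, 1, 0, 1, 0, 0, 1]),
   ([1, 1, 2, 3, 2, 1, 1], [0, 1, 0, 1, 0, 1, 1]), ([1, 1, 2, 3, 2, 2, 1], [0, 1, 0, 1, 1, 1, 0]),
   ([1, 1, 2, 3, 3, 2, 1], [0, 1, 0, 0, 1, 0, 0]), ([1, 2, 2, 3, 2, 1, 0], [0, 1, 0, 0, 0, 0, 1]),
   ([1, 2, 2, 3, 2, 1, 1], [0, 1, 0, 0, 0, 1, 1]), ([1, 2, 2, 3, 2, 2, 1], [0, 1, 0, 0, 1, 1, 0]),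
   ([1, 2, 2, 3, 3, 2, 1], [0, 1, 0, 1, 1, 0, 0]), ([1, 2, 2, 4, 3, 2, 1], [0, 0, 1, 1, 0, 0, 0]),
   ([1, 2, 3, 4, 3, 2, 1], [1, 0, 1, 0, 0, 0, 0]), ([2, 2, 3, 4, 3, 2, 1], [1, 0, 0, 0, 0, 0, 0])]

theorem TW_eq : ((List.range 240).filter fun s => decide (rt chevE8 s 7 = 1)).map rowW = TW := by (delta Cfsg.Agent.R2.T1.Five.rowW; rewrite [Cfsg.Agent.ChevFast.E8.cartan]; decide +kernel)

theorem TR_eq : (List.range 126).map rowR = TR := by (delta Cfsg.Agent.R2.T1.Five.rowR; rewrite [Cfsg.Agent.ChevFast.E7.cartan]; decide +kernel)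

/-- the bits of a number -/
def bits (m : ℕ) : List ℕ := (List.range 7).map fun i => m / 2 ^ i % 2

/-- the value modulo 5 is zero -/
def z5 (Y : List ℕ) (x : List ℕ × List ℕ) : Bool := Nat.beq (dotN x.1 Y % 5) 0

/-- the value modulo 2 is zero -/
def ev2 (B : List ℕ) (x : List ℕ × List ℕ) : Bool := Nat.beq (dotN x.2 B % 2) 0

/-- the sign vector is good -/
def good (Y B : List ℕ) : Bool := (TR.all fun x => !(z5 Y x) || ev2 B x) && ((TW.all fun x => !(z5 Y x) || !(ev2 B x)) &&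
  Nat.beq (TW.filter (ev2 B)).length 32)

/-- the number of zero weights -/
def cnt0 (Y : List ℕ) : ℕ := (TW.filter (z5 Y)).length

/-- the number of good sign vectors -/
def cgood (Y : List ℕ) : ℕ → ℕ
  | 0 => 0
  | k + 1 => cgood Y k + bif good Y (bits k) then 1 else 0

theorem alc_chk : allAlc th7 5 (fun Y => !(Nat.beq (cnt0 Y) 16) || Nat.beq (cgood Y 128) 1) = true := by decide +kernel

end Cfsg.Agent.R2.T1.Five
end

-- part: R2/T1/Five/Inv
section
prune_inst 0x7f01c200140342200000000050222002020680000900000000098000c000103b0200840200006a00804020008000800004000000000000000000000000000010000800040048308a104600091802004000000000000000000000000000000041000000000000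
set_option linter.all false
open scoped Cfsg.Agent.FastGrp

/-!
# The involution attached to an element of order 5 with 16 fixed weights (helper25)

* `Tw x τ` : `τ * τ = 1`, `τ` is trivial on the fixed points of `x` on the adjoint module, is `-1` on the fixed points of `x`
  on the module of degree 56, and has 32 eigenvalues 1 on the latter;
* `exists_tau` : existence and uniqueness of `τ` for `x` conjugate to an element of order 5 of the torus with
  `ev (V K x) 1 = 16`, if `(2 : K) ≠ 0`.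
-/

set_option autoImplicit false
set_option maxRecDepth 100000

namespace Cfsg.Agent.R2.T1.Five

open Cfsg Cfsg.Lie Module
open Cfsg.Agent.ChevalleyStructure Cfsg.Agent.ChevalleyStructure.Elts Cfsg.Agent.ChevalleyStructure.RootVec
  Cfsg.Agent.ChevalleyStructure.RootVecTab Cfsg.Agent.ChevalleyStructure.CoxeterGeomTypes
open Cfsg.Agent.H129.StCover
open Cfsg.Agent.H943.E7V.Block Cfsg.Agent.H943.E7V.Wt Cfsg.Agent.H944.Tab Cfsg.Agent.H944.E7Two
open Cfsg.Agent.H952.F4 (ev es)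
open Cfsg.Agent.R2.T1
open scoped Matrix

universe u

/-! ### residues -/

theorem dot_mod {N : ℕ} (hN : 0 < N) (a : ℕ → ℤ) (y : Fin 7 → ℕ) :
    Nat.beq (dotN ((List.range 7).map fun j => ((a j) % (N : ℤ)).toNat) (List.ofFn y) % N) 0 = true ↔
      (N : ℤ) ∣ ∑ i : Fin 7, a i * y i := by
  rw [Nat.beq_eq, ← Nat.dvd_iff_mod_eq_zero, ← Int.natCast_dvd_natCast, dotN_eq 7 _ _ (by simp)]
  have hN' : (0 : ℤ) < N := by exact_mod_cast hN
  have h1 : ∀ i : Fin 7, (((((List.range 7).map fun j => ((a j) % (N : ℤ)).toNat).getD i 0 *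
      (List.ofFn y).getD i 0 : ℕ)) : ℤ) = (a i % N) * y i := by
    intro i
    have e1 : ((List.range 7).map fun j => ((a j) % (N : ℤ)).toNat).getD i 0 = ((a i) % (N : ℤ)).toNat := by
      rw [List.getD_eq_getElem _ _ (by simp), List.getElem_map, List.getElem_range]
    have e2 : (List.ofFn y).getD i 0 = y i := by
      rw [List.getD_eq_getElem _ _ (by rw [List.length_ofFn]; exact i.2), List.getElem_ofFn]
    rw [e1, e2, Nat.cast_mul, Int.toNat_of_nonneg (Int.emod_nonneg _ hN'.ne')]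
  rw [Nat.cast_sum, Finset.sum_congr rfl fun i _ => h1 i]
  have h2 : ∀ i : Fin 7, (a i % N) * (y i : ℤ) = a i * y i - (N : ℤ) * (a i / N * y i) := by
    intro i
    have := Int.emod_add_mul_ediv (a i) N
    linear_combination (y i : ℤ) * this
  rw [Finset.sum_congr rfl fun i _ => h2 i, Finset.sum_sub_distrib, ← Finset.mul_sum]
  exact dvd_sub_left (dvd_mul_right _ _)

/-! ### the values of the weights and of the roots -/

section vals

variable {K : Type u} [Field K]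

theorem prod_zpow_comm {n m : ℕ} (c : Fin n → Kˣ) (A : Fin n → Fin m → ℤ) (e : Fin m → ℤ) :
    ∏ i, c i ^ (∑ j, e j * A i j) = ∏ j, (∏ i, c i ^ A i j) ^ e j := by
  have h1 : ∀ i, c i ^ (∑ j, e j * A i j) = ∏ j, (c i ^ A i j) ^ e j := by
    intro i
    rw [← prod_zpow_sum]
    refine Finset.prod_congr rfl fun j _ => ?_
    rw [← zpow_mul, mul_comm]
  rw [Finset.prod_congr rfl fun i _ => h1 i, Finset.prod_comm]
  exact Finset.prod_congr rfl fun j _ => Finset.prod_zpow _ _ _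

theorem wt_sq (s : D1) (c : Fin chevE7.rank → Kˣ) :
    wt s c ^ 2 = ∏ j : Fin 7, rtv (chevE7.simple j) c ^ cc (nn s) j := by
  have h1 : wt s c ^ 2 = ∏ i : Fin 7, c i ^ (∑ j : Fin 7, cc (nn s) j * chevE7.cartan i (chevE7.simple j)) := by
    unfold wt
    rw [← Finset.prod_pow]
    refine Finset.prod_congr rfl fun i _ => ?_
    have h2 := pair_eq' s i
    change ∑ j : Fin 7, cc (nn s) j * chevE7.cartan i (chevE7.simple j) = 2 * chevE8.cartan i (nn s) at h2
    rw [h2, ← zpow_natCast, ← zpow_mul, mul_comm]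
    rfl
  rw [h1, prod_zpow_comm (fun i : Fin 7 => c i) (fun i j => chevE7.cartan i (chevE7.simple j)) fun j => cc (nn s) j]
  rfl

theorem rtv_prod {r : ℕ} (hr : r < chevE7.nroots) (c : Fin chevE7.rank → Kˣ) :
    rtv r c = ∏ j : Fin 7, rtv (chevE7.simple j) c ^ rt chevE7 r j := by
  have h1 : rtv r c = ∏ i : Fin 7, c i ^ (∑ j : Fin 7, rt chevE7 r j * chevE7.cartan i (chevE7.simple j)) := by
    unfold rtv
    refine Finset.prod_congr rfl fun i _ => ?_
    have h4 : chevE7.cartan i r = ∑ j ∈ Finset.range 7, rt chevE7 r j * chevE7.cartan i (chevE7.simple j) :=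
      cartan_eq_sum checked_E7 (show (i : ℕ) < 7 from i.2) hr
    rw [h4, Finset.sum_range]
  rw [h1, prod_zpow_comm (fun i : Fin 7 => c i) (fun i j => chevE7.cartan i (chevE7.simple j)) fun j => rt chevE7 r j]
  rfl

theorem prod_z {z : Kˣ} {y : Fin 7 → ℕ} {c : Fin chevE7.rank → Kˣ}
    (h : ∀ i : Fin 7, rtv (chevE7.simple i) c = z ^ y i) (a : ℕ → ℤ) :
    ∏ j : Fin 7, rtv (chevE7.simple j) c ^ a j = z ^ ∑ i : Fin 7, a i * y i := by
  rw [← prod_zpow_sum]
  refine Finset.prod_congr rfl fun j _ => ?_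
  rw [h j, ← zpow_natCast, ← zpow_mul, mul_comm]

variable {z : Kˣ} (hz : IsPrimitiveRoot z 5) {y : Fin 7 → ℕ} {c : Fin chevE7.rank → Kˣ} (hc : c ^ 5 = 1)
  (h : ∀ i : Fin 7, rtv (chevE7.simple i) c = z ^ y i)

include hz hc h in
theorem wt_iff (s : D1) : wt s c = 1 ↔ z5 (List.ofFn y) (rowW (nn s)) = true := by
  have h5 : wt s c ^ 5 = 1 := by
    unfold wt
    rw [← Finset.prod_pow]
    refine Finset.prod_eq_one fun i _ => ?_
    rw [← zpow_natCast, ← zpow_mul, mul_comm, zpow_mul, zpow_natCast]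
    have h4 : c i ^ 5 = 1 := congrFun hc i
    rw [h4, one_zpow]
  have h1 : wt s c = 1 ↔ wt s c ^ 2 = 1 := by
    constructor
    · intro h2; rw [h2, one_pow]
    · intro h2
      have h3 : wt s c ^ 5 = (wt s c ^ 2) ^ 2 * wt s c := by group
      rw [h5, h2, one_pow, one_mul] at h3
      exact h3.symm
  rw [h1, wt_sq, prod_z h, hz.zpow_eq_one_iff_dvd]
  exact (dot_mod (N := 5) (by norm_num) (fun j => cc (nn s) j) y).symm

include hz h in
theorem rtv_iff {r : ℕ} (hr : r < chevE7.nroots) : rtv r c = 1 ↔ z5 (List.ofFn y) (rowR r) = true := by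
  rw [rtv_prod hr, prod_z h, hz.zpow_eq_one_iff_dvd]
  exact (dot_mod (N := 5) (by norm_num) (fun j => rt chevE7 r j) y).symm

/-! ### sign vectors -/

/-- the sign vectors -/
def tm (K : Type u) [Field K] (m : ℕ) : Fin chevE7.rank → Kˣ := fun i => (-1) ^ (m / 2 ^ (i : ℕ) % 2)

theorem bits_eq (m : ℕ) : bits m = List.ofFn fun i : Fin 7 => m / 2 ^ (i : ℕ) % 2 := rfl

theorem tm_prod (m : ℕ) (a : ℕ → ℤ) : ∏ i : Fin chevE7.rank, tm K m i ^ a i =
    (-1) ^ ∑ i : Fin 7, a i * ((m / 2 ^ (i : ℕ) % 2 : ℕ) : ℤ) := by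
  rw [← prod_zpow_sum]
  refine Finset.prod_congr rfl fun i _ => ?_
  show ((-1 : Kˣ) ^ (m / 2 ^ (i : ℕ) % 2)) ^ a i = _
  rw [← zpow_natCast, ← zpow_mul, mul_comm]

theorem ev2_iff (m : ℕ) (a : ℕ → ℤ) : Nat.beq (dotN ((List.range 7).map fun j => ((a j) % (2 : ℤ)).toNat) (bits m) % 2) 0 =
    true ↔ (2 : ℤ) ∣ ∑ i : Fin 7, a i * ((m / 2 ^ (i : ℕ) % 2 : ℕ) : ℤ) := by
  rw [bits_eq]
  exact dot_mod (N := 2) (by norm_num) a fun i : Fin 7 => m / 2 ^ (i : ℕ) % 2

theorem sgn_cases (m : ℕ) (a : ℕ → ℤ) :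
    (Nat.beq (dotN ((List.range 7).map fun j => ((a j) % (2 : ℤ)).toNat) (bits m) % 2) 0 = true ∧
      ∏ i : Fin chevE7.rank, tm K m i ^ a i = 1) ∨
    (Nat.beq (dotN ((List.range 7).map fun j => ((a j) % (2 : ℤ)).toNat) (bits m) % 2) 0 = false ∧
      ∏ i : Fin chevE7.rank, tm K m i ^ a i = -1) := by
  rw [tm_prod]
  by_cases h1 : (2 : ℤ) ∣ ∑ i : Fin 7, a i * ((m / 2 ^ (i : ℕ) % 2 : ℕ) : ℤ)
  · left
    exact ⟨(ev2_iff m a).2 h1, Even.neg_one_zpow (even_iff_two_dvd.2 h1)⟩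
  · right
    refine ⟨?_, Odd.neg_one_zpow (by rw [← Int.not_even_iff_odd, even_iff_two_dvd]; exact h1)⟩
    rw [← Bool.not_eq_true]
    exact fun h2 => h1 ((ev2_iff m a).1 h2)

theorem wt_tm (m : ℕ) (s : D1) : (ev2 (bits m) (rowW (nn s)) = true ∧ wt s (tm K m) = 1) ∨
    (ev2 (bits m) (rowW (nn s)) = false ∧ wt s (tm K m) = -1) := sgn_cases m fun i => chevE8.cartan i (nn s)

theorem rtv_tm (m r : ℕ) : (ev2 (bits m) (rowR r) = true ∧ rtv r (tm K m) = 1) ∨
    (ev2 (bits m) (rowR r) = false ∧ rtv r (tm K m) = -1) := sgn_cases m fun i => chevE7.cartan i r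

theorem neg_ne (h2 : (2 : K) ≠ 0) : (-1 : Kˣ) ≠ 1 := by
  intro h0
  have h1 := congrArg Units.val h0
  rw [Units.val_neg, Units.val_one] at h1
  apply h2
  linear_combination -h1

theorem wt_tm_iff (h2 : (2 : K) ≠ 0) (m : ℕ) (s : D1) : wt s (tm K m) = 1 ↔ ev2 (bits m) (rowW (nn s)) = true := by
  rcases wt_tm (K := K) m s with ⟨h3, h4⟩ | ⟨h3, h4⟩
  · exact ⟨fun _ => h3, fun _ => h4⟩
  · rw [h3, h4]
    exact ⟨fun h5 => absurd h5 (neg_ne h2), fun h5 => absurd h5 (by simp)⟩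

theorem rtv_tm_iff (h2 : (2 : K) ≠ 0) (m r : ℕ) : rtv r (tm K m) = 1 ↔ ev2 (bits m) (rowR r) = true := by
  rcases rtv_tm (K := K) m r with ⟨h3, h4⟩ | ⟨h3, h4⟩
  · exact ⟨fun _ => h3, fun _ => h4⟩
  · rw [h3, h4]
    exact ⟨fun h5 => absurd h5 (neg_ne h2), fun h5 => absurd h5 (by simp)⟩

/-- the elements of order 2 of the torus -/
theorem exists_tm {t : Fin chevE7.rank → Kˣ} (ht : t * t = 1) : ∃ m < 128, t = tm K m := by
  classical
  have h1 : ∀ i, t i = 1 ∨ t i = -1 := by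
    intro i
    have h2 : ((t i : Kˣ) : K) * t i = 1 := by
      have := congrArg Units.val (congrFun ht i)
      simpa using this
    rcases mul_self_eq_one_iff.1 h2 with h3 | h3
    · exact Or.inl (Units.ext h3)
    · exact Or.inr (Units.ext (by rw [h3, Units.val_neg, Units.val_one]))
  let t' : Fin 7 → Kˣ := t
  let b : Fin 7 → ℕ := fun i => if t' i = 1 then 0 else 1
  have hb : ∀ i, b i < 2 := by intro i; show (if t' i = 1 then 0 else 1) < 2; split_ifs <;> norm_num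
  have hbt : ∀ i : Fin 7, t' i = (-1) ^ b i := by
    intro i
    show t' i = (-1) ^ (if t' i = 1 then 0 else 1)
    split_ifs with h3
    · rw [h3, pow_zero]
    · rw [pow_one]; exact (h1 i).resolve_left h3
  refine ⟨b 0 + 2 * b 1 + 4 * b 2 + 8 * b 3 + 16 * b 4 + 32 * b 5 + 64 * b 6, ?_, ?_⟩
  · have := hb 0; have := hb 1; have := hb 2; have := hb 3; have := hb 4; have := hb 5; have := hb 6
    omega
  · have h0 := hb 0; have h1 := hb 1; have h2 := hb 2; have h3 := hb 3; have h4 := hb 4; have h5 := hb 5; have h6 := hb 6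
    have key : ∀ i : Fin 7, b i = (b 0 + 2 * b 1 + 4 * b 2 + 8 * b 3 + 16 * b 4 + 32 * b 5 + 64 * b 6) / 2 ^ (i : ℕ) % 2 := by
      intro i
      have hi : i = 0 ∨ i = 1 ∨ i = 2 ∨ i = 3 ∨ i = 4 ∨ i = 5 ∨ i = 6 := by
        revert i
        decide
      rcases hi with rfl | rfl | rfl | rfl | rfl | rfl | rfl
      · show b 0 = _ / 2 ^ 0 % 2; omega
      · show b 1 = _ / 2 ^ 1 % 2; omega
      · show b 2 = _ / 2 ^ 2 % 2; omega
      · show b 3 = _ / 2 ^ 3 % 2; omega
      · show b 4 = _ / 2 ^ 4 % 2; omega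
      · show b 5 = _ / 2 ^ 5 % 2; omega
      · show b 6 = _ / 2 ^ 6 % 2; omega
    funext i
    have h7 := hbt i
    rw [key i] at h7
    exact h7

end vals

/-! ### counting -/

theorem cgood_eq (Y : List ℕ) : ∀ k, cgood Y k = ((Finset.range k).filter fun m => good Y (bits m) = true).card := by
  intro k
  induction k with
  | zero => rfl
  | succ k ih =>
    show cgood Y k + _ = _
    rw [ih, Finset.range_add_one, Finset.filter_insert]
    by_cases h : good Y (bits k) = true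
    · rw [if_pos h, Finset.card_insert_of_notMem (by simp), h]
      rfl
    · rw [if_neg h]
      rw [Bool.not_eq_true] at h
      rw [h]
      rfl

theorem card_D1_filter (p : List ℕ × List ℕ → Bool) :
    (Finset.univ.filter fun s : D1 => p (rowW (nn s)) = true).card = (TW.filter p).length := by
  rw [← TW_eq, List.filter_map, List.length_map, List.filter_filter]
  have h1 : ((List.range 240).filter fun s => (p ∘ rowW) s && decide (rt chevE8 s 7 = 1)).length =
      ((Finset.range 240).filter fun s => ((p ∘ rowW) s && decide (rt chevE8 s 7 = 1)) = true).card := by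
    have h2 : ((Finset.range 240).filter fun s => ((p ∘ rowW) s && decide (rt chevE8 s 7 = 1)) = true).card =
        ((List.range 240).filter fun s => decide (((p ∘ rowW) s && decide (rt chevE8 s 7 = 1)) = true)).length := rfl
    rw [h2]
    congr 2
    funext s
    rw [Bool.decide_eq_true]
  rw [h1]
  refine Finset.card_bij (fun s _ => nn s) ?_ ?_ ?_
  · intro s hs
    rw [Finset.mem_filter] at hs
    rw [Finset.mem_filter, Finset.mem_range]
    refine ⟨nn_lt s, ?_⟩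
    rw [Bool.and_eq_true, decide_eq_true_eq]
    exact ⟨hs.2, rt_nn s⟩
  · intro s _ t _ hst
    exact nn_inj hst
  · intro n hn
    rw [Finset.mem_filter, Finset.mem_range, Bool.and_eq_true, decide_eq_true_eq] at hn
    refine ⟨⟨⟨n, hn.1⟩, hn.2.2⟩, ?_, rfl⟩
    rw [Finset.mem_filter]
    exact ⟨Finset.mem_univ _, hn.2.1⟩

section ev

variable {K : Type u} [Field K]

theorem ev_Phi (t : Fin chevE7.rank → Kˣ) (p : List ℕ × List ℕ → Bool)
    (h : ∀ s : D1, wt s t = 1 ↔ p (rowW (nn s)) = true) : ev (V K (Phi K t)) 1 = (TW.filter p).length := by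
  classical
  rw [Cfsg.Agent.H952.F4.TabLin.ev_diag (fun s : D1 => ((wt s t : Kˣ) : K)) 1
    (by rw [V_eq, rho_Phi]), ← card_D1_filter]
  congr 1
  ext s
  rw [Finset.mem_filter, Finset.mem_filter, ← h s, Units.val_eq_one]

/-! ### the property -/

/-- the involution `τ` attached to `x` -/
def Tw (x τ : Gh K) : Prop := τ * τ = 1 ∧ (∀ X, L K x X = X → L K τ X = X) ∧ (∀ v, V K x v = v → V K τ v = -v) ∧
  ev (V K τ) 1 = 32

theorem tw_good (h2 : (2 : K) ≠ 0) {z : Kˣ} (hz : IsPrimitiveRoot z 5) {y : Fin 7 → ℕ} {c : Fin chevE7.rank → Kˣ}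
    (hc : c ^ 5 = 1) (h : ∀ i : Fin 7, rtv (chevE7.simple i) c = z ^ y i) (m : ℕ) :
    Tw (Phi K c) (Phi K (tm K m)) ↔ good (List.ofFn y) (bits m) = true := by
  have hlen : ev (V K (Phi K (tm K m))) 1 = (TW.filter (ev2 (bits m))).length :=
    ev_Phi _ _ fun s => wt_tm_iff h2 m s
  have hV : ∀ (t : Fin chevE7.rank → Kˣ) (v : D1 → K) (s : D1), V K (Phi K t) v s = ((wt s t : Kˣ) : K) * v s := by
    intro t v s
    rw [V_apply, rho_Phi, Matrix.mulVec_diagonal]
  unfold good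
  rw [Bool.and_eq_true, Bool.and_eq_true, List.all_eq_true, List.all_eq_true, Nat.beq_eq, ← hlen]
  constructor
  · rintro ⟨-, t2, t3, t4⟩
    refine ⟨?_, ?_, t4⟩
    · intro x hx
      rw [← TR_eq, List.mem_map] at hx
      obtain ⟨r, hr, rfl⟩ := hx
      rw [List.mem_range] at hr
      by_cases h5 : z5 (List.ofFn y) (rowR r) = true
      · rw [h5, Bool.not_true, Bool.false_or, ← rtv_tm_iff h2]
        have h6 := (rtv_iff hz h hr).2 h5
        have h7 : L K (Phi K c) (Pi.single (Sum.inr ⟨r, hr⟩) 1) = Pi.single (Sum.inr ⟨r, hr⟩) 1 := by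
          funext i
          rw [L_Phi]
          by_cases hi : i = Sum.inr ⟨r, hr⟩
          · subst hi
            rw [Sum.elim_inr]
            change ((rtv r c : Kˣ) : K) * _ = _
            rw [h6, Units.val_one, one_mul]
          · rw [Pi.single_eq_of_ne hi, mul_zero]
        have h8 := congrFun (t2 _ h7) (Sum.inr ⟨r, hr⟩)
        rw [L_Phi, Sum.elim_inr, Pi.single_eq_same, mul_one] at h8
        exact Units.ext h8
      · rw [Bool.not_eq_true] at h5
        rw [h5]; rfl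
    · intro x hx
      rw [← TW_eq, List.mem_map] at hx
      obtain ⟨s, hs, rfl⟩ := hx
      rw [List.mem_filter, List.mem_range, decide_eq_true_eq] at hs
      let s' : D1 := ⟨⟨s, hs.1⟩, hs.2⟩
      by_cases h5 : z5 (List.ofFn y) (rowW s) = true
      · rw [h5, Bool.not_true, Bool.false_or]
        have h6 : wt s' c = 1 := (wt_iff hz hc h s').2 h5
        have h7 : V K (Phi K c) (Pi.single s' 1) = Pi.single s' 1 := by
          funext i
          rw [hV]
          by_cases hi : i = s'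
          · subst hi
            rw [h6, Units.val_one, one_mul]
          · rw [Pi.single_eq_of_ne hi, mul_zero]
        have h8 := congrFun (t3 _ h7) s'
        rw [hV, Pi.neg_apply, Pi.single_eq_same, mul_one] at h8
        rcases wt_tm (K := K) m s' with ⟨h9, h10⟩ | ⟨h9, h10⟩
        · rw [h10, Units.val_one] at h8
          exfalso
          apply h2
          linear_combination h8
        · change ev2 (bits m) (rowW s) = false at h9
          rw [h9]; rfl
      · rw [Bool.not_eq_true] at h5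
        rw [h5]; rfl
  · rintro ⟨g1, g2, g3⟩
    refine ⟨?_, ?_, ?_, g3⟩
    · rw [← map_mul]
      have : tm K m * tm K m = 1 := by
        funext i
        show (-1 : Kˣ) ^ _ * (-1) ^ _ = 1
        rw [← mul_pow, neg_mul_neg, one_mul, one_pow]
      rw [this, map_one]
    · intro X hX
      funext i
      have h5 := congrFun hX i
      rw [L_Phi] at h5 ⊢
      rcases i with i | r
      · rw [Sum.elim_inl, one_mul]
      · rw [Sum.elim_inr] at h5 ⊢
        by_cases h6 : X (Sum.inr r) = 0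
        · rw [h6, mul_zero]
        · have h7 : rtv r c = 1 := Units.ext (mul_right_cancel₀ h6 (h5.trans (one_mul _).symm))
          have h8 := (rtv_iff hz h r.2).1 h7
          have h9 := g1 (rowR r) (by rw [← TR_eq]; exact List.mem_map.2 ⟨r, List.mem_range.2 r.2, rfl⟩)
          rw [h8, Bool.not_true, Bool.false_or, ← rtv_tm_iff h2] at h9
          rw [h9, Units.val_one, one_mul]
    · intro v hv
      funext s
      have h5 := congrFun hv s
      rw [hV] at h5 ⊢
      rw [Pi.neg_apply]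
      by_cases h6 : v s = 0
      · rw [h6, mul_zero, neg_zero]
      · have h7 : wt s c = 1 := Units.ext (mul_right_cancel₀ h6 (h5.trans (one_mul _).symm))
        have h8 := (wt_iff hz hc h s).1 h7
        have h9 := g2 (rowW (nn s)) (by
          rw [← TW_eq]
          exact List.mem_map.2 ⟨nn s, List.mem_filter.2 ⟨List.mem_range.2 (nn_lt s), by
            rw [decide_eq_true_eq]; exact rt_nn s⟩, rfl⟩)
        rw [h8, Bool.not_true, Bool.false_or, Bool.not_eq_true'] at h9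
        rcases wt_tm (K := K) m s with ⟨h10, -⟩ | ⟨-, h10⟩
        · rw [h9] at h10; exact absurd h10 (by simp)
        · rw [h10, Units.val_neg, Units.val_one, neg_one_mul]

theorem fix_conj {G M : Type*} [Group G] [AddCommGroup M] [Module K M] (ρ : Representation K G M) {x τ : G} {e : K}
    (h : ∀ X, ρ x X = X → ρ τ X = e • X) (g : G) (X : M) (hX : ρ (g * x * g⁻¹) X = X) : ρ (g * τ * g⁻¹) X = e • X := by
  have h1 : ρ x (ρ g⁻¹ X) = ρ g⁻¹ X := by
    rw [← Module.End.mul_apply, ← map_mul]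
    conv_rhs => rw [← hX]
    rw [← Module.End.mul_apply, ← map_mul]
    congr 2
    group
  have h2 := h _ h1
  have h3 : ρ g (ρ τ (ρ g⁻¹ X)) = e • X := by
    rw [h2, map_smul, ← Module.End.mul_apply, ← map_mul, mul_inv_cancel, map_one, Module.End.one_apply]
  rw [map_mul, map_mul, Module.End.mul_apply, Module.End.mul_apply, h3]

theorem Tw.conj {x τ : Gh K} (h : Tw x τ) (g : Gh K) : Tw (g * x * g⁻¹) (g * τ * g⁻¹) := by
  obtain ⟨h1, h2, h3, h4⟩ := h
  refine ⟨?_, ?_, ?_, ?_⟩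
  · have : g * τ * g⁻¹ * (g * τ * g⁻¹) = g * (τ * τ) * g⁻¹ := by group
    rw [this, h1, mul_one, mul_inv_cancel]
  · intro X hX
    have h5 := fix_conj (L K) (e := 1) (fun X hX => by rw [h2 X hX, one_smul]) g X hX
    rwa [one_smul] at h5
  · intro v hv
    have h5 := fix_conj (V K) (e := -1) (fun X hX => by rw [h3 X hX, neg_one_smul]) g v hv
    rwa [neg_one_smul] at h5
  · rw [Cfsg.Agent.H952.F4.TabLin.ev_conj, h4]

/-- **Existence and uniqueness of the involution.** -/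
theorem exists_tau (h2 : (2 : K) ≠ 0) {z : Kˣ} (hz : IsPrimitiveRoot z 5) {x : Gh K}
    (h : ∃ (g : Gh K) (c : Fin chevE7.rank → Kˣ), Phi K c = g * x * g⁻¹ ∧ c ^ 5 = 1) (h16 : ev (V K x) 1 = 16) :
    ∃ τ, Tw x τ ∧ ∀ τ', Tw x τ' → τ' = τ := by
  obtain ⟨g, c, y, h1, h3, h4, h5⟩ := exists_alc (by norm_num) hz h
  have h6 : cnt0 (List.ofFn y) = 16 := by
    have h7 : ev (V K (Phi K c)) 1 = cnt0 (List.ofFn y) := ev_Phi _ _ fun s => wt_iff hz h3 h4 s
    rw [← h7, h1, Cfsg.Agent.H952.F4.TabLin.ev_conj, h16]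
  have h7 := allAlc_spec th7 5 _ (by decide) alc_chk (List.ofFn y) (by simp [th7]) h5
  rw [h6] at h7
  have h8 : cgood (List.ofFn y) 128 = 1 := by
    simpa using h7
  rw [cgood_eq, Finset.card_eq_one] at h8
  obtain ⟨m, hm⟩ := h8
  have h9 : ∀ m', m' < 128 ∧ good (List.ofFn y) (bits m') = true ↔ m' = m := by
    intro m'
    have h10 := Finset.ext_iff.1 hm m'
    rw [Finset.mem_filter, Finset.mem_range, Finset.mem_singleton] at h10
    exact h10
  obtain ⟨h10, h11⟩ := (h9 m).2 rfl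
  have h12 := (tw_good h2 hz h3 h4 m).2 h11
  refine ⟨g⁻¹ * Phi K (tm K m) * g, ?_, ?_⟩
  · have h13 := h12.conj g⁻¹
    rw [h1] at h13
    have e1 : g⁻¹ * (g * x * g⁻¹) * g⁻¹⁻¹ = x := by group
    rwa [e1, inv_inv] at h13
  · intro τ' hτ'
    have h13 := hτ'.conj g
    rw [← h1] at h13
    obtain ⟨t, ht⟩ : ∃ t, Phi K t = g * τ' * g⁻¹ := by
      apply exists_Phi_of_fix h2
      intro i
      apply h13.2.1
      funext j
      rw [L_Phi]
      rcases j with j | j
      · rw [Sum.elim_inl, one_mul]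
      · rw [Pi.single_eq_of_ne (by simp), mul_zero]
    have htt : t * t = 1 := by
      apply (isPhi (K := K)).inj
      rw [map_mul, ht, map_one]
      exact h13.1
    obtain ⟨m', hm', rfl⟩ := exists_tm htt
    rw [← ht] at h13
    have h14 := (h9 m').1 ⟨hm', (tw_good h2 hz h3 h4 m').1 h13⟩
    rw [← h14, ht]
    group

end ev

end Cfsg.Agent.R2.T1.Five
end

-- part: R2/T1/Five/InvF
section
set_option linter.all false
open scoped Cfsg.Agent.FastGrp

/-!
# The involution attached to an element of order 5 with 16 fixed weights, over finite fields (helper25)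
-/

set_option autoImplicit false
set_option maxRecDepth 100000

namespace Cfsg.Agent.R2.T1.Five

open Cfsg Cfsg.Lie Module
open Cfsg.Agent.H943.E7V.Block (D1 rho)
open Cfsg.Agent.H952.F4 (ev es)
open Cfsg.Agent.R2.T1

universe u v

theorem Tw.ad_ne {K : Type u} [Field K] (h2 : (2 : K) ≠ 0) {x τ : Gh K} (h : Tw x τ) : ad K τ ≠ 1 := by
  intro h1
  rcases ad_eq_one_iff.1 h1 with h3 | h3
  · have h4 := h.2.2.2
    rw [h3] at h4
    have h5 : ev (1 : Module.End K (D1 → K)) 1 = 56 := by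
      have h6 : (1 : Module.End K (D1 → K)).eigenspace 1 = ⊤ := by
        rw [eq_top_iff]
        intro v _
        rw [Module.End.mem_eigenspace_iff, one_smul]
        rfl
      show finrank K ↥((1 : Module.End K (D1 → K)).eigenspace 1) = 56
      rw [h6, finrank_top]
      exact finrank_V
    omega
  · have h4 := h.2.2.2
    rw [h3] at h4
    have h5 : ev (-1 : Module.End K (D1 → K)) 1 = 0 := by
      have h6 : (-1 : Module.End K (D1 → K)).eigenspace 1 = ⊥ := by
        rw [eq_bot_iff]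
        intro v hv
        rw [Module.End.mem_eigenspace_iff, one_smul] at hv
        have h7 : -v = v := hv
        rw [Submodule.mem_bot]
        funext i
        have h8 := congrFun h7 i
        rw [Pi.neg_apply] at h8
        have h9 : (2 : K) * v i = 0 := by linear_combination -h8
        exact (mul_eq_zero.1 h9).resolve_left h2
      show finrank K ↥((-1 : Module.End K (D1 → K)).eigenspace 1) = 0
      rw [h6, finrank_bot]
    omega

theorem fun_injective {F : Type u} {K : Type v} [Field F] [Field K] (f : F →+* K) {n : Type*} {x y : n → F}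
    (h : (fun i => f (x i)) = fun i => f (y i)) : x = y := by
  funext i
  exact f.injective (congrFun h i)

theorem Tw.map {K : Type u} [Field K] (s : K →+* K) (hs : Function.Surjective s) {x τ : Gh K} (h : Tw x τ) :
    Tw (emb s x) (emb s τ) := by
  obtain ⟨h1, h2, h3, h4⟩ := h
  have hlift : ∀ {n : Type} (y : n → K), ∃ y0 : n → K, y = fun i => s (y0 i) := by
    intro n y
    choose g hg using hs
    exact ⟨fun i => g (y i), funext fun i => (hg (y i)).symm⟩
  refine ⟨?_, ?_, ?_, ?_⟩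
  · rw [← map_mul, h1, map_one]
  · intro X hX
    obtain ⟨X0, rfl⟩ := hlift X
    rw [L_emb] at hX
    rw [L_emb, h2 X0 (fun_injective s hX)]
  · intro v hv
    obtain ⟨v0, rfl⟩ := hlift v
    rw [V_emb] at hv
    rw [V_emb, h3 v0 (fun_injective s hv)]
    funext i
    rw [Pi.neg_apply, Pi.neg_apply, map_neg]
  · have h5 := ev_V s τ 1
    rw [map_one] at h5
    rw [h5, h4]

/-- **The involution over finite fields.** -/
theorem exists_tauF {F : Type u} [Field F] [Finite F] (h2 : (2 : F) ≠ 0) (h5 : (5 : F) ≠ 0) {x : Gh F} (hx : x ^ 5 = 1)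
    (h16 : ev (V F x) 1 = 16) :
    ∃ τ : Gh F, τ * τ = 1 ∧ ad F τ ≠ 1 ∧ τ * x = x * τ ∧ ∀ X, L F x X = X → L F τ X = X := by
  have := Fintype.ofFinite F
  obtain ⟨p, hp⟩ := CharP.exists F
  have hpp : Fact p.Prime := ⟨CharP.char_is_prime F p⟩
  have hcop : (5 : ℕ).Coprime p := by
    rw [Nat.coprime_primes (by norm_num) hpp.out]
    rintro rfl
    apply h5
    exact_mod_cast CharP.cast_eq_zero F 5
  set K := AlgebraicClosure F with hK
  set f : F →+* K := algebraMap F K with hf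
  have hfr := frame p (by norm_num : (5 : ℕ) ≠ 0) hcop hx
  have h2K : (2 : K) ≠ 0 := by
    have h := (map_ne_zero f).2 h2
    rwa [map_ofNat] at h
  have h5K : ((5 : ℕ) : K) ≠ 0 := by
    have h := (map_ne_zero f).2 h5
    rw [map_ofNat] at h
    exact_mod_cast h
  have : NeZero ((5 : ℕ) : K) := ⟨h5K⟩
  obtain ⟨ζ, hζ⟩ : ∃ ζ : K, IsPrimitiveRoot ζ 5 := HasEnoughRootsOfUnity.exists_primitiveRoot K 5
  have hz : IsPrimitiveRoot (Units.mk0 ζ (hζ.ne_zero (by norm_num))) 5 := by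
    rw [← IsPrimitiveRoot.coe_units_iff]
    exact hζ
  have h16' : ev (V K (emb f x)) 1 = 16 := by rw [ev_V_one, h16]
  obtain ⟨τ, hτ, hu⟩ := exists_tau h2K hz hfr h16'
  let s : K →+* K := (FiniteField.frobeniusAlgEquivOfAlgebraic F K : K →+* K)
  have hs : ∀ t, s t = t ^ Nat.card F := by
    intro t
    rw [Nat.card_eq_fintype_card]
    rfl
  have hsurj : Function.Surjective s := (FiniteField.frobeniusAlgEquivOfAlgebraic F K).surjective
  have h7 : emb s τ = τ := by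
    apply hu
    have h8 := hτ.map s hsurj
    rwa [emb_frob f s hs] at h8
  obtain ⟨τ0, rfl⟩ := exists_of_emb_eq f s hs h7
  have hinj := emb_injective f
  refine ⟨τ0, ?_, ?_, ?_, ?_⟩
  · apply hinj
    rw [map_mul, hτ.1, map_one]
  · intro h8
    exact hτ.ad_ne h2K ((ad_emb_eq_one_iff f τ0).2 h8)
  · have h8 := hu _ (by
      have h9 := hτ.conj (emb f x)
      have e : emb f x * emb f x * (emb f x)⁻¹ = emb f x := by group
      rwa [e] at h9)
    apply hinj
    rw [map_mul, map_mul]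
    nth_rewrite 1 [← h8]
    group
  · intro X hX
    apply fun_injective f
    rw [← L_emb]
    apply hτ.2.1
    rw [L_emb, hX]

end Cfsg.Agent.R2.T1.Five
end

-- part: R2/T1/Five/CaseI
section
set_option linter.all false
open scoped Cfsg.Agent.FastGrp

/-!
# `n = 5`, the elements of order 5 are rational, odd characteristic (helper25)

* `no_inv` : if the elements of order 5 of `A₅` have 16 eigenvalues 1 on the module of degree 56, then `A₅` has no non-zero
  fixed vector on the adjoint module.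
-/

set_option autoImplicit false
set_option maxRecDepth 100000

namespace Cfsg.Agent.R2.T1.Five

open Cfsg Cfsg.Lie Module Equiv Equiv.Perm
open Cfsg.Agent.H943.E7V.Block (D1 rho)
open Cfsg.Agent.H952.F4 (ev es MaxAlt)
open Cfsg.Agent.R2.T1

universe u

section

variable {F : Type u} [Field F] [Finite F] {H : Subgroup ↥(chevE7.group F)} {φ : A5 →* ↥(chevE7.group F)}

/-- the index of `A₅` in the maximal subgroup is at most 2 -/
theorem coset (hM : MaxAlt H 5 φ) {h h' : ↥(chevE7.group F)} (hh : h ∈ H) (hh' : h' ∈ H) (h1 : h ∉ φ.range)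
    (h2 : h' ∉ φ.range) : h * h' ∈ φ.range := by
  have hH : Finite ↥H := inferInstance
  let N : Subgroup ↥H := φ.range.subgroupOf H
  have hN : Nat.card ↥N = 60 := by
    have e1 : Nat.card ↥N = Nat.card ↥φ.range := Nat.card_congr (Subgroup.subgroupOfEquivOfLe hM.le).toEquiv
    have e2 : Nat.card ↥φ.range = Nat.card A5 := Nat.card_congr (MonoidHom.ofInjective hM.inj).toEquiv.symm
    have e3 : Nat.card A5 = 60 := by
      have h := nat_card_alternatingGroup (α := Fin 5)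
      rw [Nat.card_fin] at h
      exact h.trans (by decide)
    rw [e1, e2, e3]
  have hc := hM.card
  rw [if_neg (by norm_num)] at hc
  have h5 : Nat.factorial 5 = 120 := by decide
  rw [h5] at hc
  have hi := N.card_mul_index
  rw [hN] at hi
  have hi1 : N.index ≠ 1 := by
    intro h3
    rw [Subgroup.index_eq_one] at h3
    have h4 : (⟨h, hh⟩ : ↥H) ∈ N := by rw [h3]; exact Subgroup.mem_top _
    exact h1 (Subgroup.mem_subgroupOf.1 h4)
  have hi0 : N.index ≠ 0 := Subgroup.index_ne_zero_of_finite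
  have hi2 : N.index = 2 := by omega
  have h3 := (Subgroup.mul_mem_iff_of_index_two hi2 (a := ⟨h, hh⟩) (b := ⟨h', hh'⟩)).2
    ⟨fun h4 => absurd (Subgroup.mem_subgroupOf.1 h4) h1, fun h4 => absurd (Subgroup.mem_subgroupOf.1 h4) h2⟩
  exact Subgroup.mem_subgroupOf.1 h3

theorem LK_mul (g h : ↥(chevE7.group F)) (v : chevE7.Idx → F) : LK F (g * h) v = LK F g (LK F h v) := by
  rw [map_mul, Module.End.mul_apply]

/-- a fixed line -/
theorem exists_line (hM : MaxAlt H 5 φ) (hW : Representation.invariants (MonoidHom.comp (LK F) φ) ≠ ⊥) :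
    ∃ w : chevE7.Idx → F, w ≠ 0 ∧ (∀ a, LK F (φ a) w = w) ∧ ∀ h ∈ H, LK F h w = w ∨ LK F h w = -w := by
  obtain ⟨v, hv, hv0⟩ := Submodule.exists_mem_ne_zero_of_ne_bot hW
  rw [Representation.mem_invariants] at hv
  have hv' : ∀ a, LK F (φ a) v = v := hv
  by_cases hall : ∀ h ∈ H, LK F h v = v
  · exact ⟨v, hv0, hv', fun h hh => Or.inl (hall h hh)⟩
  · push Not at hall
    obtain ⟨h, hh, hne⟩ := hall
    have hhr : h ∉ φ.range := by
      rintro ⟨a, rfl⟩
      exact hne (hv' a)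
    have hfix : ∀ a, LK F (φ a) (LK F h v) = LK F h v := by
      intro a
      obtain ⟨b, hb⟩ := hM.norm h⁻¹ (inv_mem hh) _ ⟨a, rfl⟩
      rw [inv_inv] at hb
      have e : φ a * h = h * φ b := by rw [hb]; group
      rw [← LK_mul, e, LK_mul, hv']
    have hsq : ∀ k ∈ H, k ∉ φ.range → LK F k (LK F h v) = v := by
      intro k hk hkr
      obtain ⟨a, ha⟩ := coset hM hk hh hkr hhr
      rw [← LK_mul, ← ha, hv']
    have hkv : ∀ k ∈ H, k ∉ φ.range → LK F k v = LK F h v := by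
      intro k hk hkr
      have h1 : k⁻¹ ∉ φ.range := fun h2 => hkr (by simpa using inv_mem h2)
      have h2 := hsq k⁻¹ (inv_mem hk) h1
      nth_rewrite 1 [← h2]
      rw [← LK_mul, mul_inv_cancel, map_one, Module.End.one_apply]
    refine ⟨v - LK F h v, sub_ne_zero.2 (Ne.symm hne), fun a => ?_, fun k hk => ?_⟩
    · rw [map_sub, hv', hfix]
    · by_cases hkr : k ∈ φ.range
      · obtain ⟨a, rfl⟩ := hkr
        left
        rw [map_sub, hv', hfix]
      · right
        rw [map_sub, hsq k hk hkr, hkv k hk hkr, neg_sub]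

/-- **no fixed vector on the adjoint module if the elements of order 5 are rational** -/
theorem no_inv (h2 : (2 : F) ≠ 0) (h5 : (5 : F) ≠ 0) (hL : Irr (L F)) (hM : MaxAlt H 5 φ) {x : Gh F} (hx : x ^ 5 = 1)
    (hxw : ad F x = φ w0) (h16 : ev (V F x) 1 = 16) : Representation.invariants (MonoidHom.comp (LK F) φ) = ⊥ := by
  by_contra hW
  obtain ⟨w, hw0, hwφ, hwH⟩ := exists_line hM hW
  obtain ⟨τ, t1, t2, t3, t4⟩ := exists_tauF h2 h5 hx h16
  have hfix : L F x w = w := by rw [L_eq, hxw, hwφ]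
  have hτw : L F τ w = w := t4 w hfix
  let U : Submodule F (chevE7.Idx → F) := Submodule.span F {w}
  have hU : ∀ {g : Gh F} {c : F}, L F g w = c • w → ∀ u ∈ U, L F g u ∈ U := by
    intro g c hg u hu
    obtain ⟨t, rfl⟩ := Submodule.mem_span_singleton.1 hu
    rw [map_smul, hg]
    exact Submodule.smul_mem _ _ (Submodule.smul_mem _ _ (Submodule.mem_span_singleton_self w))
  have hstab : Stab (L F) H U := by
    intro g hg
    rcases hwH _ hg with h | h
    · exact hU (c := 1) (by rw [L_eq, h, one_smul])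
    · exact hU (c := -1) (by rw [L_eq, h, neg_one_smul])
  have hfr : finrank F ↥U = 1 := finrank_span_singleton hw0
  have hU0 : U ≠ ⊥ := by
    intro h
    rw [h, finrank_bot] at hfr
    exact absurd hfr (by norm_num)
  have hU1 : U ≠ ⊤ := by
    intro h
    rw [h, finrank_top, Module.finrank_fintype_fun_eq_card, Fintype.card_sum, Fintype.card_fin, Fintype.card_fin] at hfr
    exact absurd hfr (by decide)
  have hH : ad F τ ∈ H := blue_of hM.coatom hL hstab hU0 hU1 (hU (c := 1) (by rw [hτw, one_smul]))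
  apply t2
  apply cen_five hM hH
  · rw [← hxw, ← map_mul, ← map_mul, t3]
  · rw [← map_mul, t1, map_one]

end

end Cfsg.Agent.R2.T1.Five
end

-- part: R2/T1/Five/SFive
section
prune_inst 0x7f00c2010400122000000180502a20026644c000192006b8001d9400b440746f7622807a721ece01a14821aae5420000040000001700038000020000c00411901a090aa5206b349a10460009780b007100000000000000000000000000000041004000000000
set_option linter.all false
open scoped Cfsg.Agent.FastGrp

/-!
# The outer elements of the symmetric group of degree 5 (helper25)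

* `outer` : if `H` is not the image of `φ`, there is `h ∈ H` with `h² = φ a₀` and `h φ(b₀) h⁻¹ = φ b₁`;
* `mem_or` : the elements of `H` modulo the image of `φ`.
-/

set_option autoImplicit false
set_option linter.unusedSectionVars false
set_option maxRecDepth 100000

namespace Cfsg.Agent.R2.T1.Five

open Cfsg Cfsg.Lie Module Equiv Equiv.Perm
open Cfsg.Agent.H952.F4 (MaxAlt)
open Cfsg.Agent.R2.T1

/-- the conjugate of `b₀` under a 4-cycle with square `a₀` -/
def b1 : A5 := b0 * a0 * b0⁻¹ * a0 * b0 * a0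

theorem conj_a0 : ∀ a : A5, a * a = 1 → a ≠ 1 → ∃ g : A5, g * a0 * g⁻¹ = a := by (set_option synthInstance.maxSize 9000 in open scoped Cfsg.Agent.Lib.FastPerm in decide +kernel)

theorem conj_b0 : ∀ b : A5, b ^ 3 = 1 → b ≠ 1 → (a0 * b) ^ 5 = 1 →
    ∃ g : A5, g * a0 * g⁻¹ = a0 ∧ (g * b0 * g⁻¹ = b ∨ g * b1 * g⁻¹ = b) := by (set_option synthInstance.maxSize 9000 in open scoped Cfsg.Agent.Lib.FastPerm in decide +kernel)

theorem w0_conj : ∀ g : A5, g * w0 * g⁻¹ ≠ w0 ^ 2 := by (set_option synthInstance.maxSize 9000 in open scoped Cfsg.Agent.Lib.FastPerm in decide +kernel)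

theorem b1_rel : b1 * a0 * b1⁻¹ * a0 * b1 * a0 = a0 * b0 * a0⁻¹ := by decide +kernel

universe u

section

variable {F : Type u} [Field F] [Finite F] {H : Subgroup ↥(chevE7.group F)} {φ : A5 →* ↥(chevE7.group F)}

theorem cen_ab (hM : MaxAlt H 5 φ) {z : ↥(chevE7.group F)} (h1 : φ a0 * z = z * φ a0) (h2 : φ b0 * z = z * φ b0) :
    z = 1 := by
  refine cen_gen hM h1 ?_
  rw [w0, map_mul, mul_assoc, h2, ← mul_assoc, h1, mul_assoc]

/-- **outer elements** -/
theorem outer (hM : MaxAlt H 5 φ) (hH : H ≠ φ.range) :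
    ∃ h ∈ H, h * h = φ a0 ∧ h * φ b0 * h⁻¹ = φ b1 ∧ h ∉ φ.range := by
  have hinj := hM.inj
  rcases hM.five rfl with h | hrat
  · exact absurd h hH
  obtain ⟨h0, hh0, hw⟩ := hrat (φ w0) ⟨w0, rfl⟩ (fun h => w0_ne (hinj (by rw [h, map_one]))) (by
    rw [← map_pow, w0_pow, map_one])
  obtain ⟨a', ha'⟩ := hM.norm h0 hh0 _ ⟨a0, rfl⟩
  obtain ⟨b', hb'⟩ := hM.norm h0 hh0 _ ⟨b0, rfl⟩
  have a1 : a' * a' = 1 := by
    apply hinj
    rw [map_mul, ha', map_one]
    have : h0 * φ a0 * h0⁻¹ * (h0 * φ a0 * h0⁻¹) = h0 * (φ a0 * φ a0) * h0⁻¹ := by group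
    rw [this, ← map_mul, a0_sq, map_one, mul_one, mul_inv_cancel]
  have a2 : a' ≠ 1 := by
    rintro rfl
    rw [map_one] at ha'
    apply a0_ne
    apply hinj
    have : φ a0 = h0⁻¹ * (h0 * φ a0 * h0⁻¹) * h0 := by group
    rw [this, ← ha', map_one]
    group
  obtain ⟨g1, hg1⟩ := conj_a0 a' a1 a2
  set b2 := g1⁻¹ * b' * g1 with hb2
  have hh1 : φ g1⁻¹ * h0 ∈ H := mul_mem (hM.le ⟨_, rfl⟩) hh0
  set h1 := φ g1⁻¹ * h0 with hh1def
  clear_value h1
  have e1 : h1 * φ a0 * h1⁻¹ = φ a0 := by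
    have : h1 * φ a0 * h1⁻¹ = φ g1⁻¹ * (h0 * φ a0 * h0⁻¹) * (φ g1⁻¹)⁻¹ := by rw [hh1def]; group
    rw [this, ← ha', ← map_inv, ← map_mul, ← map_mul, ← hg1]
    congr 1
    group
  have e2 : h1 * φ b0 * h1⁻¹ = φ b2 := by
    have : h1 * φ b0 * h1⁻¹ = φ g1⁻¹ * (h0 * φ b0 * h0⁻¹) * (φ g1⁻¹)⁻¹ := by rw [hh1def]; group
    rw [this, ← hb', ← map_inv, ← map_mul, ← map_mul, hb2, inv_inv]
  have c1 : b2 ^ 3 = 1 := by
    apply hinj
    rw [map_pow, ← e2, conj_pow, ← map_pow, b0_cube, map_one, mul_one, mul_inv_cancel]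
  have c2 : b2 ≠ 1 := by
    intro h
    rw [h, map_one] at e2
    apply b0_ne
    apply hinj
    have : φ b0 = h1⁻¹ * (h1 * φ b0 * h1⁻¹) * h1 := by group
    rw [this, e2, map_one]
    group
  have c3 : (a0 * b2) ^ 5 = 1 := by
    apply hinj
    rw [map_pow, map_mul, ← e1, ← e2]
    have : h1 * φ a0 * h1⁻¹ * (h1 * φ b0 * h1⁻¹) = h1 * (φ a0 * φ b0) * h1⁻¹ := by group
    rw [this, conj_pow, ← map_mul, ← map_pow]
    show h1 * φ (w0 ^ 5) * h1⁻¹ = _
    rw [w0_pow, map_one, mul_one, mul_inv_cancel]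
  obtain ⟨g2, hg2, hg3⟩ := conj_b0 b2 c1 c2 c3
  have hh2 : φ g2⁻¹ * h1 ∈ H := mul_mem (hM.le ⟨_, rfl⟩) hh1
  set h2 := φ g2⁻¹ * h1 with hh2def
  clear_value h2
  have e3 : h2 * φ a0 * h2⁻¹ = φ a0 := by
    have : h2 * φ a0 * h2⁻¹ = φ g2⁻¹ * (h1 * φ a0 * h1⁻¹) * (φ g2⁻¹)⁻¹ := by rw [hh2def]; group
    rw [this, e1, ← map_inv, ← map_mul, ← map_mul]
    congr 1
    nth_rewrite 1 [← hg2]
    group
  have e4 : h2 * φ b0 * h2⁻¹ = φ (g2⁻¹ * b2 * g2) := by
    have : h2 * φ b0 * h2⁻¹ = φ g2⁻¹ * (h1 * φ b0 * h1⁻¹) * (φ g2⁻¹)⁻¹ := by rw [hh2def]; group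
    rw [this, e2, ← map_inv, ← map_mul, ← map_mul, inv_inv]
  rcases hg3 with hg3 | hg3
  · exfalso
    have e5 : g2⁻¹ * b2 * g2 = b0 := by rw [← hg3]; group
    rw [e5] at e4
    have e6 : h2 = 1 := by
      apply cen_ab hM
      · rw [← e3]; nth_rewrite 2 [e3]; group
      · rw [← e4]; nth_rewrite 2 [e4]; group
    have e7 : h0 = φ (g1 * g2) := by
      rw [hh2def, hh1def, map_inv, map_inv, inv_mul_eq_one, ← mul_left_cancel_iff (a := φ g1), mul_inv_cancel_left] at e6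
      rw [map_mul, e6]
    apply w0_conj (g1 * g2)
    apply hinj
    rw [map_mul, map_mul, map_inv, ← e7, hw, map_pow]
  · have e5 : g2⁻¹ * b2 * g2 = b1 := by rw [← hg3]; group
    rw [e5] at e4
    have hcomm : h2 * φ a0 = φ a0 * h2 := by
      nth_rewrite 2 [← e3]
      group
    have e6 : (φ a0)⁻¹ * (h2 * h2) = 1 := by
      apply cen_ab hM
      · have h3 : h2 * h2 * φ a0 = φ a0 * (h2 * h2) := by
          rw [mul_assoc, hcomm, ← mul_assoc, hcomm, mul_assoc]
        rw [mul_inv_cancel_left, mul_assoc, h3, inv_mul_cancel_left]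
      · -- the conjugate of `b₁`
        have e7 : h2 * φ b1 * h2⁻¹ = φ (a0 * b0 * a0⁻¹) := by
          rw [← b1_rel]
          have e8 : h2 * φ b1 * h2⁻¹ = (h2 * φ b0 * h2⁻¹) * (h2 * φ a0 * h2⁻¹) * (h2 * φ b0 * h2⁻¹)⁻¹ * (h2 * φ a0 * h2⁻¹) *
              (h2 * φ b0 * h2⁻¹) * (h2 * φ a0 * h2⁻¹) := by
            rw [b1]
            simp only [map_mul, map_inv]
            group
          rw [e8, e3, e4]
          simp only [map_mul, map_inv]
        have e8 : h2 * h2 * φ b0 * (h2 * h2)⁻¹ = φ a0 * φ b0 * (φ a0)⁻¹ := by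
          have : h2 * h2 * φ b0 * (h2 * h2)⁻¹ = h2 * (h2 * φ b0 * h2⁻¹) * h2⁻¹ := by group
          rw [this, e4, e7]
          simp only [map_mul, map_inv]
        have e9 : h2 * h2 * φ b0 = φ a0 * φ b0 * (φ a0)⁻¹ * (h2 * h2) := by
          rw [← e8]; group
        rw [mul_assoc (φ a0)⁻¹, e9]
        group
    refine ⟨h2, hh2, ?_, e4, ?_⟩
    · rw [inv_mul_eq_one] at e6
      exact e6.symm
    · rintro ⟨c, hc⟩
      have e9 : c * c = a0 := by
        apply hinj
        rw [map_mul, hc]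
        rw [inv_mul_eq_one] at e6
        exact e6.symm
      revert e9
      revert c
      intro c hc e9
      have : ∀ c : A5, c * c ≠ a0 := by (set_option synthInstance.maxSize 9000 in open scoped Cfsg.Agent.Lib.FastPerm in decide +kernel)
      exact this c e9

/-- the elements of `H` -/
theorem mem_or (hM : MaxAlt H 5 φ) {h : ↥(chevE7.group F)} (hh : h ∈ H) (hr : h ∉ φ.range) {g : ↥(chevE7.group F)}
    (hg : g ∈ H) : g ∈ φ.range ∨ g * h ∈ φ.range := by
  by_cases h1 : g ∈ φ.range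
  · exact Or.inl h1
  · exact Or.inr (coset hM hg hh h1 hr)

end

end Cfsg.Agent.R2.T1.Five

private theorem dce_5bac31a336ba : _root_.True := by
  try have : _root_.True := by simp only [_root_.Cfsg.Agent.R2.T1.Five.b1.eq_1]
  exact _root_.True.intro
end
end
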